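import Cfsg.Agent.Lib.Lie.Mult.Unit.Three

/-!
# Two orthogonal planes in dimension four
-/

set_option autoImplicit false
set_option linter.all false

namespace CfsgLib.Lie.Mult.Unit

open Matrix CfsgLib.SU CfsgLib.Classical.HermStab CfsgLib.Classical.HermTori
open scoped commutatorElement

universe u

variable {F : Type u} [Field F] [Fintype F] {q n k m : ℕ} {C : UCtx F q}

local notation "ext" => Fin.append

/-- the stabiliser of a vector -/
def fixG (v : Fin n → F) : Subgroup ↥(Cfsg.SU n F q) where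
  carrier := {X | X.1.1 *ᵥ v = v}
  one_mem' := su_one_mulVec v
  mul_mem' := fun {X Y} hX hY => (suMat_mulVec_mul X Y v).trans ((congrArg (X.1.1 *ᵥ ·) hY).trans hX)
  inv_mem' := fun {X} hX => by
    show (X⁻¹).1.1 *ᵥ v = v
    conv_lhs => rw [← show X.1.1 *ᵥ v = v from hX]
    exact su_inv_mulVec X v

theorem conj_kA_of_fix {X : ↥(Cfsg.SU (k + m) F q)}
    (hX : ∀ x : Fin m → F, ∃ x' : Fin m → F, (X⁻¹).1.1 *ᵥ ext (0 : Fin k → F) x = ext 0 x')
    {Y : ↥(Cfsg.SU (k + m) F q)} (hY : Y ∈ (kA (C := C) k m).range) :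
    X * Y * X⁻¹ ∈ (kA (C := C) k m).range := by
  refine mem_range_kA.2 fun x => ?_
  obtain ⟨x', hx'⟩ := hX x
  rw [suMat_mulVec_mul, suMat_mulVec_mul, hx', mem_range_kA.1 hY, ← hx', su_mulVec_inv]

theorem kA_kB_comm {X Y : ↥(Cfsg.SU (k + m) F q)} (hX : X ∈ (kA (C := C) k m).range)
    (hY : Y ∈ (kB (C := C) k m).range) : Commute X Y := by
  obtain ⟨a, rfl⟩ := hX
  obtain ⟨b, rfl⟩ := hY
  refine su_ext fun v => ?_
  rw [← app_lr v, suMat_mulVec_mul, suMat_mulVec_mul, kB_app, kA_app, kA_app, kB_app]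

theorem kA_inf_kB : (kA (C := C) k m).range ⊓ (kB (C := C) k m).range = ⊥ := by
  refine le_bot_iff.1 fun X hX => Subgroup.mem_bot.2 (su_ext fun v => ?_)
  obtain ⟨h1, h2⟩ := Subgroup.mem_inf.1 hX
  rw [← app_lr v, show ext (lc v) (rc v) = ext (lc v) (0 : Fin m → F) + ext (0 : Fin k → F) (rc v) by
    rw [app_add, add_zero, zero_add], Matrix.mulVec_add, mem_range_kB.1 h2, mem_range_kA.1 h1, su_one_mulVec]

theorem blockSU_range : (kA (C := C) k m).range ⊔ (kB (C := C) k m).range =
    (blockSU (k := k) (m := m) C).range := by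
  refine le_antisymm (sup_le ?_ ?_) ?_
  · rintro _ ⟨a, rfl⟩; exact ⟨_, rfl⟩
  · rintro _ ⟨a, rfl⟩; exact ⟨_, rfl⟩
  · rintro _ ⟨⟨a, b⟩, rfl⟩
    rw [show ((a, b) : ↥(Cfsg.SU k F q) × ↥(Cfsg.SU m F q)) = (a, 1) * (1, b) by
      rw [Prod.mk_mul_mk, mul_one, one_mul], map_mul]
    exact mul_mem (Subgroup.mem_sup_left ⟨a, rfl⟩) (Subgroup.mem_sup_right ⟨b, rfl⟩)

/-- the swap of the two planes -/
def swp : Equiv.Perm (Fin (2 + 2)) := Equiv.swap 0 2 * Equiv.swap 1 3

theorem swp_sign : Equiv.Perm.sign swp = 1 := by decide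

theorem swp_app (x y : Fin 2 → F) : (pm C swp swp_sign).1.1 *ᵥ ext x y = ext y x := by
  rw [pm_mulVec]
  funext l
  have hl : ∀ i : Fin 2, swp (Fin.castAdd 2 i) = Fin.natAdd 2 i := by decide
  have hr : ∀ i : Fin 2, swp (Fin.natAdd 2 i) = Fin.castAdd 2 i := by decide
  induction l using Fin.addCases with
  | left i => rw [Function.comp_apply, hl, Fin.append_right, Fin.append_left]
  | right i => rw [Function.comp_apply, hr, Fin.append_right, Fin.append_left]

theorem swp_sq : pm C swp swp_sign ^ 2 = 1 := su_ext fun x => by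
  rw [pm_pow, su_one_mulVec, show swp ^ 2 = 1 by decide]; rfl

theorem swp_conj_kA (a : ↥(Cfsg.SU 2 F q)) :
    pm C swp swp_sign * kA (C := C) 2 2 a * (pm C swp swp_sign)⁻¹ = kB (C := C) 2 2 a := su_ext fun v => by
  rw [← app_lr v, suMat_mulVec_mul, suMat_mulVec_mul, ← swp_app (C := C) (rc v) (lc v), su_inv_mulVec,
    kA_app, swp_app, swp_app, kB_app]

theorem swp_conj_kB (a : ↥(Cfsg.SU 2 F q)) :
    pm C swp swp_sign * kB (C := C) 2 2 a * (pm C swp swp_sign)⁻¹ = kA (C := C) 2 2 a := su_ext fun v => by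
  rw [← app_lr v, suMat_mulVec_mul, suMat_mulVec_mul, ← swp_app (C := C) (rc v) (lc v), su_inv_mulVec,
    kB_app, swp_app, swp_app, kA_app]

/-- the entries of the element joining the two planes -/
def dd (C : UCtx F q) (u : F) : Fin (2 + 2) → F := ext (![u, 1] : Fin 2 → F) (![C.bar u, 1] : Fin 2 → F)

theorem dd_swp (u : F) (hu : u * C.bar u = 1) (l : Fin (2 + 2)) : dd C u (swp l) * dd C u l = 1 := by
  have hl : ∀ i : Fin 2, swp (Fin.castAdd 2 i) = Fin.natAdd 2 i := by decide
  have hr : ∀ i : Fin 2, swp (Fin.natAdd 2 i) = Fin.castAdd 2 i := by decide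
  induction l using Fin.addCases with
  | left i =>
    rw [hl, dd, Fin.append_right, Fin.append_left]
    fin_cases i
    · exact (mul_comm _ _).trans hu
    · exact one_mul 1
  | right i =>
    rw [hr, dd, Fin.append_right, Fin.append_left]
    fin_cases i
    · exact hu
    · exact one_mul 1

include C in
/-- the element joining the two planes -/
theorem exists_join {u : F} (hu : u * C.bar u = 1) :
    ∃ g : ↥(Cfsg.SU (2 + 2) F q), (∀ x, g.1.1 *ᵥ x = fun l => dd C u l * x l) ∧
      (∀ i : ℕ, g ^ i ∈ (blockSU (k := 2) (m := 2) C).range ↔ u ^ i = 1) ∧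
      (∀ X ∈ (blockSU (k := 2) (m := 2) C).range, g * X * g⁻¹ ∈ (blockSU (k := 2) (m := 2) C).range) ∧
      pm C swp swp_sign * g * (pm C swp swp_sign)⁻¹ = g⁻¹ := by
  have hd : ∀ l, dd C u l * C.bar (dd C u l) = 1 := fun l => by
    induction l using Fin.addCases with
    | left i => rw [dd, Fin.append_left]; fin_cases i <;> simp [hu]
    | right i => rw [dd, Fin.append_right]; fin_cases i <;> simp [C.bar_bar, mul_comm _ u, hu]
  have hp : ∏ l, dd C u l = 1 := by
    rw [Fin.prod_univ_add, Fin.prod_univ_two, Fin.prod_univ_two]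
    simp only [dd, Fin.append_left, Fin.append_right]
    simp [hu]
  refine ⟨dgn _ hd hp, dgn_mulVec _ hd hp, fun i => ?_, fun X hX => ?_, ?_⟩
  · constructor
    · rintro ⟨⟨A, B⟩, hAB⟩
      have h : ∀ x : Fin 2 → F, A.1.1 *ᵥ x = (Matrix.diagonal fun j => (![u, 1] : Fin 2 → F) j ^ i) *ᵥ x := fun x => by
        funext j
        have h2 : blockMat A.1.1 B.1.1 *ᵥ ext x (0 : Fin 2 → F) = (dgn _ hd hp ^ i).1.1 *ᵥ ext x 0 := by
          rw [← hAB]; rfl
        rw [block_app, dgn_pow] at h2
        have h3 := congrFun h2 (Fin.castAdd 2 j)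
        rw [Fin.append_left, dd, Fin.append_left, Fin.append_left] at h3
        rw [h3, Matrix.mulVec_diagonal]
      have h1 := A.1.2
      rw [Matrix.ext_iff_mulVec.2 h, Matrix.det_diagonal, Fin.prod_univ_two] at h1
      simpa using h1
    · intro h
      rw [show dgn _ hd hp ^ i = 1 from su_ext fun x => by
        rw [dgn_pow, su_one_mulVec]
        funext l
        have : dd C u l ^ i = 1 := by
          induction l using Fin.addCases with
          | left j => rw [dd, Fin.append_left]; fin_cases j <;> simp [h]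
          | right j => rw [dd, Fin.append_right]; fin_cases j <;> simp [← map_pow, h]
        rw [this, one_mul]]
      exact one_mem _
  · obtain ⟨e, -, he⟩ := (diagT C (2 + 2)).inv_mem ⟨_, hd, dgn_mulVec _ hd hp⟩
    rw [← blockSU_range] at hX ⊢
    refine sup_conj (fun Y hY => Subgroup.mem_sup_left (conj_kA_of_fix (fun x => ⟨fun j => e (Fin.natAdd 2 j) * x j, ?_⟩) hY))
      (fun Y hY => Subgroup.mem_sup_right (conj_range_of_fix (fun x => ⟨fun j => e (Fin.castAdd 2 j) * x j, ?_⟩) hY)) hX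
    · rw [he]
      funext l
      induction l using Fin.addCases with
      | left j => rw [Fin.append_left, Fin.append_left]; try simp
      | right j => rw [Fin.append_right, Fin.append_right]; try simp
    · rw [he]
      funext l
      induction l using Fin.addCases with
      | left j => rw [Fin.append_left, Fin.append_left]; try simp
      | right j => rw [Fin.append_right, Fin.append_right]; try simp
  · refine eq_inv_of_mul_eq_one_left (su_ext fun x => ?_)
    rw [suMat_mulVec_mul, pm_conj_diag (C := C) swp swp_sign (dgn_mulVec _ hd hp), dgn_mulVec, su_one_mulVec]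
    funext l
    rw [← mul_assoc, dd_swp u hu, one_mul]

end CfsgLib.Lie.Mult.Unit
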