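import Cfsg.Agent.Lib.Lie.Mult.Unit.Kit
import Cfsg.Agent.Lib.Classical.HermTori
import Cfsg.Agent.Lib.Classical.HermOrder
import Cfsg.Agent.Lib.SU.Borel

/-!
# Coordinates for the parabolic of an isotropic point

The hyperbolic pair lives on the first two coordinates and an orthonormal basis of its perpendicular on the
remaining ones.
-/

set_option autoImplicit false
set_option linter.all false

namespace CfsgLib.Lie.Mult.Unit

open Matrix CfsgLib.SU CfsgLib.Classical.HermStab CfsgLib.Classical.HermTori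

universe u

variable {F : Type u} [Field F] [Fintype F] {q : ℕ} {C : UCtx F q} {k m : ℕ}

local notation "ext" => Fin.append

theorem form_app (x x' : Fin k → F) (y y' : Fin m → F) :
    C.form (ext x y) (ext x' y') = C.form x x' + C.form y y' := by
  rw [form_split C, lc_append, lc_append, rc_append, rc_append]

theorem app_lr (x : Fin (k + m) → F) : ext (lc x) (rc x) = x := Fin.append_castAdd_natAdd

theorem block_app (A : Matrix (Fin k) (Fin k) F) (B : Matrix (Fin m) (Fin m) F) (x : Fin k → F) (y : Fin m → F) :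
    blockMat A B *ᵥ ext x y = ext (A *ᵥ x) (B *ᵥ y) := by
  rw [← app_lr (blockMat A B *ᵥ ext x y), (blockMat_mulVec A B _).1, (blockMat_mulVec A B _).2, lc_append,
    rc_append]

theorem app_smul (c : F) (x : Fin k → F) (y : Fin m → F) : c • ext x y = ext (c • x) (c • y) := by
  rw [← app_lr (c • ext x y)]
  congr 1 <;> funext i <;> simp [lc, rc]

/-- the pair on the first two coordinates -/
def pairB (P0 : UPair C 2) (m : ℕ) : UPair C (2 + m) where
  e := ext P0.e 0
  f := ext P0.f 0
  ee := by rw [form_app, P0.ee, C.form_zero_left, add_zero]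
  ff := by rw [form_app, P0.ff, C.form_zero_left, add_zero]
  ef := by rw [form_app, P0.ef, C.form_zero_left, add_zero]

variable (P0 : UPair C 2)

theorem mem_perp_iff {w : Fin (2 + m) → F} : w ∈ (pairB P0 m).perp ↔ lc w = 0 := by
  constructor
  · intro hw
    have h1 := hw.1
    have h2 := hw.2
    conv at h1 => rw [← app_lr w]
    conv at h2 => rw [← app_lr w]
    rw [pairB, form_app, C.form_zero_right, add_zero] at h1 h2
    refine C.eq_zero_of_form fun v => ?_
    rw [P0.decomp v]
    have hp : P0.proj v = 0 := by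
      obtain ⟨u, -, -, hu⟩ := P0.exists_basis
      have := hu _ (P0.proj_mem v)
      rw [this]
      exact Finset.sum_eq_zero fun i _ => i.elim0
    simp only [hp, add_zero, C.form_add_right, C.form_smul_right, h1, h2, mul_zero]
  · intro h
    constructor <;>
    · show C.form w (ext _ 0) = 0
      rw [← app_lr w, form_app, h, C.form_zero_left, C.form_zero_right, add_zero]

theorem app_mem (y : Fin m → F) : ext (0 : Fin 2 → F) y ∈ (pairB P0 m).perp :=
  (mem_perp_iff P0).2 (lc_append _ _)

theorem eq_app {w : Fin (2 + m) → F} (hw : w ∈ (pairB P0 m).perp) : w = ext 0 (rc w) := by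
  conv_lhs => rw [← app_lr w, (mem_perp_iff P0).1 hw]

/-- the basis of the perpendicular -/
def bv (i : Fin m) : Fin (2 + m) → F := ext (0 : Fin 2 → F) (Pi.single i 1)

theorem bv_mem (i : Fin m) : bv i ∈ (pairB P0 m).perp := app_mem P0 _

theorem form_bv (i j : Fin m) : C.form (bv i) (bv j : Fin (2 + m) → F) = if i = j then 1 else 0 := by
  rw [bv, bv, form_app, C.form_zero_left, zero_add]
  simp [UCtx.form, Pi.single_apply, apply_ite C.bar, eq_comm]

theorem perp_span {w : Fin (2 + m) → F} (hw : w ∈ (pairB P0 m).perp) :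
    w = ∑ i, rc w i • bv i := by
  conv_lhs => rw [eq_app P0 hw]
  funext l
  induction l using Fin.addCases with
  | left l => simp [bv, Finset.sum_apply]
  | right l => simp [bv, Finset.sum_apply, Pi.single_apply]

/-- diagonal elements -/
theorem exists_dg {y : F} (hy : y ≠ 0) (d : Fin m → F) (hd : ∀ i, d i * C.bar (d i) = 1)
    (hprod : ∏ i, d i = C.bar y / y) :
    ∃ L : ↥(Cfsg.SU (2 + m) F q), (pairB P0 m).Diag L y ∧
      ∀ x : Fin m → F, L.1.1 *ᵥ ext (0 : Fin 2 → F) x = ext (0 : Fin 2 → F) (fun i => d i * x i) := by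
  classical
  have hdet : (P0.torus y hy).1.1.det = y / C.bar y := by
    show (C.rmap P0.e P0.f (y - 1) * C.rmap P0.f P0.e ((C.bar y)⁻¹ - 1)).det = _
    rw [Matrix.det_mul, C.det_rmap, C.det_rmap, P0.ef, P0.fe]
    ring
  have hby : C.bar y ≠ 0 := by simpa using hy
  refine ⟨C.mkSU (blockMat (P0.torus y hy).1.1 (Matrix.diagonal d)) ?_ (form_blockMat C
    (fun u v => C.mem_gu_iff.1 (P0.torus y hy).2 u v) fun u v => Finset.sum_congr rfl fun i _ => ?_), ⟨?_, ?_⟩, fun x => ?_⟩
  · rw [det_blockMat, hdet, Matrix.det_diagonal, hprod]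
    field_simp
  · simp only [Matrix.mulVec_diagonal, map_mul]
    linear_combination (u i * C.bar (v i)) * hd i
  · show blockMat _ _ *ᵥ ext P0.e 0 = y • ext P0.e 0
    rw [block_app, app_smul, Matrix.mulVec_zero, smul_zero]
    congr 1
    rw [P0.torus_mulVec, P0.ee, P0.ef]
    simp [sub_smul]
  · show blockMat _ _ *ᵥ ext P0.f 0 = (C.bar y)⁻¹ • ext P0.f 0
    rw [block_app, app_smul, Matrix.mulVec_zero, smul_zero]
    congr 1
    rw [P0.torus_mulVec, P0.fe, P0.ff]
    simp [sub_smul]
  · show blockMat _ _ *ᵥ ext 0 x = _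
    rw [block_app, Matrix.mulVec_zero]
    congr 1
    funext i
    rw [Matrix.mulVec_diagonal]

/-- the group of the right coordinates -/
def kB (k m : ℕ) : ↥(Cfsg.SU m F q) →* ↥(Cfsg.SU (k + m) F q) :=
  (blockSU C).comp (MonoidHom.inr _ _)

theorem kB_app (A : ↥(Cfsg.SU m F q)) (x : Fin k → F) (y : Fin m → F) :
    (kB (C := C) k m A).1.1 *ᵥ ext x y = ext x (A.1.1 *ᵥ y) := by
  show blockMat (1 : ↥(Cfsg.SU k F q)).1.1 A.1.1 *ᵥ ext x y = _
  rw [block_app, su_one_mulVec]

theorem kB_injective (k m : ℕ) : Function.Injective (kB (C := C) k m) := fun A B h => by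
  have h1 := congrArg (fun X : ↥(Cfsg.SU (k + m) F q) => X.1.1) h
  exact Subtype.ext (Subtype.ext (blockMat_inj h1).2)

theorem kB_diag (A : ↥(Cfsg.SU m F q)) : (pairB P0 m).Diag (kB (C := C) 2 m A) 1 := by
  constructor
  · show _ *ᵥ ext P0.e 0 = (1 : F) • ext P0.e 0
    rw [kB_app, Matrix.mulVec_zero, one_smul]
  · show _ *ᵥ ext P0.f 0 = (C.bar 1)⁻¹ • ext P0.f 0
    rw [kB_app, Matrix.mulVec_zero, map_one, inv_one, one_smul]

theorem range_perfect {G H : Type u} [Group G] [Group H] (f : G →* H) (hG : commutator G = ⊤) :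
    f.range ≤ ⁅f.range, f.range⁆ := by
  rw [MonoidHom.range_eq_map, ← Subgroup.map_commutator, ← commutator_def, hG]

include C in
theorem card_fixed (hF : Fintype.card F = q ^ 2) : Nat.card (CfsgLib.Descent.fixedField C.bar) = q := by
  have h := CfsgLib.Descent.card_fixedField_pow C.bar
  rw [C.order_two, hF] at h
  exact Nat.pow_left_injective two_ne_zero h

include C in
/-- elements of trace zero -/
theorem card_trace_zero (hF : Fintype.card F = q ^ 2) : Nat.card {t : F // t + C.bar t = 0} = q := by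
  obtain ⟨δ, hδ, hδ'⟩ := C.exists_trace_zero
  refine (Nat.card_congr ?_).trans (card_fixed (C := C) hF)
  exact
    { toFun := fun t => ⟨t.1 / δ, by
        show C.bar (t.1 / δ) = t.1 / δ
        rw [map_div₀, eq_neg_of_add_eq_zero_right t.2, eq_neg_of_add_eq_zero_right hδ', neg_div_neg_eq]⟩
      invFun := fun r => ⟨r.1 * δ, by
        rw [map_mul, show C.bar r.1 = r.1 from r.2, ← mul_add, hδ', mul_zero]⟩
      left_inv := fun t => Subtype.ext (div_mul_cancel₀ _ hδ)
      right_inv := fun r => Subtype.ext (mul_div_cancel_right₀ _ hδ) }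

include C in
/-- a generator of the norm one elements -/
theorem exists_unit_gen (hF : Fintype.card F = q ^ 2) :
    ∃ u : F, u * C.bar u = 1 ∧ ∀ j, u ^ j = 1 → q + 1 ∣ j := by
  obtain ⟨c, hc⟩ := IsCyclic.exists_monoid_generator (α := C.unitOne)
  have hord : orderOf c = q + 1 := by
    rw [orderOf_eq_card_of_forall_mem_zpowers (fun u => mem_powers_iff_mem_zpowers.1 (hc u)), C.card_unitOne hF]
  refine ⟨((c : Fˣ) : F), C.mem_unitOne.1 c.2, fun j hj => hord ▸ orderOf_dvd_of_pow_eq_one ?_⟩
  exact Subtype.ext (Units.ext (by rw [SubgroupClass.coe_pow, Units.val_pow_eq_pow_val]; exact hj))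

end CfsgLib.Lie.Mult.Unit
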