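import Cfsg.Agent.Lib.Lie.Mult.Unit.Embed
import Cfsg.Agent.Lib.Classical.SUTwoSL
import Cfsg.Agent.Lib.Lie.SylowCyclic
import Cfsg.Agent.S2118

/-!
# Diagonal elements, stabilisers of unit vectors, and two-dimensional blocks
-/

set_option autoImplicit false
set_option linter.all false

namespace CfsgLib.Lie.Mult.Unit

open Matrix CfsgLib.SU CfsgLib.Classical.HermStab CfsgLib.Classical.HermFrames
open scoped MatrixGroups

universe u

variable {F : Type u} [Field F] [Fintype F] {q n k m : ℕ} {C : UCtx F q}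

/-- a diagonal element -/
def dgn (d : Fin n → F) (hd : ∀ i, d i * C.bar (d i) = 1) (hp : ∏ i, d i = 1) : ↥(Cfsg.SU n F q) :=
  C.mkSU (Matrix.diagonal d) (by rw [Matrix.det_diagonal, hp]) fun u v => Finset.sum_congr rfl fun i _ => by
    simp only [Matrix.mulVec_diagonal, map_mul]
    linear_combination (u i * C.bar (v i)) * hd i

theorem dgn_mulVec (d : Fin n → F) (hd : ∀ i, d i * C.bar (d i) = 1) (hp : ∏ i, d i = 1) (x : Fin n → F) :
    (dgn d hd hp).1.1 *ᵥ x = fun i => d i * x i :=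
  funext fun i => Matrix.mulVec_diagonal _ _ _

/-- the monoid of norm one tuples of product one -/
theorem dgn_pow (d : Fin n → F) (hd : ∀ i, d i * C.bar (d i) = 1) (hp : ∏ i, d i = 1) (j : ℕ) (x : Fin n → F) :
    (dgn d hd hp ^ j).1.1 *ᵥ x = fun i => d i ^ j * x i := by
  induction j generalizing x with
  | zero => rw [pow_zero, su_one_mulVec]; simp
  | succ j ih =>
    rw [pow_succ, suMat_mulVec_mul, dgn_mulVec, ih]
    funext i
    ring

include C in
/-- transitivity on vectors of norm one -/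
theorem exists_su_move (hF : Fintype.card F = q ^ 2) (hn : 2 ≤ n) {v w : Fin n → F} (hv : C.form v v = 1)
    (hw : C.form w w = 1) : ∃ A : ↥(Cfsg.SU n F q), A.1.1 *ᵥ v = w := by
  classical
  obtain ⟨g, hg⟩ := exists_move_tuple C (ι := Fin 1) (t := fun _ => (Pi.single ⟨0, by omega⟩ 1 : Fin n → F))
    (t' := fun _ => w) (LinearIndependent.of_subsingleton 0 (by simp)) (LinearIndependent.of_subsingleton 0
      (fun h => by rw [h, C.form_zero_left] at hw; exact zero_ne_one hw)) (fun _ _ => by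
      rw [hw]; simp [UCtx.form, Pi.single_apply, apply_ite C.bar])
  obtain ⟨g', hg'⟩ := exists_move_tuple C (ι := Fin 1) (t := fun _ => v)
    (t' := fun _ => (Pi.single ⟨0, by omega⟩ 1 : Fin n → F)) (LinearIndependent.of_subsingleton 0
      (fun h => by rw [h, C.form_zero_left] at hv; exact zero_ne_one hv))
    (LinearIndependent.of_subsingleton 0 (by simp)) (fun _ _ => by
      rw [hv]; simp [UCtx.form, Pi.single_apply, apply_ite C.bar])
  have hu : ∀ h : ↥(Cfsg.GU n F q), h.1.1.det * C.bar h.1.1.det = 1 := fun h => C.mem_unitOne.1 (C.detHom h).2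
  set δ := C.bar (g.1.1.det * g'.1.1.det) with hδ
  have hδ1 : δ * C.bar δ = 1 := by
    rw [hδ, C.bar_bar, map_mul]
    linear_combination (g'.1.1.det * C.bar g'.1.1.det) * hu g + hu g'
  let d : Fin n → F := Function.update (fun _ => 1) ⟨1, by omega⟩ δ
  have hd : ∀ i, d i * C.bar (d i) = 1 := fun i => by
    simp only [d, Function.update_apply]
    split
    · exact hδ1
    · rw [map_one, one_mul]
  have hform : ∀ u w : Fin n → F, C.form (Matrix.diagonal d *ᵥ u) (Matrix.diagonal d *ᵥ w) = C.form u w :=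
    fun u w => Finset.sum_congr rfl fun i _ => by
      simp only [Matrix.mulVec_diagonal, map_mul]
      linear_combination (u i * C.bar (w i)) * hd i
  refine ⟨C.mkSU (g.1.1 * Matrix.diagonal d * g'.1.1) ?_ (fun u w => by
    simp only [← Matrix.mulVec_mulVec]
    rw [C.mem_gu_iff.1 g.2, hform, C.mem_gu_iff.1 g'.2]), ?_⟩
  · rw [Matrix.det_mul, Matrix.det_mul, Matrix.det_diagonal, Finset.prod_update_of_mem (Finset.mem_univ _)]
    simp only [Finset.prod_const_one, mul_one]
    rw [hδ, map_mul]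
    linear_combination (g'.1.1.det * C.bar g'.1.1.det) * hu g + hu g'
  · show (g.1.1 * Matrix.diagonal d * g'.1.1) *ᵥ v = w
    rw [← Matrix.mulVec_mulVec, ← Matrix.mulVec_mulVec, hg' 0,
      show Matrix.diagonal d *ᵥ (Pi.single ⟨0, by omega⟩ 1 : Fin n → F) = Pi.single ⟨0, by omega⟩ 1 by
        funext i
        rw [Matrix.mulVec_diagonal, Pi.single_apply]
        split
        · next h => subst h; simp [d, Fin.ext_iff]
        · rw [mul_zero]]
    exact hg 0

/-- the first basis vector -/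
def e0 (m : ℕ) : Fin (1 + m) → F := Fin.append (1 : Fin 1 → F) (0 : Fin m → F)

theorem form_e0 (m : ℕ) : C.form (e0 m) (e0 m : Fin (1 + m) → F) = 1 := by
  rw [e0, form_app, C.form_zero_left, add_zero]
  simp [UCtx.form]

theorem range_kB_one {X : ↥(Cfsg.SU (1 + m) F q)} :
    X ∈ (kB (C := C) 1 m).range ↔ X.1.1 *ᵥ (e0 m) = e0 m := by
  rw [mem_range_kB]
  refine ⟨fun h => h 1, fun h x => ?_⟩
  have : x = x 0 • (1 : Fin 1 → F) := funext fun i => by simp [Subsingleton.elim i 0]
  rw [this, show Fin.append (x 0 • (1 : Fin 1 → F)) (0 : Fin m → F) = x 0 • e0 m by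
    rw [e0, app_smul, smul_zero], Matrix.mulVec_smul, h]

/-- elements fixing a unit vector form a conjugate of the group of the right coordinates -/
theorem flat_fix (hF : Fintype.card F = q ^ 2) (hm : 1 ≤ m) {Γ : Type u} [Group Γ] [Finite Γ]
    {τ : Γ →* ↥(Cfsg.SU (1 + m) F q)} (hs : Function.Surjective τ) (h : Flat τ (kB (C := C) 1 m).range)
    {v : Fin (1 + m) → F} (hv : C.form v v = 1) {S : Subgroup ↥(Cfsg.SU (1 + m) F q)}
    (hS : ∀ X ∈ S, X.1.1 *ᵥ v = v) : Flat τ S := by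
  obtain ⟨A, hA⟩ := exists_su_move (C := C) hF (by omega) hv (form_e0 (C := C) m)
  refine h.conj hs A fun X hX => range_kB_one.2 ?_
  have h1 : (A⁻¹).1.1 *ᵥ e0 m = v := by rw [← hA, su_inv_mulVec]
  rw [suMat_mulVec_mul, suMat_mulVec_mul, h1, hS X hX, hA]

include C in
theorem su_two_equiv (hF : Fintype.card F = q ^ 2) :
    ∃ (K : Type u) (_ : Field K) (_ : Fintype K), Fintype.card K = q ∧
      Nonempty (↥(Cfsg.SU 2 F q) ≃* SL(2, K)) := by
  classical
  let K := CfsgLib.Descent.fixedField C.bar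
  letI : Fintype K := Fintype.ofFinite _
  have hK : Fintype.card K = q := by rw [← Nat.card_eq_fintype_card]; exact card_fixed (C := C) hF
  exact ⟨K, inferInstance, inferInstance, hK, CfsgLib.Classical.SUTwoSL.main C hF hK⟩

theorem card_sl_two {K : Type u} [Field K] [Fintype K] :
    Nat.card SL(2, K) = Fintype.card K * (Fintype.card K ^ 2 - 1) := by
  classical
  set c := Fintype.card K
  have hc : 1 < c := Fintype.one_lt_card
  have e := CfsgLib.Classical.card_sl_mul (F := K) (n := 2) (by omega)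
  rw [Fin.prod_univ_two] at e
  simp only [Fin.val_zero, Fin.val_one, pow_zero, pow_one] at e
  refine Nat.eq_of_mul_eq_mul_left (show 0 < c - 1 by omega) ?_
  rw [show (c - 1) * (c * (c ^ 2 - 1)) = (c ^ 2 - 1) * (c ^ 2 - c) by
    rw [show c ^ 2 - c = (c - 1) * c by rw [Nat.sub_mul, one_mul, sq]]; ring]
  linarith

theorem nop_sl_two {K : Type u} [Field K] [Fintype K] {ℓ : ℕ} [hℓ : Fact ℓ.Prime]
    (h : ¬ ℓ ∣ Fintype.card K) : NoP ℓ SL(2, K) := by
  classical
  by_cases h4 : Fintype.card K = 4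
  · have hcard : Nat.card SL(2, K) = 60 := by rw [card_sl_two, h4]; norm_num
    intro Γ _ _ σ hσ
    refine CfsgLib.Lie.SLUniv.not_dvd_card_stem_ker hσ fun S => ?_
    by_cases hd : ℓ ∣ 60
    · refine isCyclic_of_prime_card (p := ℓ) ?_
      rw [Sylow.card_eq_multiplicity, hcard]
      have hle := Nat.le_of_dvd (by norm_num) hd
      have hne : ℓ ≠ 2 := fun e => h (by rw [h4, e]; norm_num)
      have : ℓ = 3 ∨ ℓ = 5 := by
        rcases (hℓ.out.dvd_mul (m := 4) (n := 15)).1 hd with h1 | h1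
        · exact absurd ((Nat.prime_dvd_prime_iff_eq hℓ.out Nat.prime_two).1
            (hℓ.out.dvd_of_dvd_pow (m := 2) (n := 2) h1)) hne
        · rcases (hℓ.out.dvd_mul (m := 3) (n := 5)).1 h1 with h2 | h2
          · exact Or.inl ((Nat.prime_dvd_prime_iff_eq hℓ.out Nat.prime_three).1 h2)
          · exact Or.inr ((Nat.prime_dvd_prime_iff_eq hℓ.out (by norm_num)).1 h2)
      rw [show (60 : ℕ) = 2 ^ 2 * (3 * 5) from rfl, Nat.factorization_mul (by norm_num) (by norm_num),
        Nat.factorization_mul (by norm_num) (by norm_num), Nat.Prime.factorization_pow Nat.prime_two,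
        Nat.Prime.factorization Nat.prime_three, Nat.Prime.factorization (show (5 : ℕ).Prime by norm_num)]
      rcases this with rfl | rfl <;> simp
    · haveI : Subsingleton ↥(S : Subgroup SL(2, K)) := by
        rw [← Finite.card_le_one_iff_subsingleton, Sylow.card_eq_multiplicity, hcard,
          Nat.factorization_eq_zero_of_not_dvd hd, pow_zero]
      exact isCyclic_of_subsingleton
  by_cases h9 : Fintype.card K = 9
  · refine NoP.of_multiplier (Cfsg.Agent.S2118.result h9) ?_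
    rw [Nat.card_congr Multiplicative.toAdd, Nat.card_zmod]
    intro hd
    exact h (h9 ▸ hd.trans ⟨3, rfl⟩)
  · refine NoP.of_multiplier (CfsgLib.Lie.SLUniv.sl2_multiplier h4 h9) ?_
    rw [Nat.card_congr Multiplicative.toAdd, Nat.card_zmod]
    exact hℓ.out.not_dvd_one

include C in
theorem nop_su_two (hF : Fintype.card F = q ^ 2) {ℓ : ℕ} [Fact ℓ.Prime] (h : ¬ ℓ ∣ q) :
    NoP ℓ ↥(Cfsg.SU 2 F q) := by
  obtain ⟨K, i, j, hK, ⟨e⟩⟩ := su_two_equiv (C := C) hF
  exact (nop_sl_two (by rwa [hK])).congr e.symm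

include C in
theorem su_two_perfect (hF : Fintype.card F = q ^ 2) (hq : 4 ≤ q) : commutator ↥(Cfsg.SU 2 F q) = ⊤ := by
  obtain ⟨K, i, j, hK, ⟨e⟩⟩ := su_two_equiv (C := C) hF
  have h := CfsgLib.Lie.SLUniv.sl2_commutator (F := K) (by omega)
  have hm : (commutator SL(2, K)).map e.symm.toMonoidHom = commutator ↥(Cfsg.SU 2 F q) := by
    rw [commutator_def, Subgroup.map_commutator, Subgroup.map_top_of_surjective _ e.symm.surjective, ← commutator_def]
  rw [← hm, h, Subgroup.map_top_of_surjective _ e.symm.surjective]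

/-- cyclic Sylow subgroups from an element of suitable order -/
theorem nop_of_element {G : Type u} [Group G] [Finite G] {ℓ : ℕ} [hℓ : Fact ℓ.Prime] {A : G} {r : ℕ}
    (hr : Nat.card G = r * orderOf A) (h : ¬ ℓ ∣ r) : NoP ℓ G := fun Γ _ _ σ hσ =>
  CfsgLib.Lie.SLUniv.not_dvd_card_stem_ker hσ fun S => CfsgLib.Lie.SylowCyclic.isCyclic_sylow_of_dvd (g := A) (by
    refine Nat.Coprime.dvd_of_dvd_mul_left ((Nat.Coprime.pow_left _ ((hℓ.out.coprime_iff_not_dvd).2 h))) ?_
    rw [← hr]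
    exact Nat.ordProj_dvd _ _) S

/-- a prime dividing the order at most once -/
theorem nop_of_once {G : Type u} [Group G] [Finite G] {ℓ : ℕ} [hℓ : Fact ℓ.Prime]
    (h : ¬ ℓ * ℓ ∣ Nat.card G) : NoP ℓ G := fun Γ _ _ σ hσ =>
  CfsgLib.Lie.SLUniv.not_dvd_card_stem_ker hσ fun S => by
    have hle : (Nat.card G).factorization ℓ ≤ 1 := by
      by_contra hlt
      have h2 := (pow_dvd_pow ℓ (show 2 ≤ (Nat.card G).factorization ℓ by omega)).trans (Nat.ordProj_dvd (Nat.card G) ℓ)
      rw [sq] at h2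
      exact h h2
    rcases Nat.le_one_iff_eq_zero_or_eq_one.1 hle with e | e
    · haveI : Subsingleton ↥(S : Subgroup G) := by
        rw [← Finite.card_le_one_iff_subsingleton, Sylow.card_eq_multiplicity, e, pow_zero]
      exact isCyclic_of_subsingleton
    · exact isCyclic_of_prime_card (p := ℓ) (by rw [Sylow.card_eq_multiplicity, e, pow_one])

/-- the order of a normal subgroup extended by one element -/
theorem card_sup_zpow {G : Type u} [Group G] [Finite G] {N : Subgroup G} {g : G} {j : ℕ} (hj : 0 < j)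
    (hn : ∀ x ∈ N, g * x * g⁻¹ ∈ N) (h : ∀ i : ℕ, g ^ i ∈ N ↔ j ∣ i) :
    Nat.card ↥(N ⊔ Subgroup.zpowers g) = Nat.card ↥N * j := by
  have h' : ∀ i : ℤ, g ^ i ∈ N ↔ (j : ℤ) ∣ i := fun i => by
    rcases Int.eq_nat_or_neg i with ⟨a, rfl | rfl⟩
    · rw [zpow_natCast, h, Int.natCast_dvd_natCast]
    · rw [_root_.zpow_neg, inv_mem_iff, zpow_natCast, h, Int.dvd_neg, Int.natCast_dvd_natCast]
  rw [show Nat.card ↥N * j = Nat.card (↥N × Fin j) by rw [Nat.card_prod, Nat.card_fin]]
  refine (Nat.card_eq_of_bijective (fun z : ↥N × Fin j => (⟨z.1.1 * g ^ (z.2 : ℕ),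
    mul_mem (Subgroup.mem_sup_left z.1.2) (Subgroup.mem_sup_right (Subgroup.npow_mem_zpowers g _))⟩ :
      ↥(N ⊔ Subgroup.zpowers g))) ⟨fun a b e => ?_, fun x => ?_⟩).symm
  · have e' : (b.1.1)⁻¹ * a.1.1 = g ^ ((b.2 : ℕ) : ℤ) * (g ^ ((a.2 : ℕ) : ℤ))⁻¹ := by
      rw [zpow_natCast, zpow_natCast, eq_mul_inv_iff_mul_eq, mul_assoc, inv_mul_eq_iff_eq_mul]
      exact congrArg Subtype.val e
    have h1 : g ^ (((b.2 : ℕ) : ℤ) - (a.2 : ℕ)) ∈ N := by
      rw [_root_.zpow_sub, ← e']
      exact mul_mem (inv_mem b.1.2) a.1.2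
    have h2 := (h' _).1 h1
    have ha := a.2.isLt
    have hb := b.2.isLt
    have h3 : (a.2 : ℕ) = b.2 := by
      obtain ⟨t, ht⟩ := h2
      rcases lt_trichotomy t 0 with ht0 | ht0 | ht0
      · nlinarith
      · subst ht0; omega
      · nlinarith
    refine Prod.ext (Subtype.ext ?_) (Fin.ext h3)
    have e2 := congrArg Subtype.val e
    dsimp only at e2
    rw [h3] at e2
    exact mul_right_cancel e2
  · obtain ⟨a, ha, i, e⟩ := exists_split_zpow hn x.2
    have hj0 : (j : ℤ) ≠ 0 := by omega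
    have h1 := Int.emod_nonneg i hj0
    have h2 := Int.emod_lt_of_pos i (show (0 : ℤ) < j by omega)
    refine ⟨(⟨a * g ^ ((j : ℤ) * (i / j)), mul_mem ha ((h' _).2 (dvd_mul_right _ _))⟩, ⟨(i % j).toNat, by omega⟩), ?_⟩
    refine Subtype.ext ?_
    show a * g ^ ((j : ℤ) * (i / j)) * g ^ (i % j).toNat = x.1
    rw [e, ← zpow_natCast g, Int.toNat_of_nonneg h1, mul_assoc, ← _root_.zpow_add, Int.mul_ediv_add_emod]

theorem conj_range_of_fix {X : ↥(Cfsg.SU (k + m) F q)}
    (hX : ∀ x : Fin k → F, ∃ x' : Fin k → F, (X⁻¹).1.1 *ᵥ Fin.append x (0 : Fin m → F) = Fin.append x' 0)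
    {Y : ↥(Cfsg.SU (k + m) F q)} (hY : Y ∈ (kB (C := C) k m).range) :
    X * Y * X⁻¹ ∈ (kB (C := C) k m).range := by
  refine mem_range_kB.2 fun x => ?_
  obtain ⟨x', hx'⟩ := hX x
  rw [suMat_mulVec_mul, suMat_mulVec_mul, hx', mem_range_kB.1 hY, ← hx', su_mulVec_inv]

end CfsgLib.Lie.Mult.Unit
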