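import Cfsg.Agent.Lib.Lie.Mult.Unit.Coord
import Cfsg.Agent.Lib.Classical.WeilSU.Final

/-!
# Pointwise stabilisers of coordinate blocks
-/

set_option autoImplicit false
set_option linter.all false

namespace CfsgLib.Lie.Mult.Unit

open Matrix CfsgLib.SU CfsgLib.Classical.HermStab CfsgLib.Classical.HermTori

universe u

variable {F : Type u} [Field F] [Fintype F] {q : ℕ} {C : UCtx F q} {k m : ℕ}

local notation "ext" => Fin.append

/-- the group of the left coordinates -/
def kA (k m : ℕ) : ↥(Cfsg.SU k F q) →* ↥(Cfsg.SU (k + m) F q) :=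
  (blockSU C).comp (MonoidHom.inl _ _)

theorem kA_app (A : ↥(Cfsg.SU k F q)) (x : Fin k → F) (y : Fin m → F) :
    (kA (C := C) k m A).1.1 *ᵥ ext x y = ext (A.1.1 *ᵥ x) y := by
  show blockMat A.1.1 (1 : ↥(Cfsg.SU m F q)).1.1 *ᵥ ext x y = _
  rw [block_app, su_one_mulVec]

theorem kA_injective (k m : ℕ) : Function.Injective (kA (C := C) k m) := fun A B h => by
  have h1 := congrArg (fun X : ↥(Cfsg.SU (k + m) F q) => X.1.1) h
  exact Subtype.ext (Subtype.ext (blockMat_inj h1).1)

theorem app_add (x x' : Fin k → F) (y y' : Fin m → F) : ext x y + ext x' y' = ext (x + x') (y + y') := by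
  rw [← app_lr (ext x y + ext x' y')]
  congr 1 <;> funext i <;> simp [lc, rc]

theorem mat_ext {M N : Matrix (Fin (k + m)) (Fin (k + m)) F}
    (h : ∀ (x : Fin k → F) (y : Fin m → F), M *ᵥ ext x y = N *ᵥ ext x y) : M = N :=
  Matrix.ext_iff_mulVec.2 fun v => by rw [← app_lr v]; exact h _ _

/-- elements fixing the left coordinates -/
theorem mem_range_kB {X : ↥(Cfsg.SU (k + m) F q)} :
    X ∈ (kB (C := C) k m).range ↔ ∀ x : Fin k → F, X.1.1 *ᵥ ext x (0 : Fin m → F) = ext x 0 := by
  refine ⟨fun ⟨A, hA⟩ x => by rw [← hA, kB_app, Matrix.mulVec_zero], fun h => ?_⟩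
  let f : (Fin m → F) →ₗ[F] (Fin m → F) :=
    { toFun := fun y => rc (X.1.1 *ᵥ ext 0 y)
      map_add' := fun y y' => by
        rw [show ext (0 : Fin k → F) (y + y') = ext 0 y + ext 0 y' by rw [app_add, add_zero], Matrix.mulVec_add]
        rfl
      map_smul' := fun c y => by
        rw [show ext (0 : Fin k → F) (c • y) = c • ext 0 y by rw [app_smul, smul_zero], Matrix.mulVec_smul]
        rfl }
  have hl : ∀ y, X.1.1 *ᵥ ext (0 : Fin k → F) y = ext 0 (f y) := fun y => by
    conv_lhs => rw [← app_lr (X.1.1 *ᵥ ext 0 y)]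
    have h0 : lc (X.1.1 *ᵥ ext (0 : Fin k → F) y) = 0 := C.eq_zero_of_form fun x => by
      have h1 := C.form_su X (ext 0 y) (ext x 0)
      rw [h, ← app_lr (X.1.1 *ᵥ ext 0 y), form_app, form_app, C.form_zero_left, C.form_zero_right,
        C.form_zero_right, add_zero, add_zero] at h1
      exact h1
    rw [h0]
    rfl
  have hM : X.1.1 = blockMat 1 (LinearMap.toMatrix' f) := mat_ext fun x y => by
    rw [block_app, Matrix.one_mulVec, LinearMap.toMatrix'_mulVec,
      show ext x y = ext x 0 + ext 0 y by rw [app_add, add_zero, zero_add], Matrix.mulVec_add, h, hl, app_add,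
      add_zero, zero_add]
  have hdet : (LinearMap.toMatrix' f).det = 1 := by
    have h1 := X.1.2
    rwa [hM, det_blockMat, Matrix.det_one, one_mul] at h1
  refine ⟨C.mkSU _ hdet fun u v => ?_, Subtype.ext (Subtype.ext ?_)⟩
  · have h1 := C.form_su X (ext 0 u) (ext 0 v)
    rw [hl, hl, form_app, form_app, C.form_zero_left, zero_add, zero_add] at h1
    rwa [LinearMap.toMatrix'_mulVec, LinearMap.toMatrix'_mulVec]
  · exact hM.symm

/-- elements fixing the right coordinates -/
theorem mem_range_kA {X : ↥(Cfsg.SU (k + m) F q)} :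
    X ∈ (kA (C := C) k m).range ↔ ∀ y : Fin m → F, X.1.1 *ᵥ ext (0 : Fin k → F) y = ext 0 y := by
  refine ⟨fun ⟨A, hA⟩ x => by rw [← hA, kA_app, Matrix.mulVec_zero], fun h => ?_⟩
  let f : (Fin k → F) →ₗ[F] (Fin k → F) :=
    { toFun := fun x => lc (X.1.1 *ᵥ ext x 0)
      map_add' := fun y y' => by
        rw [show ext (y + y') (0 : Fin m → F) = ext y 0 + ext y' 0 by rw [app_add, add_zero], Matrix.mulVec_add]
        rfl
      map_smul' := fun c y => by
        rw [show ext (c • y) (0 : Fin m → F) = c • ext y 0 by rw [app_smul, smul_zero], Matrix.mulVec_smul]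
        rfl }
  have hl : ∀ x, X.1.1 *ᵥ ext x (0 : Fin m → F) = ext (f x) 0 := fun x => by
    conv_lhs => rw [← app_lr (X.1.1 *ᵥ ext x 0)]
    have h0 : rc (X.1.1 *ᵥ ext x (0 : Fin m → F)) = 0 := C.eq_zero_of_form fun y => by
      have h1 := C.form_su X (ext x 0) (ext 0 y)
      rw [h, ← app_lr (X.1.1 *ᵥ ext x 0), form_app, form_app, C.form_zero_left, C.form_zero_right,
        C.form_zero_right, add_zero, zero_add] at h1
      exact h1
    rw [h0]
    rfl
  have hM : X.1.1 = blockMat (LinearMap.toMatrix' f) 1 := mat_ext fun x y => by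
    rw [block_app, Matrix.one_mulVec, LinearMap.toMatrix'_mulVec,
      show ext x y = ext x 0 + ext 0 y by rw [app_add, add_zero, zero_add], Matrix.mulVec_add, h, hl, app_add,
      add_zero, zero_add]
  have hdet : (LinearMap.toMatrix' f).det = 1 := by
    have h1 := X.1.2
    rwa [hM, det_blockMat, Matrix.det_one, mul_one] at h1
  refine ⟨C.mkSU _ hdet fun u v => ?_, Subtype.ext (Subtype.ext ?_)⟩
  · have h1 := C.form_su X (ext u 0) (ext v 0)
    rw [hl, hl, form_app, form_app, C.form_zero_left, add_zero, add_zero] at h1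
    rwa [LinearMap.toMatrix'_mulVec, LinearMap.toMatrix'_mulVec]
  · exact hM.symm

/-- flatness of the image of a group without multiplier at `ℓ` -/
theorem flat_range {G H : Type u} [Group G] [Group H] {f : H →* G} (hf : Function.Injective f)
    (hH : commutator H = ⊤) {ℓ : ℕ} [Fact ℓ.Prime] (hno : NoP ℓ H) {Γ : Type u} [Group Γ] [Finite Γ]
    {τ : Γ →* G} (hs : Function.Surjective τ) (hc : τ.ker ≤ Subgroup.center Γ)
    (hcard : Nat.card τ.ker = ℓ) : Flat τ f.range :=
  flat_of_nop hs hc hcard (range_perfect f hH) (hno.congr (MonoidHom.ofInjective hf))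

end CfsgLib.Lie.Mult.Unit
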