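import Cfsg.Agent.Lib.Lie.Mult.Orth.Cover
import Cfsg.Agent.Lib.Lie.Mult.Sylow
import Cfsg.Agent.Lib.Lie.Mult.Ladder

/-!
# Subgroups over which a central extension is flat

A subgroup is flat for an extension if the derived group of its preimage meets the kernel trivially.  Flat
subgroups are built from perfect ones with trivial multiplier, from cyclic extensions, and from the complement
which commutators with one element cut out.
-/

set_option autoImplicit false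
set_option linter.all false

namespace CfsgLib.Lie.Mult.Unit

open scoped commutatorElement

universe u

/-- no stem extension has kernel of order divisible by `ℓ` -/
def NoP (ℓ : ℕ) (G : Type u) [Group G] : Prop :=
  ∀ (Γ : Type u) [Group Γ] [Finite Γ] (σ : Γ →* G), Cfsg.IsStemExtension σ → ¬ ℓ ∣ Nat.card σ.ker

theorem NoP.congr {G G' : Type u} [Group G] [Group G'] (e : G ≃* G') {ℓ : ℕ} (h : NoP ℓ G) : NoP ℓ G' :=
  fun Γ _ _ σ hσ => by
  have hk : (e.symm.toMonoidHom.comp σ).ker = σ.ker := MonoidHom.ker_comp_of_injective _ _ e.symm.injective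
  rw [← hk]
  exact h Γ _ ⟨e.symm.surjective.comp hσ.1, hk.le.trans hσ.2.1, hk.le.trans hσ.2.2⟩

theorem NoP.of_multiplier {G : Type u} [Group G] {A : Type*} [CommGroup A] [Finite A]
    (h : Cfsg.HasSchurMultiplier G A) {ℓ : ℕ} (hA : ¬ ℓ ∣ Nat.card A) : NoP ℓ G := fun Γ _ _ σ hσ hd => by
  obtain ⟨π, hπ⟩ := h.2 Γ σ hσ
  exact hA (hd.trans (Subgroup.card_dvd_of_surjective π hπ))

theorem NoP.of_bound {G : Type u} [Group G] {b ℓ : ℕ} (h : Orth.SBound G b) (hb : b < ℓ) : NoP ℓ G :=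
  fun Γ _ _ σ hσ hd => absurd (Nat.le_of_dvd Nat.card_pos hd) (not_le.2 (lt_of_le_of_lt (h Γ σ hσ) hb))

/-- it is enough to look at kernels of prime order -/
theorem NoP.of_prime {G : Type u} [Group G] {ℓ : ℕ} [hℓ : Fact ℓ.Prime]
    (h : ∀ (Γ : Type u) [Group Γ] [Finite Γ] (σ : Γ →* G), Cfsg.IsStemExtension σ →
      Nat.card σ.ker = ℓ → False) : NoP ℓ G := by
  intro Γ _ _ σ hσ hd
  haveI : IsMulCommutative ↥σ.ker :=
    ⟨⟨fun a b => Subtype.ext (Subgroup.mem_center_iff.1 (hσ.2.1 b.2) a.1)⟩⟩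
  obtain ⟨z, hz⟩ := exists_prime_orderOf_dvd_card' ℓ hd
  let p : ↥σ.ker →* ↥σ.ker := MonoidHom.mk' (fun x => x ^ ℓ) fun a b => (Commute.mul_pow
    (Subtype.ext (Subgroup.mem_center_iff.1 (hσ.2.1 b.2) a.1)) ℓ)
  have hp : p.range ≠ ⊤ := fun htop => by
    have hinj : Function.Injective p := Finite.injective_iff_surjective.2 (MonoidHom.range_eq_top.1 htop)
    have h1 : z = 1 := hinj (by show z ^ ℓ = (1 : ↥σ.ker) ^ ℓ; rw [one_pow, ← hz, pow_orderOf_eq_one])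
    rw [h1, orderOf_one] at hz
    exact hℓ.out.ne_one hz.symm
  obtain ⟨M, hM, hle⟩ := (eq_top_or_exists_le_coatom p.range).resolve_left hp
  have hidx : M.index = ℓ := by
    haveI : IsSimpleGroup (↥σ.ker ⧸ M) := by
      haveI : Nontrivial (↥σ.ker ⧸ M) := QuotientGroup.nontrivial_iff.2 hM.1
      refine ⟨fun N hN => ?_⟩
      by_cases hN' : N.comap (QuotientGroup.mk' M) = M
      · left
        rw [← Subgroup.map_comap_eq_self_of_surjective (QuotientGroup.mk'_surjective M) N, hN',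
          QuotientGroup.map_mk'_self]
      · right
        have hle' : M ≤ N.comap (QuotientGroup.mk' M) := fun x hx => by
          show QuotientGroup.mk' M x ∈ N
          rw [QuotientGroup.mk'_apply, (QuotientGroup.eq_one_iff x).2 hx]; exact one_mem N
        rw [← Subgroup.map_comap_eq_self_of_surjective (QuotientGroup.mk'_surjective M) N,
          hM.2 _ (lt_of_le_of_ne hle' (Ne.symm hN')),
          Subgroup.map_top_of_surjective _ (QuotientGroup.mk'_surjective M)]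
    letI : CommGroup (↥σ.ker ⧸ M) :=
      { (inferInstance : Group (↥σ.ker ⧸ M)) with
        mul_comm := fun a b => by
          obtain ⟨a, rfl⟩ := QuotientGroup.mk_surjective a
          obtain ⟨b, rfl⟩ := QuotientGroup.mk_surjective b
          rw [← QuotientGroup.mk_mul, ← QuotientGroup.mk_mul,
            show a * b = b * a from Subtype.ext (Subgroup.mem_center_iff.1 (hσ.2.1 b.2) a.1)] }
    have hpr : (Nat.card (↥σ.ker ⧸ M)).Prime := IsSimpleGroup.prime_card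
    obtain ⟨x, hx⟩ := exists_ne (1 : ↥σ.ker ⧸ M)
    have hxl : x ^ ℓ = 1 := by
      obtain ⟨y, rfl⟩ := QuotientGroup.mk_surjective x
      rw [← QuotientGroup.mk_pow, QuotientGroup.eq_one_iff]
      exact hle ⟨y, rfl⟩
    have ho : orderOf x = ℓ := orderOf_eq_prime hxl hx
    have h2 : ℓ ∣ Nat.card (↥σ.ker ⧸ M) := ho ▸ orderOf_dvd_natCard x
    exact ((Nat.prime_dvd_prime_iff_eq hℓ.out hpr).1 h2).symm
  let M' : Subgroup Γ := M.map σ.ker.subtype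
  have hM' : M' ≤ σ.ker := Subgroup.map_subtype_le M
  haveI : M'.Normal := ⟨fun m hm g => by
    rwa [Subgroup.mem_center_iff.1 (hσ.2.1 (hM' hm)) g, mul_inv_cancel_right]⟩
  let σ' : Γ ⧸ M' →* G := QuotientGroup.lift M' σ hM'
  have hk : σ'.ker = σ.ker.map (QuotientGroup.mk' M') := by
    ext x
    obtain ⟨g, rfl⟩ := QuotientGroup.mk_surjective x
    constructor
    · intro hx
      exact ⟨g, hx, rfl⟩
    · rintro ⟨y, hy, e⟩
      rw [← e]
      exact hy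
  refine h (Γ ⧸ M') σ' ⟨fun x => ?_, ?_, ?_⟩ ?_
  · obtain ⟨g, rfl⟩ := hσ.1 x
    exact ⟨QuotientGroup.mk g, rfl⟩
  · rw [hk]
    rintro _ ⟨y, hy, rfl⟩
    refine Subgroup.mem_center_iff.2 fun x => ?_
    obtain ⟨g, rfl⟩ := QuotientGroup.mk_surjective x
    rw [QuotientGroup.mk'_apply, ← QuotientGroup.mk_mul, ← QuotientGroup.mk_mul, Subgroup.mem_center_iff.1 (hσ.2.1 hy) g]
  · rw [hk]
    refine (Subgroup.map_mono hσ.2.2).trans ?_
    rw [commutator_def, commutator_def, Subgroup.map_commutator]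
    exact Subgroup.commutator_mono le_top le_top
  · rw [hk, ← hidx]
    have h1 := Subgroup.relIndex_ker (QuotientGroup.mk' M') (K := σ.ker)
    rw [QuotientGroup.ker_mk'] at h1
    rw [← h1, Subgroup.relIndex, Subgroup.subgroupOf, Subgroup.comap_map_eq_self_of_injective σ.ker.subtype_injective]

variable {G : Type u} [Group G] {Γ : Type u} [Group Γ] {τ : Γ →* G}

/-- the derived group of the preimage -/
abbrev D (τ : Γ →* G) (H : Subgroup G) : Subgroup Γ := ⁅H.comap τ, H.comap τ⁆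

/-- flatness -/
def Flat (τ : Γ →* G) (H : Subgroup G) : Prop := ∀ z ∈ D τ H, τ z = 1 → z = 1

theorem Flat.mono {H K : Subgroup G} (hK : Flat τ K) (h : H ≤ K) : Flat τ H := fun z hz =>
  hK z (Subgroup.commutator_mono (Subgroup.comap_mono h) (Subgroup.comap_mono h) hz)

theorem Flat.inj {H : Subgroup G} (hH : Flat τ H) {a b : Γ} (ha : a ∈ D τ H) (hb : b ∈ D τ H)
    (e : τ a = τ b) : a = b := by
  refine inv_mul_eq_one.1 (hH _ (mul_mem (inv_mem ha) hb) ?_)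
  rw [map_mul, map_inv, e, inv_mul_cancel]

theorem D_le (H : Subgroup G) : D τ H ≤ H.comap τ :=
  Subgroup.commutator_le.2 fun a ha b hb => by
    rw [commutatorElement_def]
    exact mul_mem (mul_mem (mul_mem ha hb) (inv_mem ha)) (inv_mem hb)

theorem exists_D (hs : Function.Surjective τ) {H : Subgroup G} (hp : H ≤ ⁅H, H⁆) {g : G} (hg : g ∈ H) :
    ∃ d ∈ D τ H, τ d = g := by
  have : g ∈ (D τ H).map τ := by
    rw [Subgroup.map_commutator, Subgroup.map_comap_eq_self_of_surjective hs]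
    exact hp hg
  exact this

theorem commute_of_flat {H : Subgroup G} (hH : Flat τ H) {a b : Γ} (ha : τ a ∈ H) (hb : τ b ∈ H)
    (e : Commute (τ a) (τ b)) : Commute a b :=
  commutatorElement_eq_one_iff_commute.1 (hH _ (Subgroup.commutator_mem_commutator ha hb) (by
    rw [map_commutatorElement, commutatorElement_eq_one_iff_commute.2 e]))

theorem D_conj {H : Subgroup G} {γ : Γ} (hn : ∀ x ∈ H, τ γ * x * (τ γ)⁻¹ ∈ H) {d : Γ} (hd : d ∈ D τ H) :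
    γ * d * γ⁻¹ ∈ D τ H := by
  have hle : (H.comap τ).map (MulAut.conj γ).toMonoidHom ≤ H.comap τ := by
    rintro _ ⟨b, hb, rfl⟩
    show τ (γ * b * γ⁻¹) ∈ H
    rw [map_mul, map_mul, map_inv]
    exact hn _ hb
  have h1 : (D τ H).map (MulAut.conj γ).toMonoidHom ≤ D τ H := by
    rw [Subgroup.map_commutator]
    exact Subgroup.commutator_mono hle hle
  exact h1 ⟨d, hd, rfl⟩

/-- conjugates of flat subgroups are flat -/
theorem Flat.conj (hs : Function.Surjective τ) {H K : Subgroup G} (hH : Flat τ H) (g : G)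
    (hK : ∀ x ∈ K, g * x * g⁻¹ ∈ H) : Flat τ K := by
  obtain ⟨γ, rfl⟩ := hs g
  intro z hz h1
  have hle : (K.comap τ).map (MulAut.conj γ).toMonoidHom ≤ H.comap τ := by
    rintro _ ⟨b, hb, rfl⟩
    show τ (γ * b * γ⁻¹) ∈ H
    rw [map_mul, map_mul, map_inv]
    exact hK _ hb
  have h2 : γ * z * γ⁻¹ ∈ D τ H := by
    have h3 : (D τ K).map (MulAut.conj γ).toMonoidHom ≤ D τ H := by
      rw [Subgroup.map_commutator]; exact Subgroup.commutator_mono hle hle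
    exact h3 ⟨z, hz, rfl⟩
  exact conj_eq_one_iff.1 (hH _ h2 (by rw [map_mul, map_mul, map_inv, h1, mul_one, mul_inv_cancel]))

variable (hc : τ.ker ≤ Subgroup.center Γ)
include hc

theorem ker_comm {z : Γ} (hz : τ z = 1) (y : Γ) : y * z = z * y := Subgroup.mem_center_iff.1 (hc hz) y

theorem comm_mul_ker {a b z w : Γ} (hz : τ z = 1) (hw : τ w = 1) : ⁅a * z, b * w⁆ = ⁅a, b⁆ := by
  have h1 := ker_comm hc hz
  have h2 := ker_comm hc hw
  simp only [commutatorElement_def, mul_inv_rev]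
  calc a * z * (b * w) * (z⁻¹ * a⁻¹) * (w⁻¹ * b⁻¹)
      = a * (z * (b * w)) * z⁻¹ * a⁻¹ * (w⁻¹ * b⁻¹) := by group
    _ = a * b * (w * a⁻¹) * w⁻¹ * b⁻¹ := by rw [← h1]; group
    _ = a * b * a⁻¹ * b⁻¹ := by rw [← h2]; group

theorem comm_congr {a a' b b' : Γ} (ha : τ a = τ a') (hb : τ b = τ b') : ⁅a, b⁆ = ⁅a', b'⁆ := by
  conv_lhs => rw [← mul_inv_cancel_left a' a, ← mul_inv_cancel_left b' b]
  exact comm_mul_ker hc (by rw [map_mul, map_inv, ha, inv_mul_cancel])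
    (by rw [map_mul, map_inv, hb, inv_mul_cancel])

/-- an element over one centralising a subgroup commutes with the lift of that subgroup -/
theorem commute_D {H : Subgroup G} {a : Γ} (ha : ∀ x ∈ H, Commute (τ a) x) {d : Γ} (hd : d ∈ D τ H) :
    Commute a d := by
  have hle : D τ H ≤ Subgroup.centralizer {a} := Subgroup.commutator_le.2 fun x hx y hy => by
    rw [Subgroup.mem_centralizer_singleton_iff]
    have e : ∀ w ∈ H.comap τ, τ (a * w * a⁻¹) = τ w := fun w hw => by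
      rw [map_mul, map_mul, map_inv, (ha _ hw).eq, mul_inv_cancel_right]
    have h1 : ⁅a * x * a⁻¹, a * y * a⁻¹⁆ = ⁅x, y⁆ := comm_congr hc (e x hx) (e y hy)
    rw [show ⁅a * x * a⁻¹, a * y * a⁻¹⁆ = a * ⁅x, y⁆ * a⁻¹ by
      simp only [commutatorElement_def]; group] at h1
    exact (mul_inv_eq_iff_eq_mul.1 h1).symm
  exact (Subgroup.mem_centralizer_singleton_iff.1 (hle hd)).symm

omit hc in
theorem exists_split_zpow {N : Subgroup G} {g : G} (hn : ∀ x ∈ N, g * x * g⁻¹ ∈ N) [Finite G] {x : G}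
    (hx : x ∈ N ⊔ Subgroup.zpowers g) : ∃ a ∈ N, ∃ i : ℤ, x = a * g ^ i := by
  have hg : Subgroup.zpowers g ≤ Subgroup.normalizer (N : Set G) := by
    rw [Subgroup.zpowers_le]
    exact Ladder.normalizer_of_le hn
  rw [← SetLike.mem_coe, Subgroup.coe_mul_of_right_le_normalizer_left N _ hg] at hx
  obtain ⟨a, ha, b, hb, rfl⟩ := hx
  obtain ⟨i, rfl⟩ := Subgroup.mem_zpowers_iff.1 hb
  exact ⟨a, ha, i, rfl⟩

/-- a cyclic extension of a flat perfect subgroup is flat -/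
theorem flat_cyclic [Finite G] (hs : Function.Surjective τ) {K : Subgroup G} (hK : Flat τ K)
    (hp : K ≤ ⁅K, K⁆) {g : G} (hn : ∀ x ∈ K, g * x * g⁻¹ ∈ K) {S : Subgroup G}
    (hS : S ≤ K ⊔ Subgroup.zpowers g) : Flat τ S := by
  obtain ⟨g₀, rfl⟩ := hs g
  have hnD : ∀ (i : ℤ) {d : Γ}, d ∈ D τ K → g₀ ^ i * d * (g₀ ^ i)⁻¹ ∈ D τ K := fun i d hd => by
    refine D_conj (fun x hx => ?_) hd
    rw [map_zpow]
    exact (Subgroup.mem_normalizer_iff.1 (zpow_mem (Ladder.normalizer_of_le hn) i) x).1 hx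
  have hdec : ∀ x ∈ S.comap τ, ∃ d ∈ D τ K, ∃ z, τ z = 1 ∧ ∃ i : ℤ, x = d * g₀ ^ i * z := fun x hx => by
    obtain ⟨a, ha, i, e⟩ := exists_split_zpow hn (hS hx)
    obtain ⟨d, hd, rfl⟩ := exists_D hs hp ha
    refine ⟨d, hd, (d * g₀ ^ i)⁻¹ * x, ?_, i, (mul_inv_cancel_left _ _).symm⟩
    rw [map_mul, map_inv, map_mul, map_zpow, ← e, inv_mul_cancel]
  intro z hz h1
  refine hK z ((Subgroup.commutator_le.2 fun x hx y hy => ?_) hz) h1
  obtain ⟨d, hd, w, hw, i, rfl⟩ := hdec x hx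
  obtain ⟨d', hd', w', hw', j, rfl⟩ := hdec y hy
  rw [comm_mul_ker hc hw hw']
  have e : ⁅d * g₀ ^ i, d' * g₀ ^ j⁆ =
      d * (g₀ ^ i * d' * (g₀ ^ i)⁻¹) * (g₀ ^ j * d⁻¹ * (g₀ ^ j)⁻¹) * d'⁻¹ := by
    simp only [commutatorElement_def]
    group
  rw [e]
  exact mul_mem (mul_mem (mul_mem hd (hnD i hd')) (hnD j (inv_mem hd))) (inv_mem hd')

/-- the subgroup cut out by commutators with one element -/
def Hat [Finite Γ] (τ : Γ →* G) (h₀ : Γ) (B : Subgroup G) : Subgroup Γ :=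
  Subgroup.closure ((fun a => ⁅h₀, a⁆) '' (B.comap τ : Set Γ)) ⊔ D τ B

variable [Finite Γ] {h₀ : Γ} {B : Subgroup G}

omit hc in
theorem comm_mem_Hat {a : Γ} (ha : τ a ∈ B) : ⁅h₀, a⁆ ∈ Hat τ h₀ B :=
  Subgroup.mem_sup_left (Subgroup.subset_closure ⟨a, ha, rfl⟩)

omit hc in
theorem D_le_Hat : D τ B ≤ Hat τ h₀ B := le_sup_right

omit hc in
theorem Hat_le (hn : ∀ x ∈ B, τ h₀ * x * (τ h₀)⁻¹ ∈ B) : Hat τ h₀ B ≤ B.comap τ := by
  refine sup_le ((Subgroup.closure_le _).2 ?_) (D_le B)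
  rintro _ ⟨a, ha, rfl⟩
  show τ ⁅h₀, a⁆ ∈ B
  rw [map_commutatorElement, commutatorElement_def]
  exact mul_mem (hn _ ha) (inv_mem ha)

omit hc in
/-- the elements of the subgroup -/
theorem mem_Hat (hn : ∀ x ∈ B, τ h₀ * x * (τ h₀)⁻¹ ∈ B) {x : Γ} (hx : x ∈ Hat τ h₀ B) :
    ∃ a, τ a ∈ B ∧ ∃ c ∈ D τ B, x = ⁅h₀, a⁆ * c := by
  have hBn : ∀ {b c : Γ}, τ b ∈ B → c ∈ D τ B → b * c * b⁻¹ ∈ D τ B := fun hb hc' =>
    D_conj (fun y hy => mul_mem (mul_mem hb hy) (inv_mem hb)) hc'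
  have hC : ∀ a, τ a ∈ B → τ ⁅h₀, a⁆ ∈ B := fun a ha => by
    rw [map_commutatorElement, commutatorElement_def]
    exact mul_mem (hn _ ha) (inv_mem ha)
  have hmul : ∀ {a b c d : Γ}, τ a ∈ B → τ b ∈ B → c ∈ D τ B → d ∈ D τ B →
      ∃ e ∈ D τ B, ⁅h₀, a⁆ * c * (⁅h₀, b⁆ * d) = ⁅h₀, a * b⁆ * e := fun {a b c d} ha hb hc' hd => by
    refine ⟨⁅h₀, a * b⁆⁻¹ * (⁅h₀, a⁆ * c * (⁅h₀, b⁆ * d)), ?_, (mul_inv_cancel_left _ _).symm⟩
    rw [show ⁅h₀, a * b⁆⁻¹ * (⁅h₀, a⁆ * c * (⁅h₀, b⁆ * d)) =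
        ⁅a, ⁅h₀, b⁆⁻¹⁆ * (⁅h₀, b⁆⁻¹ * c * ⁅h₀, b⁆⁻¹⁻¹) * d by simp only [commutatorElement_def]; group]
    exact mul_mem (mul_mem (Subgroup.commutator_mem_commutator ha (by
      show τ ⁅h₀, b⁆⁻¹ ∈ B; rw [map_inv]; exact inv_mem (hC b hb)))
      (hBn (by rw [map_inv]; exact inv_mem (hC b hb)) hc')) hd
  rw [Hat, ← Subgroup.closure_eq (D τ B), ← Subgroup.closure_union] at hx
  induction hx using Subgroup.closure_induction with
  | mem y hy =>
    rcases hy with ⟨a, ha, rfl⟩ | hy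
    · exact ⟨a, ha, 1, one_mem _, (mul_one _).symm⟩
    · exact ⟨1, by rw [map_one]; exact one_mem B, y, hy, by simp⟩
  | one => exact ⟨1, by rw [map_one]; exact one_mem B, 1, one_mem _, by simp⟩
  | mul y w _ _ ihy ihw =>
    obtain ⟨a, ha, c, hc', rfl⟩ := ihy
    obtain ⟨b, hb, d, hd, rfl⟩ := ihw
    obtain ⟨e, he, e'⟩ := hmul ha hb hc' hd
    exact ⟨a * b, by rw [map_mul]; exact mul_mem ha hb, e, he, e'⟩
  | inv y _ ih =>
    obtain ⟨a, ha, c, hc', rfl⟩ := ih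
    have hai : τ a⁻¹ ∈ B := by rw [map_inv]; exact inv_mem ha
    obtain ⟨e, he, e'⟩ := hmul ha hai hc' (one_mem _)
    rw [mul_inv_cancel, show ⁅h₀, (1 : Γ)⁆ = 1 by simp, one_mul] at e'
    refine ⟨a⁻¹, hai, e⁻¹, inv_mem he, inv_eq_of_mul_eq_one_right ?_⟩
    rw [← mul_assoc]
    exact mul_inv_eq_one.2 (by simpa using e')

omit hc in
/-- the commutators cut out a flat complement -/
theorem Hat_inj (hn : ∀ x ∈ B, τ h₀ * x * (τ h₀)⁻¹ ∈ B) (hB : Flat τ B)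
    (hyp : ∀ a, τ a ∈ B → ⁅τ h₀, τ a⁆ ∈ ⁅B, B⁆ → ⁅h₀, a⁆ ∈ D τ B) (hs : Function.Surjective τ)
    {z : Γ} (hz : z ∈ Hat τ h₀ B) (h1 : τ z = 1) : z = 1 := by
  obtain ⟨a, ha, c, hc', rfl⟩ := mem_Hat hn hz
  refine hB _ (mul_mem (hyp a ha ?_) hc') h1
  have h2 : ⁅τ h₀, τ a⁆ = τ c⁻¹ := by
    rw [← map_commutatorElement, map_inv, eq_inv_iff_mul_eq_one, ← map_mul]; exact h1
  rw [h2, ← Subgroup.map_comap_eq_self_of_surjective hs B, ← Subgroup.map_commutator]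
  exact ⟨_, inv_mem hc', rfl⟩

/-- conjugation by an element commuting with `h₀` -/
theorem Hat_conj {k : Γ} (hk : τ ⁅h₀, k⁆ = 1) (hkB : ∀ x ∈ B, τ k * x * (τ k)⁻¹ ∈ B)
    {x : Γ} (hx : x ∈ Hat τ h₀ B) : k * x * k⁻¹ ∈ Hat τ h₀ B := by
  have hle : (Hat τ h₀ B) ≤ (Hat τ h₀ B).comap (MulAut.conj k).toMonoidHom := by
    refine sup_le ((Subgroup.closure_le _).2 ?_) fun d hd => D_le_Hat (D_conj hkB hd)
    rintro _ ⟨a, ha, rfl⟩
    show k * ⁅h₀, a⁆ * k⁻¹ ∈ Hat τ h₀ B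
    have e : k * ⁅h₀, a⁆ * k⁻¹ = ⁅h₀, k * a * k⁻¹⁆ := by
      rw [show k * ⁅h₀, a⁆ * k⁻¹ = ⁅k * h₀ * k⁻¹, k * a * k⁻¹⁆ by simp only [commutatorElement_def]; group]
      refine comm_congr hc ?_ rfl
      rw [map_mul, map_mul, map_inv, mul_inv_eq_iff_eq_mul]
      exact (commutatorElement_eq_one_iff_mul_comm.1 ((map_commutatorElement τ h₀ k).symm.trans hk)).symm
    rw [e]
    exact comm_mem_Hat (by rw [map_mul, map_mul, map_inv]; exact hkB _ ha)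
  exact hle hx

/-- an extension by one element moving the abelianisation suitably is flat -/
theorem flat_wreath [Finite G] (hs : Function.Surjective τ) (hn : ∀ x ∈ B, τ h₀ * x * (τ h₀)⁻¹ ∈ B)
    (hB : Flat τ B) (hyp : ∀ a, τ a ∈ B → ⁅τ h₀, τ a⁆ ∈ ⁅B, B⁆ → ⁅h₀, a⁆ ∈ D τ B)
    {S : Subgroup G} (hS : S ≤ B ⊔ Subgroup.zpowers (τ h₀)) : Flat τ S := by
  have hBn : ∀ {b x : Γ}, τ b ∈ B → x ∈ Hat τ h₀ B → b * x * b⁻¹ ∈ Hat τ h₀ B := fun {b x} hb hx => by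
    have h1 : ⁅b, x⁆ ∈ Hat τ h₀ B := D_le_Hat (Subgroup.commutator_mem_commutator hb (Hat_le hn hx))
    have h2 := mul_mem h1 hx
    rwa [commutatorElement_def, inv_mul_cancel_right] at h2
  have hh : ∀ {x : Γ}, x ∈ Hat τ h₀ B → h₀ * x * h₀⁻¹ ∈ Hat τ h₀ B := fun hx =>
    Hat_conj hc (by simp) hn hx
  have hpow : ∀ (i : ℤ) {b : Γ}, τ b ∈ B → b⁻¹ * (h₀ ^ i * b * (h₀ ^ i)⁻¹) ∈ Hat τ h₀ B := by
    intro i
    have step : ∀ {b : Γ}, τ b ∈ B → b⁻¹ * (h₀ * b * h₀⁻¹) ∈ Hat τ h₀ B := fun {b} hb => by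
      have e : b⁻¹ * (h₀ * b * h₀⁻¹) = b⁻¹ * ⁅h₀, b⁆ * b⁻¹⁻¹ := by simp only [commutatorElement_def]; group
      rw [e]
      exact hBn (by rw [map_inv]; exact inv_mem hb) (comm_mem_Hat hb)
    have nat : ∀ (k : ℕ) {b : Γ}, τ b ∈ B → b⁻¹ * (h₀ ^ k * b * (h₀ ^ k)⁻¹) ∈ Hat τ h₀ B := fun k => by
      induction k with
      | zero => intro b hb; simp
      | succ k ih =>
        intro b hb
        have hc1 : τ (h₀ * b * h₀⁻¹) ∈ B := by rw [map_mul, map_mul, map_inv]; exact hn _ hb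
        have := mul_mem (step hb) (ih hc1)
        rwa [show b⁻¹ * (h₀ * b * h₀⁻¹) * ((h₀ * b * h₀⁻¹)⁻¹ * (h₀ ^ k * (h₀ * b * h₀⁻¹) * (h₀ ^ k)⁻¹)) =
          b⁻¹ * (h₀ ^ (k + 1) * b * (h₀ ^ (k + 1))⁻¹) by rw [pow_succ]; group] at this
    intro b hb
    obtain ⟨k, e⟩ := (IsOfFinOrder.mem_powers_iff_mem_zpowers (isOfFinOrder_of_finite h₀)).2
      (Subgroup.zpow_mem (Subgroup.zpowers h₀) (Subgroup.mem_zpowers h₀) i)
    have e' : h₀ ^ k = h₀ ^ i := e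
    rw [← e']
    exact nat k hb
  intro z hz h1
  refine Hat_inj hn hB hyp hs ((Subgroup.commutator_le.2 fun x hx y hy => ?_) hz) h1
  have hdec : ∀ x ∈ S.comap τ, ∃ b, τ b ∈ B ∧ ∃ i : ℤ, x = b * h₀ ^ i := fun x hx => by
    obtain ⟨a, ha, i, e⟩ := exists_split_zpow hn (hS hx)
    refine ⟨x * (h₀ ^ i)⁻¹, ?_, i, (inv_mul_cancel_right _ _).symm⟩
    rw [map_mul, map_inv, map_zpow, e, mul_inv_cancel_right]
    exact ha
  obtain ⟨b, hb, i, rfl⟩ := hdec x hx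
  obtain ⟨b', hb', j, rfl⟩ := hdec y hy
  have hb'' : τ b⁻¹ ∈ B := by rw [map_inv]; exact inv_mem hb
  obtain ⟨u, hu, eu⟩ : ∃ u ∈ Hat τ h₀ B, h₀ ^ i * b' * (h₀ ^ i)⁻¹ = b' * u :=
    ⟨_, hpow i hb', (mul_inv_cancel_left _ _).symm⟩
  obtain ⟨v, hv, ev⟩ : ∃ v ∈ Hat τ h₀ B, h₀ ^ j * b⁻¹ * (h₀ ^ j)⁻¹ = b⁻¹ * v :=
    ⟨_, hpow j hb'', (mul_inv_cancel_left _ _).symm⟩
  rw [show ⁅b * h₀ ^ i, b' * h₀ ^ j⁆ =
      b * (h₀ ^ i * b' * (h₀ ^ i)⁻¹) * (h₀ ^ j * b⁻¹ * (h₀ ^ j)⁻¹) * b'⁻¹ by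
    simp only [commutatorElement_def]; group, eu, ev,
    show b * (b' * u) * (b⁻¹ * v) * b'⁻¹ = ⁅b, b'⁆ * ((b' * b) * u * (b' * b)⁻¹) * (b' * v * b'⁻¹) by
      simp only [commutatorElement_def]; group]
  exact mul_mem (mul_mem (D_le_Hat (Subgroup.commutator_mem_commutator hb hb'))
    (hBn (by rw [map_mul]; exact mul_mem hb' hb) hu)) (hBn hb' hv)

/-- a flat normal `p`-group with a fixed point free element joined to a flat perfect group -/
theorem flat_semi [Finite G] (hs : Function.Surjective τ) (hn : ∀ x ∈ B, τ h₀ * x * (τ h₀)⁻¹ ∈ B)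
    (hB : Flat τ B) (hfix : ∀ x ∈ B, ⁅τ h₀, x⁆ ∈ ⁅B, B⁆ → x ∈ ⁅B, B⁆)
    {K : Subgroup G} (hK : Flat τ K) (hp : K ≤ ⁅K, K⁆) (hKB : ∀ k ∈ K, ∀ x ∈ B, k * x * k⁻¹ ∈ B)
    (hhK : ∀ k ∈ K, Commute (τ h₀) k) (hd : B ⊓ K = ⊥) : Flat τ (B ⊔ K) := by
  have hh : ∀ {d : Γ}, d ∈ D τ B → ⁅h₀, d⁆ ∈ D τ B := fun hd' => by
    rw [commutatorElement_def]; exact mul_mem (D_conj hn hd') (inv_mem hd')
  have hyp : ∀ a, τ a ∈ B → ⁅τ h₀, τ a⁆ ∈ ⁅B, B⁆ → ⁅h₀, a⁆ ∈ D τ B := fun a ha h => by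
    have h1 := hfix _ ha h
    rw [← Subgroup.map_comap_eq_self_of_surjective hs B, ← Subgroup.map_commutator] at h1
    obtain ⟨d, hd', e⟩ := h1
    rw [comm_congr hc (a := h₀) (a' := h₀) rfl e.symm]
    exact hh hd'
  -- the complement maps onto `B`
  have honto : ∀ x ∈ B, ∃ u ∈ Hat τ h₀ B, τ u = x := by
    haveI : (⁅B, B⁆.subgroupOf B).Normal := by
      rw [show ⁅B, B⁆.subgroupOf B = commutator B from ?_]
      · infer_instance
      · rw [← Subgroup.map_subtype_commutator, Subgroup.subgroupOf,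
          Subgroup.comap_map_eq_self_of_injective B.subtype_injective]
    let V : Subgroup G := (Hat τ h₀ B).map τ
    have hDV : ⁅B, B⁆ ≤ V := by
      conv_lhs => rw [← Subgroup.map_comap_eq_self_of_surjective hs B, ← Subgroup.map_commutator]
      exact Subgroup.map_mono D_le_Hat
    let ψ : ↥B → ↥B ⧸ ⁅B, B⁆.subgroupOf B := fun x =>
      QuotientGroup.mk ⟨τ h₀ * x * (τ h₀)⁻¹ * (x : G)⁻¹, mul_mem (hn _ x.2) (inv_mem x.2)⟩
    have hψ : ∀ x y : ↥B, ψ x = ψ y → (x : G)⁻¹ * y ∈ ⁅B, B⁆ := fun x y e => by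
      refine hfix _ (mul_mem (inv_mem x.2) y.2) ?_
      have h1 : (τ h₀ * x * (τ h₀)⁻¹ * (x : G)⁻¹)⁻¹ * (τ h₀ * y * (τ h₀)⁻¹ * (y : G)⁻¹) ∈ ⁅B, B⁆ :=
        (Subgroup.mem_subgroupOf.1 (QuotientGroup.eq.1 (show (QuotientGroup.mk _ : ↥B ⧸ ⁅B, B⁆.subgroupOf B) = QuotientGroup.mk _ from e)))
      have hn' : ∀ w ∈ B, ∀ c ∈ ⁅B, B⁆, w * c * w⁻¹ ∈ ⁅B, B⁆ := fun w hw c hc' => by
        have := (inferInstance : (⁅B, B⁆.subgroupOf B).Normal).conj_mem ⟨c, (Subgroup.commutator_le.2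
          fun a ha b hb => mul_mem (mul_mem (mul_mem ha hb) (inv_mem ha)) (inv_mem hb)) hc'⟩ hc' ⟨w, hw⟩
        exact this
      have hC : ∀ w ∈ B, τ h₀ * w * (τ h₀)⁻¹ * w⁻¹ ∈ B := fun w hw => mul_mem (hn _ hw) (inv_mem hw)
      rw [show ⁅τ h₀, (x : G)⁻¹ * y⁆ =
          (τ h₀ * (x : G)⁻¹ * (τ h₀)⁻¹) *
            ((τ h₀ * y * (τ h₀)⁻¹ * (y : G)⁻¹) * (τ h₀ * x * (τ h₀)⁻¹ * (x : G)⁻¹)⁻¹) *
            (τ h₀ * (x : G)⁻¹ * (τ h₀)⁻¹)⁻¹ by
        simp only [commutatorElement_def]; group]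
      refine hn' _ (hn _ (inv_mem x.2)) _ ?_
      have := hn' _ (hC _ x.2) _ h1
      rwa [show ∀ a b : G, a * (a⁻¹ * b) * a⁻¹ = b * a⁻¹ from fun a b => by group] at this
    intro x hx
    haveI : Finite ↥B := inferInstance
    let ψq : ↥B ⧸ ⁅B, B⁆.subgroupOf B → ↥B ⧸ ⁅B, B⁆.subgroupOf B := fun c => ψ c.out
    have hqi : Function.Injective ψq := fun c d e => by
      rw [← QuotientGroup.out_eq' c, ← QuotientGroup.out_eq' d]
      exact QuotientGroup.eq.2 (hψ _ _ e)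
    obtain ⟨c, hc'⟩ := (Finite.injective_iff_surjective.1 hqi) (QuotientGroup.mk ⟨x, hx⟩)
    have h2 : (τ h₀ * (c.out : G) * (τ h₀)⁻¹ * (c.out : G)⁻¹)⁻¹ * x ∈ ⁅B, B⁆ := Subgroup.mem_subgroupOf.1 (QuotientGroup.eq.1 (show (QuotientGroup.mk _ : ↥B ⧸ ⁅B, B⁆.subgroupOf B) = QuotientGroup.mk _ from hc'))
    obtain ⟨a, ha⟩ := hs (c.out : G)
    have h3 : τ ⁅h₀, a⁆ ∈ V := ⟨_, comm_mem_Hat (by rw [ha]; exact c.out.2), rfl⟩
    rw [map_commutatorElement, ha, commutatorElement_def] at h3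
    have := mul_mem h3 (hDV h2)
    rwa [mul_inv_cancel_left] at this
  have hKn : ∀ {k x : Γ}, k ∈ D τ K → x ∈ Hat τ h₀ B → k * x * k⁻¹ ∈ Hat τ h₀ B := fun {k x} hk hx =>
    Hat_conj hc (by rw [map_commutatorElement, commutatorElement_eq_one_iff_commute]; exact hhK _ (D_le K hk))
      (hKB _ (D_le K hk)) hx
  intro z hz h1
  let N : Subgroup Γ := Hat τ h₀ B ⊔ D τ K
  have hdec : ∀ x ∈ (B ⊔ K).comap τ, ∃ w ∈ N, ∃ e, τ e = 1 ∧ x = w * e := by
    intro x hx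
    have hle : K ≤ Subgroup.normalizer (B : Set G) := fun k hk => Ladder.normalizer_of_le (hKB k hk)
    have hx' : τ x ∈ ((B ⊔ K : Subgroup G) : Set G) := hx
    rw [Subgroup.coe_mul_of_right_le_normalizer_left B K hle] at hx'
    obtain ⟨b, hb, k, hk, e⟩ := hx'
    obtain ⟨u, hu, rfl⟩ := honto b hb
    obtain ⟨v, hv, rfl⟩ := exists_D hs hp hk
    exact ⟨u * v, mul_mem (Subgroup.mem_sup_left hu) (Subgroup.mem_sup_right hv), (u * v)⁻¹ * x,
      by rw [map_mul, map_inv, map_mul, ← e, inv_mul_cancel], (mul_inv_cancel_left _ _).symm⟩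
  have hzN : z ∈ N := (Subgroup.commutator_le.2 fun x hx y hy => by
    obtain ⟨w, hw, e, he, rfl⟩ := hdec x hx
    obtain ⟨w', hw', e', he', rfl⟩ := hdec y hy
    rw [comm_mul_ker hc he he', commutatorElement_def]
    exact mul_mem (mul_mem (mul_mem hw hw') (inv_mem hw)) (inv_mem hw')) hz
  have hle : D τ K ≤ Subgroup.normalizer (Hat τ h₀ B : Set Γ) := fun k hk =>
    Ladder.normalizer_of_le fun x hx => hKn hk hx
  have hzN' : z ∈ ((Hat τ h₀ B ⊔ D τ K : Subgroup Γ) : Set Γ) := hzN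
  rw [Subgroup.coe_mul_of_right_le_normalizer_left _ _ hle] at hzN'
  obtain ⟨u, hu, v, hv, rfl⟩ := hzN'
  have e : τ u = (τ v)⁻¹ := eq_inv_of_mul_eq_one_left ((map_mul τ u v).symm.trans h1)
  have hv1 : τ v = 1 := by
    have : τ v ∈ B ⊓ K := Subgroup.mem_inf.2 ⟨show τ v ∈ B by rw [← inv_inv (τ v), ← e]; exact inv_mem (show τ u ∈ B from Hat_le hn hu), D_le K hv⟩
    rwa [hd, Subgroup.mem_bot] at this
  show u * v = 1
  rw [hK v hv hv1, mul_one]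
  exact Hat_inj hn hB hyp hs hu (by rw [e, hv1, inv_one])

omit hc

/-- perfect subgroups with no multiplier at `ℓ` are flat -/
theorem flat_of_nop {ℓ : ℕ} [hℓ : Fact ℓ.Prime] {Γ : Type u} [Group Γ] [Finite Γ] {τ : Γ →* G}
    (hs : Function.Surjective τ) (hc : τ.ker ≤ Subgroup.center Γ) (hcard : Nat.card τ.ker = ℓ)
    {H : Subgroup G} (hp : H ≤ ⁅H, H⁆) (hno : NoP ℓ ↥H) : Flat τ H := by
  let π : ↥(H.comap τ) →* ↥H := τ.subgroupComap H
  have hπ : Function.Surjective π := fun h => by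
    obtain ⟨a, ha⟩ := hs h
    exact ⟨⟨a, by show τ a ∈ H; rw [ha]; exact h.2⟩, Subtype.ext ha⟩
  have hπc : π.ker ≤ Subgroup.center _ := fun a ha => Subgroup.mem_center_iff.2 fun b =>
    Subtype.ext (Subgroup.mem_center_iff.1 (hc (show τ a.1 = 1 from congrArg Subtype.val ha)) b.1)
  have hperf : commutator ↥H = ⊤ := eq_top_iff.2 fun h _ => by
    have := hp h.2
    rw [← Subgroup.map_subtype_commutator] at this
    obtain ⟨c, hc', e⟩ := this
    rwa [← Subtype.ext e]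
  obtain ⟨hst, -⟩ := Orth.core_stem π hπ hπc hperf
  have h := hno _ _ hst
  intro z hz h1
  rw [D, ← Subgroup.map_subtype_commutator] at hz
  obtain ⟨c, hc', rfl⟩ := hz
  let f : ↥(π.comp (commutator ↥(H.comap τ)).subtype).ker →* ↥τ.ker :=
    { toFun := fun w => ⟨w.1.1.1, congrArg Subtype.val w.2⟩
      map_one' := rfl
      map_mul' := fun _ _ => rfl }
  have hf : Function.Injective f := fun a b e =>
    Subtype.ext (Subtype.ext (Subtype.ext (show a.1.1.1 = b.1.1.1 from congrArg (fun w : ↥τ.ker => (w : Γ)) e)))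
  have hdvd : Nat.card ↥(π.comp (commutator ↥(H.comap τ)).subtype).ker ∣ ℓ :=
    hcard ▸ Subgroup.card_dvd_of_injective f hf
  rcases (Nat.dvd_prime hℓ.out).1 hdvd with h2 | h2
  · have := (Subgroup.card_eq_one.1 h2).le (show (⟨c, hc'⟩ : ↥(commutator ↥(H.comap τ))) ∈ _ from Subtype.ext h1)
    exact congrArg Subtype.val (congrArg Subtype.val (Subgroup.mem_bot.1 this))
  · exact absurd (h2 ▸ dvd_rfl) h

/-- a subgroup of index prime to `ℓ` which is flat leaves nothing at `ℓ` -/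
theorem nop_of_flat {ℓ : ℕ} [hℓ : Fact ℓ.Prime]
    (h : ∀ (Γ : Type u) [Group Γ] [Finite Γ] (σ : Γ →* G), Cfsg.IsStemExtension σ → Nat.card σ.ker = ℓ →
      ∃ S : Subgroup G, ¬ ℓ ∣ S.index ∧ Flat σ S) : NoP ℓ G :=
  NoP.of_prime fun Γ _ _ σ hσ hcard => by
    obtain ⟨S, hS, hflat⟩ := h Γ σ hσ hcard
    exact not_dvd_ker_of_preimage hσ S hS (fun z hz hzD _ => hflat z hzD hz) (hcard ▸ dvd_rfl)

/-- a cyclic subgroup of index prime to `ℓ` -/
theorem nop_of_cyclic {ℓ : ℕ} [Fact ℓ.Prime] (S : Subgroup G) [IsCyclic S] (hS : ¬ ℓ ∣ S.index) : NoP ℓ G :=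
  fun _ _ _ _ hσ => not_dvd_ker_of_cyclic hσ S hS

/-- stem extensions of perfect groups are perfect -/
theorem perfect_of_stem {Γ : Type u} [Group Γ] {σ : Γ →* G} (hσ : Cfsg.IsStemExtension σ)
    (hG : commutator G = ⊤) : commutator Γ = ⊤ := by
  refine CfsgLib.Schur.eq_top_of_map_eq_top hσ ?_
  rw [commutator_def, Subgroup.map_commutator, Subgroup.map_top_of_surjective _ hσ.1, ← commutator_def, hG]

end CfsgLib.Lie.Mult.Unit
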