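import Cfsg.Agent.Lib.Lie.MultExc.UFiveTwo.P2
import Cfsg.Agent.Lib.Lie.Mult.Unit.Kit

/-!
# No multiplier at two for `SU(5,2)`, by a certificate
-/

set_option autoImplicit false
set_option linter.all false
set_option maxRecDepth 100000

namespace CfsgLib.Lie.Mult.Unit

open CfsgLib.SU CfsgLib.Lie.MultExc CfsgLib.Lie.MultExc.MatCert CfsgLib.Spor.Fi22.U6

universe u

variable {F : Type u} [Field F] [Fintype F] {q : ℕ} {C : UCtx F q}

theorem five_two_cert : MultExc.UFiveTwo.P2.cert.p = 2 ∧ MultExc.UFiveTwo.P2.cert.N = 2 ∧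
    MultExc.UFiveTwo.P2.cert.bound = 1 ∧ MultExc.UFiveTwo.P2.cert.m = 10 := ⟨rfl, rfl, rfl, rfl⟩

include C in
theorem nop_five_two_two (hF : Fintype.card F = 2 ^ 2) (hq : q = 2) : NoP 2 ↥(Cfsg.SU 5 F q) := by
  classical
  subst hq
  haveI := Fact.mk Nat.prime_two
  let φ : F ≃+* Four := FiniteField.ringEquivOfCardEq (by rw [hF, Four.card_four]; norm_num)
  obtain ⟨hp, hN, hb, hm⟩ := five_two_cert
  have hcard : Nat.card ↥(Cfsg.SU 5 F 2) = 13685760 := by
    have h := CfsgLib.Classical.card_su_mul C hF (n := 5) (by norm_num)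
    rw [CfsgLib.Classical.card_gu_formula C hF] at h
    simp only [Finset.prod_range_succ, Finset.prod_range_zero] at h
    norm_num [Nat.even_iff] at h ⊢
    omega
  intro Γ _ _ τ hτ hd
  obtain ⟨z, hz⟩ := exists_prime_orderOf_dvd_card' (G := τ.ker) 2 hd
  have hP : IsPGroup 2 (Subgroup.zpowers (z : Γ)) :=
    IsPGroup.of_card (n := 1) (by rw [Nat.card_zpowers, Subgroup.orderOf_coe, hz, pow_one])
  have hle : Subgroup.zpowers (z : Γ) ≤ τ.ker := by rw [Subgroup.zpowers_le]; exact z.2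
  have hfac : (13685760 : ℕ).factorization 2 = 10 := by
    rw [show (13685760 : ℕ) = 2 ^ 10 * 13365 by norm_num,
      Nat.factorization_mul (by norm_num) (by norm_num), Finsupp.add_apply,
      Nat.Prime.factorization_pow Nat.prime_two, Finsupp.single_eq_same,
      Nat.factorization_eq_zero_of_not_dvd (by norm_num), add_zero]
  have := part_leU (MultExc.UFiveTwo.rho_injective φ) one_lt_two
    (MultExc.UFiveTwo.hasElts_words C φ MultExc.UFiveTwo.tvs_ok MultExc.UFiveTwo.entries_ok) hτ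
    MultExc.UFiveTwo.P2.cert (by rw [hp]; exact Nat.prime_two) (e := 1) (by rw [hp, hN, pow_one])
    (by rw [hb, hN]; norm_num) (by rw [hcard, hp, hm]; exact hfac)
    MultExc.UFiveTwo.P2.checks MultExc.UFiveTwo.P2.lin_ok _ hle (by rw [hp]; exact hP)
  rw [hb, Nat.card_zpowers, Subgroup.orderOf_coe, hz] at this
  omega

end CfsgLib.Lie.Mult.Unit
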