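import Cfsg.Agent.Lib.Lie.Mult.Unit.Blocks

/-!
# No multiplier in dimension four over fields with at least sixteen elements
-/

set_option autoImplicit false
set_option linter.all false

namespace CfsgLib.Lie.Mult.Unit

open Matrix CfsgLib.SU CfsgLib.Classical.HermStab CfsgLib.Classical.HermTori
open scoped commutatorElement

universe u

variable {F : Type u} [Field F] [Fintype F] {q : ℕ} {C : UCtx F q}

include C in
theorem four_two_part (hF : Fintype.card F = q ^ 2) (hq : 4 ≤ q) {p a : ℕ} [Fact p.Prime] (hq' : q = p ^ a)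
    {ℓ : ℕ} [hℓ : Fact ℓ.Prime] (hℓq : ¬ ℓ ∣ q) (hℓw : ℓ ∣ q - 1) : NoP ℓ ↥(Cfsg.SU (2 + 2) F q) := by
  classical
  have hp2 := su_two_perfect (C := C) hF hq
  obtain ⟨u, hu, hord⟩ := exists_unit_gen (C := C) hF
  obtain ⟨g, hgx, hg, hn, hsg⟩ := exists_join (C := C) hu
  set K := (blockSU (k := 2) (m := 2) C).range with hK
  have hKp : K ≤ ⁅K, K⁆ := by
    rw [hK, ← blockSU_range]
    exact sup_perfect (range_perfect _ hp2) (range_perfect _ hp2)
  have hu1 : u ^ (q + 1) = 1 := pow_q_succ (C := C) hu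
  have hgK : ∀ i : ℕ, g ^ i ∈ K ↔ q + 1 ∣ i := fun i => (hg i).trans ⟨hord i, fun ⟨t, ht⟩ => by
    rw [ht, pow_mul, hu1, one_pow]⟩
  obtain ⟨L, iL, jL, hL, ⟨eL⟩⟩ := su_two_equiv (C := C) hF
  have hcK : Nat.card ↥K = (q * (q ^ 2 - 1)) * (q * (q ^ 2 - 1)) := by
    have hinj : Function.Injective (blockSU (k := 2) (m := 2) C) := fun x y h => by
      have h1 := blockMat_inj (congrArg (fun X : ↥(Cfsg.SU (2 + 2) F q) => X.1.1) h)
      exact Prod.ext (Subtype.ext (Subtype.ext h1.1)) (Subtype.ext (Subtype.ext h1.2))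
    rw [hK, ← Nat.card_congr (MonoidHom.ofInjective hinj).toEquiv, Nat.card_prod, Nat.card_congr eL.toEquiv,
      card_sl_two, hL]
  set B := K ⊔ Subgroup.zpowers g with hB
  have hcB : Nat.card ↥B = (q * (q ^ 2 - 1)) * (q * (q ^ 2 - 1)) * (q + 1) := by
    rw [hB, card_sup_zpow (Nat.succ_pos q) hn hgK, hcK]
  have hflatB : ∀ (Γ : Type u) [Group Γ] [Finite Γ] (σ : Γ →* ↥(Cfsg.SU (2 + 2) F q)),
      Cfsg.IsStemExtension σ → Nat.card σ.ker = ℓ → Flat σ B := by
    intro Γ _ _ σ hσ hcard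
    refine flat_cyclic hσ.2.1 hσ.1 ?_ hKp hn le_rfl
    rw [hK, ← blockSU_range]
    exact flat_sup hσ.1 hσ.2.1
      (flat_range (kA_injective 2 2) hp2 (nop_su_two (C := C) hF hℓq) hσ.1 hσ.2.1 hcard) (range_perfect _ hp2)
      (flat_range (kB_injective 2 2) hp2 (nop_su_two (C := C) hF hℓq) hσ.1 hσ.2.1 hcard) (range_perfect _ hp2)
      (fun x hx y hy => kA_kB_comm hx hy) kA_inf_kB
  obtain ⟨w, hw⟩ : ∃ w, q = w + 1 := ⟨q - 1, by omega⟩
  have e2 : q ^ 2 - 1 = w * (w + 2) := by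
    rw [hw, show (w + 1) ^ 2 = w * (w + 2) + 1 by ring, Nat.add_sub_cancel]
  have e4 : q ^ 4 - 1 = w * (w + 2) * (q ^ 2 + 1) := by
    rw [hw, show (w + 1) ^ 4 = w * (w + 2) * ((w + 1) ^ 2 + 1) + 1 by ring, Nat.add_sub_cancel]
  have e3 : q ^ 3 + 1 = (w + 2) * (w * w + w + 1) := by rw [hw]; ring
  have hwpos : 0 < w := by omega
  have hcG : Nat.card ↥(Cfsg.SU (2 + 2) F q) =
      (q * (q ^ 2 - 1)) * (q * (q ^ 2 - 1)) * (q + 1) * (q ^ 4 * ((q ^ 2 + 1) * (w * w + w + 1))) := by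
    rw [show Nat.card ↥(Cfsg.SU (2 + 2) F q) = Nat.card (Cfsg.SU 4 F q) from rfl, card_su_four (C := C) hF,
      e4, e3, e2, show q + 1 = w + 2 by omega]
    ring
  have hpos : 0 < (q * (q ^ 2 - 1)) * (q * (q ^ 2 - 1)) * (q + 1) := hcB ▸ Nat.card_pos
  by_cases h2 : ℓ = 2
  · subst h2
    obtain ⟨j, hj⟩ : ∃ j, q = 2 * j + 1 := ⟨q / 2, by omega⟩
    set s := pm C swp swp_sign with hs
    have hsB : ∀ X ∈ B, s * X * s⁻¹ ∈ B := fun X hX => by
      rw [hB] at hX ⊢
      refine sup_conj (fun Y hY => Subgroup.mem_sup_left ?_) (fun Y hY => ?_) hX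
      · rw [hK, ← blockSU_range] at hY ⊢
        refine sup_conj ?_ ?_ hY
        · rintro _ ⟨b, rfl⟩
          rw [swp_conj_kA]
          exact Subgroup.mem_sup_right ⟨b, rfl⟩
        · rintro _ ⟨b, rfl⟩
          rw [swp_conj_kB]
          exact Subgroup.mem_sup_left ⟨b, rfl⟩
      · obtain ⟨i, rfl⟩ := Subgroup.mem_zpowers_iff.1 hY
        rw [← conj_zpow, hsg]
        exact Subgroup.mem_sup_right (zpow_mem (inv_mem (Subgroup.mem_zpowers g)) i)
    have hs2 : ∀ i : ℕ, s ^ i ∈ B ↔ 2 ∣ i := by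
      intro i
      constructor
      · intro hi
        rcases Nat.mod_two_eq_zero_or_one i with e | e
        · exact Nat.dvd_of_mod_eq_zero e
        exfalso
        rw [← Nat.div_add_mod i 2, e, pow_succ, pow_mul, swp_sq, one_pow, one_mul] at hi
        obtain ⟨k, hk, i', e'⟩ := exists_split_zpow hn hi
        obtain ⟨⟨A, A'⟩, rfl⟩ := hk
        obtain ⟨d, hd, hdx⟩ := (diagT C (2 + 2)).zpow_mem (x := g) ⟨_, fun l => by
          induction l using Fin.addCases with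
          | left i => rw [dd, Fin.append_left]; fin_cases i <;> simp [hu]
          | right i => rw [dd, Fin.append_right]; fin_cases i <;> simp [C.bar_bar, mul_comm _ u, hu], hgx⟩ i'
        have h := congrArg (fun X : ↥(Cfsg.SU (2 + 2) F q) =>
          X.1.1 *ᵥ Fin.append (1 : Fin 2 → F) (0 : Fin 2 → F)) e'
        rw [hs] at h
        simp only [suMat_mulVec_mul] at h
        rw [swp_app, hdx, show (fun l => d l * Fin.append (1 : Fin 2 → F) (0 : Fin 2 → F) l) =
          Fin.append (fun l => d (Fin.castAdd 2 l)) (0 : Fin 2 → F) by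
            funext l
            induction l using Fin.addCases with
            | left l => rw [Fin.append_left, Fin.append_left]; exact mul_one _
            | right l => rw [Fin.append_right, Fin.append_right]; exact mul_zero _] at h
        have h' : Fin.append (0 : Fin 2 → F) (1 : Fin 2 → F) =
            blockMat A.1.1 A'.1.1 *ᵥ Fin.append (fun l => d (Fin.castAdd 2 l)) (0 : Fin 2 → F) := h
        rw [block_app, Matrix.mulVec_zero] at h'
        have h'' := congrFun h' (Fin.natAdd 2 0)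
        rw [Fin.append_right, Fin.append_right] at h''
        exact one_ne_zero h''
      · rintro ⟨t, rfl⟩
        rw [pow_mul, swp_sq, one_pow]
        exact one_mem _
    have hidx : ¬ 2 ∣ (B ⊔ Subgroup.zpowers s).index := by
      intro h
      have hi := Subgroup.card_mul_index (B ⊔ Subgroup.zpowers s)
      rw [card_sup_zpow two_pos hsB hs2, hcB, hcG, mul_assoc _ 2] at hi
      have h' := Nat.eq_of_mul_eq_mul_left hpos hi
      rw [show q ^ 2 + 1 = 2 * (2 * (j * j + j) + 1) by rw [hj]; ring] at h'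
      have h'' : (B ⊔ Subgroup.zpowers s).index = q ^ 4 * ((2 * (j * j + j) + 1) * (w * w + w + 1)) := by linarith
      rw [h''] at h
      rcases Nat.prime_two.dvd_mul.1 h with h | h
      · exact hℓq (Nat.prime_two.dvd_of_dvd_pow h)
      rcases Nat.prime_two.dvd_mul.1 h with h | h
      · omega
      · obtain ⟨k, rfl⟩ : ∃ k, w = 2 * k := ⟨j, by omega⟩
        rw [show 2 * k * (2 * k) + 2 * k + 1 = 2 * (2 * (k * k) + k) + 1 by ring] at h
        omega
    have hperf3 : commutator ↥(Cfsg.SU 3 F q) = ⊤ :=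
      CfsgLib.Classical.WeilSU.su_perfect hF le_rfl (by omega)
    have h20 : (2 : F) ≠ 0 := by
      refine Ring.two_ne_zero fun hch => ?_
      rw [FiniteField.even_card_iff_char_two, ← Nat.even_iff, hF, hj] at hch
      exact Nat.not_even_iff_odd.2 ((odd_two_mul_add_one j).pow) hch
    obtain ⟨c, hc⟩ := exists_norm_eq (C := C) hF (c := (2 : F)⁻¹) (by rw [map_inv₀, map_ofNat])
    refine nop_of_flat fun Γ _ _ σ hσ hcard => ⟨_, hidx, ?_⟩
    obtain ⟨h₀, hh₀⟩ := hσ.1 s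
    refine flat_wreath (h₀ := h₀) hσ.2.1 hσ.1 (by rw [hh₀]; exact hsB) (hflatB Γ σ hσ hcard)
      (fun a ha hca => ?_) (by rw [hh₀])
    obtain ⟨k, hk, z, e⟩ := exists_split_zpow hn ha
    obtain ⟨i, hi⟩ : ∃ i : ℕ, g ^ i = g ^ z :=
      (IsOfFinOrder.mem_powers_iff_mem_zpowers (isOfFinOrder_of_finite g)).2
        (Subgroup.zpow_mem (Subgroup.zpowers g) (Subgroup.mem_zpowers g) z)
    rw [← hi] at e
    have hgn : ∀ z : ℤ, ∀ x ∈ K, g ^ z * x * (g ^ z)⁻¹ ∈ K := fun z x hx =>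
      (Subgroup.mem_normalizer_iff.1 (zpow_mem (Ladder.normalizer_of_le hn) z) x).1 hx
    have hBB : ⁅B, B⁆ ≤ K := Subgroup.commutator_le.2 fun x hx y hy => by
      obtain ⟨x, hx', z, rfl⟩ := exists_split_zpow hn hx
      obtain ⟨y, hy', z', rfl⟩ := exists_split_zpow hn hy
      rw [show ⁅x * g ^ z, y * g ^ z'⁆ =
          x * (g ^ z * y * (g ^ z)⁻¹) * (g ^ z' * x⁻¹ * (g ^ z')⁻¹) * y⁻¹ by
        simp only [commutatorElement_def]; group]
      exact mul_mem (mul_mem (mul_mem hx' (hgn z _ hy')) (hgn z' _ (inv_mem hx'))) (inv_mem hy')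
    have hsk : s * k * s⁻¹ ∈ K := by
      rw [hK, ← blockSU_range] at hk ⊢
      refine sup_conj ?_ ?_ hk
      · rintro _ ⟨b, rfl⟩; rw [swp_conj_kA]; exact Subgroup.mem_sup_right ⟨b, rfl⟩
      · rintro _ ⟨b, rfl⟩; rw [swp_conj_kB]; exact Subgroup.mem_sup_left ⟨b, rfl⟩
    have hsgi : s * g ^ i * s⁻¹ = (g ^ i)⁻¹ := by rw [← conj_pow, hsg, inv_pow]
    have h2i : g ^ (i + i) ∈ K := by
      have h := hBB hca
      rw [hh₀, e, show ⁅s, k * g ^ i⁆ = (s * k * s⁻¹) * (s * g ^ i * s⁻¹) * (g ^ i)⁻¹ * k⁻¹ by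
        simp only [commutatorElement_def]; group, hsgi] at h
      have h' := mul_mem (mul_mem (inv_mem hsk) h) hk
      rw [show (s * k * s⁻¹)⁻¹ * (s * k * s⁻¹ * (g ^ i)⁻¹ * (g ^ i)⁻¹ * k⁻¹) * k = (g ^ i * g ^ i)⁻¹ by group,
        inv_mem_iff, ← pow_add] at h'
      exact h'
    have hu2 : (u ^ i) * (u ^ i) = 1 := by rw [← pow_add]; exact (hg _).1 h2i
    have hgg : g ^ i * g ^ i = 1 := su_ext fun x => by
      have hgp : ∀ (j : ℕ) (x : Fin (2 + 2) → F), (g ^ j).1.1 *ᵥ x = fun l => dd C u l ^ j * x l := fun j => by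
        induction j with
        | zero => intro x; rw [pow_zero, su_one_mulVec]; simp
        | succ j ih => intro x; rw [pow_succ, suMat_mulVec_mul, hgx, ih]; funext l; ring
      rw [← pow_add, hgp, su_one_mulVec]
      funext l
      have : dd C u l ^ (i + i) = 1 := by
        induction l using Fin.addCases with
        | left j => rw [dd, Fin.append_left]; fin_cases j <;> simp [pow_add, hu2]
        | right j => rw [dd, Fin.append_right]; fin_cases j <;> simp [pow_add, ← map_pow, ← map_mul, hu2]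
      rw [this, one_mul]
    have hcomm : Commute s (g ^ i) := by
      have h : s * g ^ i * s⁻¹ = g ^ i := hsgi.trans (inv_eq_of_mul_eq_one_right hgg)
      exact (mul_inv_eq_iff_eq_mul.1 h)
    let v : Fin (1 + 3) → F := (Fin.append (![0, c] : Fin 2 → F) (![0, c] : Fin 2 → F) : Fin (2 + 2) → F)
    have hgv : g.1.1 *ᵥ (v : Fin (2 + 2) → F) = v := by
      rw [hgx]
      funext (l : Fin (2 + 2))
      induction l using Fin.addCases with
      | left j =>
        show dd C u (Fin.castAdd 2 j) * Fin.append (![0, c] : Fin 2 → F) ![0, c] (Fin.castAdd 2 j) =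
          Fin.append (![0, c] : Fin 2 → F) ![0, c] (Fin.castAdd 2 j)
        rw [dd, Fin.append_left, Fin.append_left]
        fin_cases j <;> simp
      | right j =>
        show dd C u (Fin.natAdd 2 j) * Fin.append (![0, c] : Fin 2 → F) ![0, c] (Fin.natAdd 2 j) =
          Fin.append (![0, c] : Fin 2 → F) ![0, c] (Fin.natAdd 2 j)
        rw [dd, Fin.append_right, Fin.append_right]
        fin_cases j <;> simp
    have hv : C.form v v = 1 := by
      show C.form (Fin.append (![0, c] : Fin 2 → F) ![0, c]) (Fin.append (![0, c] : Fin 2 → F) ![0, c]) = 1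
      rw [form_app]
      simp only [UCtx.form, Fin.sum_univ_two]
      simp
      rw [hc, ← two_mul, mul_inv_cancel₀ h20]
    have hfl := flat_fix (C := C) (m := 3) hF (by norm_num) hσ.1
      (flat_range (kB_injective 1 3) hperf3 (nop_three (C := C) hq' hF hq) hσ.1 hσ.2.1 hcard) hv
      (S := fixG v) (fun X hX => hX)
    obtain ⟨γ, hγ⟩ := hσ.1 (g ^ i)
    have hgi : g ^ i ∈ fixG (n := 2 + 2) (v : Fin (2 + 2) → F) := pow_mem (show g ∈ fixG _ from hgv) i
    have hcl : Commute h₀ γ := commute_of_flat hfl (hh₀.symm ▸ show s.1.1 *ᵥ v = v from swp_app _ _) (hγ.symm ▸ hgi)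
      (by rw [hh₀, hγ]; exact hcomm)
    obtain ⟨d, hd, hdk⟩ := exists_D hσ.1 hKp hk
    rw [comm_congr hσ.2.1 (a := h₀) (a' := h₀) rfl (show σ a = σ (d * γ) by rw [map_mul, hdk, hγ, e]),
      show ⁅h₀, d * γ⁆ = ⁅h₀, d⁆ * (d * ⁅h₀, γ⁆ * d⁻¹) by simp only [commutatorElement_def]; group,
      commutatorElement_eq_one_iff_commute.2 hcl, mul_one, mul_inv_cancel, mul_one, commutatorElement_def]
    have hdB : d ∈ D σ B := Subgroup.commutator_mono (Subgroup.comap_mono le_sup_left)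
      (Subgroup.comap_mono le_sup_left) hd
    exact mul_mem (D_conj (by rw [hh₀]; exact hsB) hdB) (inv_mem hdB)
  · refine nop_of_flat fun Γ _ _ σ hσ hcard => ⟨B, fun h => ?_, hflatB Γ σ hσ hcard⟩
    have hi := Subgroup.card_mul_index B
    rw [hcB, hcG] at hi
    rw [Nat.eq_of_mul_eq_mul_left hpos hi] at h
    have hw' : ℓ ∣ w := by rwa [hw, Nat.add_sub_cancel] at hℓw
    rcases hℓ.out.dvd_mul.1 h with h | h
    · exact hℓq (hℓ.out.dvd_of_dvd_pow h)
    rcases hℓ.out.dvd_mul.1 h with h | h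
    · rw [hw, show (w + 1) ^ 2 + 1 = w * (w + 2) + 2 by ring] at h
      have := Nat.le_of_dvd two_pos ((Nat.dvd_add_right (hw'.mul_right _)).1 h)
      have := hℓ.out.two_le
      omega
    · have h1 := Nat.le_of_dvd one_pos ((Nat.dvd_add_right (dvd_add (hw'.mul_right _) hw')).1 h)
      have := hℓ.out.two_le
      omega

include C in
theorem four_torus (hF : Fintype.card F = q ^ 2) (hq : 4 ≤ q) {p a : ℕ} [Fact p.Prime] (hq' : q = p ^ a)
    {ℓ : ℕ} [hℓ : Fact ℓ.Prime] (hℓ2 : ℓ ≠ 2) (hℓq : ¬ ℓ ∣ q) (hd : ℓ ∣ q ^ 2 + 1) :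
    NoP ℓ ↥(Cfsg.SU (2 + 2) F q) := by
  haveI : CharP F p := charP_of_card_eq_prime_pow (f := a * 2) (by rw [hF, hq', ← pow_mul])
  have hk : q ^ 2 + 1 ∣ K q 4 := by
    rw [show (4 : ℕ) = 2 * 2 from rfl, K_even, G, Finset.sum_range_succ, Finset.sum_range_one, pow_zero, pow_one,
      add_comm 1]
    exact dvd_mul_left _ _
  obtain ⟨A, hA⟩ := exists_torus C hq' hF (m := 4) (by norm_num) hk
  refine nop_of_element (G := ↥(Cfsg.SU 4 F q)) (A := A)
    (r := q ^ 6 * ((q ^ 2 - 1) * (q ^ 3 + 1) * (q ^ 2 - 1))) ?_ ?_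
  · rw [hA, card_su_four (C := C) hF, show q ^ 4 - 1 = (q ^ 2 - 1) * (q ^ 2 + 1) by
      rw [mul_comm, ← Nat.sq_sub_sq, one_pow, ← pow_mul]]
    ring
  · intro h
    have h0 : ((q : ZMod ℓ) ^ 2 + 1) = 0 := by
      have := (ZMod.natCast_eq_zero_iff _ ℓ).2 hd
      simpa using this
    have h2 : (2 : ZMod ℓ) ≠ 0 := by
      intro e
      have : ℓ ∣ 2 := (ZMod.natCast_eq_zero_iff _ ℓ).1 (by simpa using e)
      exact hℓ2 ((Nat.prime_dvd_prime_iff_eq hℓ.out Nat.prime_two).1 this)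
    have hne : ((q : ZMod ℓ)) ≠ 0 := fun e => hℓq ((ZMod.natCast_eq_zero_iff _ ℓ).1 e)
    have h1 := (ZMod.natCast_eq_zero_iff _ ℓ).2 h
    push_cast [Nat.one_le_pow 2 q (by omega)] at h1
    rcases mul_eq_zero.1 h1 with e | e
    · exact hne (pow_eq_zero_iff (by norm_num) |>.1 e)
    rcases mul_eq_zero.1 e with e | e
    rcases mul_eq_zero.1 e with e | e
    · exact h2 (by linear_combination h0 - e)
    · refine h2 ?_
      linear_combination (1 - ((q : ZMod ℓ) - 1) * (q : ZMod ℓ) - ((q : ZMod ℓ) - 1) * 0) * 0 + h0 +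
        ((q : ZMod ℓ) + 1) * e - ((q : ZMod ℓ) + 1) * (q : ZMod ℓ) * h0
    · exact h2 (by linear_combination h0 - e)

include C in
/-- no multiplier in dimension four -/
theorem nop_four {p a : ℕ} [Fact p.Prime] (hq' : q = p ^ a) (hF : Fintype.card F = q ^ 2) (hq : 4 ≤ q)
    {ℓ : ℕ} [hℓ : Fact ℓ.Prime] : NoP ℓ ↥(Cfsg.SU 4 F q) := by
  have hperf3 : commutator ↥(Cfsg.SU 3 F q) = ⊤ :=
    CfsgLib.Classical.WeilSU.su_perfect hF le_rfl (by omega)
  have hperf2 := su_two_perfect (C := C) hF hq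
  by_cases hℓq : ℓ ∣ q
  · refine nop_char_step (C := C) (m := 2) hℓq hF le_rfl ?_ (fun Γ _ _ τ hτ hcard => ?_) hperf2
    · exact ⟨by omega, Or.inr (Or.inl ⟨le_rfl, hq⟩)⟩
    · refine (flat_range (f := kB (C := C) 1 3) (kB_injective 1 3) hperf3 (nop_three (C := C) hq' hF hq) hτ.1 hτ.2.1 hcard).mono ?_
      intro X hX
      refine range_kB_one.2 ?_
      have := mem_range_kB.1 hX (![1, 0])
      have e : (e0 3 : Fin 4 → F) = Fin.append (![1, 0] : Fin 2 → F) (0 : Fin 2 → F) := by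
        funext l
        fin_cases l <;> rfl
      show X.1.1 *ᵥ (e0 3 : Fin 4 → F) = e0 3
      rw [e]
      exact this
  obtain ⟨w, hw⟩ : ∃ w, q = w + 1 := ⟨q - 1, by omega⟩
  by_cases hdw : ℓ ∣ q - 1
  · exact four_two_part (C := C) hF hq hq' hℓq hdw
  by_cases hd : ℓ ∣ q ^ 2 + 1
  · refine four_torus (C := C) hF hq hq' (fun e => ?_) hℓq hd
    subst e
    rcases Nat.even_or_odd q with ⟨j, hj⟩ | ⟨j, hj⟩
    · exact hℓq ⟨j, by omega⟩
    · exact hdw ⟨j, by omega⟩
  refine nop_levi (C := C) (m := 3) hF (by norm_num) hperf3 (nop_three (C := C) hq' hF hq) ?_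
  intro i hi hdi
  rw [if_neg (by decide), show q ^ (3 + 1) - 1 = (q - 1) * (q ^ 2 + 1) * (q + 1) by
    rw [hw, Nat.add_sub_cancel, show (w + 1) ^ (3 + 1) = w * ((w + 1) ^ 2 + 1) * (w + 1 + 1) + 1 by ring,
      Nat.add_sub_cancel], ← mul_assoc] at hi
  rw [Nat.eq_of_mul_eq_mul_right (show 0 < q + 1 by omega) hi] at hdi
  rcases hℓ.out.dvd_mul.1 hdi with h | h
  · exact hℓq (hℓ.out.dvd_of_dvd_pow h)
  rcases hℓ.out.dvd_mul.1 h with h | h
  · exact hdw h
  · exact hd h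

end CfsgLib.Lie.Mult.Unit
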