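import Cfsg.Agent.Lib.Lie.Mult.Unit.Stab
import Cfsg.Agent.Lib.Lie.Mult.StabStep

/-!
# The special unitary group on vectors of norm one
-/

set_option autoImplicit false
set_option linter.all false

namespace CfsgLib.Lie.Mult.Unit

open Matrix CfsgLib.SU CfsgLib.Classical.HermStab
open MulAction (stabilizer)

universe u

variable {F : Type u} [Field F] [Fintype F] {q n l m : ℕ} {C : UCtx F q}

local notation "ext" => Fin.append

/-- vectors of norm one -/
abbrev USph (C : UCtx F q) (n : ℕ) := {v : Fin n → F // C.form v v = 1}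

instance usphAction (C : UCtx F q) (n : ℕ) : MulAction ↥(Cfsg.SU n F q) (USph C n) where
  smul g v := ⟨g.1.1 *ᵥ v.1, by rw [C.form_su]; exact v.2⟩
  one_smul v := Subtype.ext (su_one_mulVec v.1)
  mul_smul g h v := Subtype.ext (suMat_mulVec_mul g h v.1)

theorem smul_usph (g : ↥(Cfsg.SU n F q)) (v : USph C n) : (g • v).1 = g.1.1 *ᵥ v.1 := rfl

theorem usph_ne (v : USph C n) : v.1 ≠ 0 := fun h => by
  have := v.2
  rw [h, C.form_zero_left] at this
  exact zero_ne_one this

theorem mem_usph_stab {g : ↥(Cfsg.SU n F q)} {v : USph C n} :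
    g ∈ stabilizer ↥(Cfsg.SU n F q) v ↔ g.1.1 *ᵥ v.1 = v.1 :=
  MulAction.mem_stabilizer_iff.trans Subtype.ext_iff

theorem usph_stab (v : USph C n) : stabilizer ↥(Cfsg.SU n F q) v = fixG v.1 :=
  Subgroup.ext fun g => mem_usph_stab

theorem map_fixG (A : ↥(Cfsg.SU n F q)) (u : Fin n → F) :
    (fixG u).map (MulAut.conj A).toMonoidHom = fixG (A.1.1 *ᵥ u) := by
  ext X
  constructor
  · rintro ⟨Y, hY, rfl⟩
    show (A * Y * A⁻¹).1.1 *ᵥ (A.1.1 *ᵥ u) = A.1.1 *ᵥ u
    rw [suMat_mulVec_mul, suMat_mulVec_mul, su_inv_mulVec, show Y.1.1 *ᵥ u = u from hY]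
  · intro hX
    refine ⟨A⁻¹ * X * A, ?_, by show A * (A⁻¹ * X * A) * A⁻¹ = X; group⟩
    show (A⁻¹ * X * A).1.1 *ᵥ u = u
    rw [suMat_mulVec_mul, suMat_mulVec_mul, show X.1.1 *ᵥ (A.1.1 *ᵥ u) = A.1.1 *ᵥ u from hX, su_inv_mulVec]

theorem li_two {u r : Fin n → F} (hu : C.form u u = 1) (hru : C.form r u = 0) (hr : r ≠ 0) :
    LinearIndependent F ![u, r] := by
  refine LinearIndependent.pair_iff.2 fun s t h => ?_
  have hs : s = 0 := by
    have h1 := congrArg (fun z => C.form z u) h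
    simpa [C.form_add_left, C.form_smul_left, hu, hru, C.form_zero_left] using h1
  rw [hs, zero_smul, zero_add, smul_eq_zero] at h
  exact ⟨hs, h.resolve_right hr⟩

include C in
theorem fix_one_perfect (hF : Fintype.card F = q ^ 2) (hm : 1 ≤ m) (hn : n = 1 + m)
    (hp : commutator ↥(Cfsg.SU m F q) = ⊤) {v : Fin n → F} (hv : C.form v v = 1) :
    (fixG v : Subgroup ↥(Cfsg.SU n F q)) ≤ ⁅fixG (q := q) v, fixG (q := q) v⁆ := by
  subst hn
  obtain ⟨A, hA⟩ := exists_su_move (C := C) hF (by omega) (form_e0 (C := C) m) hv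
  refine perfect_of_conj A (J0 := (kB (C := C) 1 m).range) ?_ (range_perfect _ hp)
  rw [show (kB (C := C) 1 m).range = fixG (e0 m) from Subgroup.ext fun X => range_kB_one, map_fixG, hA]

include C in
theorem fix_pair_perfect (hm : 1 ≤ m) (hn : n = 2 + m) (hp : commutator ↥(Cfsg.SU m F q) = ⊤)
    {u r : Fin n → F} (hu : C.form u u = 1) (hr : C.form r r = 1) (hru : C.form r u = 0) :
    (fixG u ⊓ fixG r : Subgroup ↥(Cfsg.SU n F q)) ≤ ⁅fixG (q := q) u ⊓ fixG (q := q) r, fixG (q := q) u ⊓ fixG (q := q) r⁆ := by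
  classical
  subst hn
  let s : Fin 2 → Fin (2 + m) → F := fun i => ext (Pi.single i (1 : F)) (0 : Fin m → F)
  have hs : ∀ i j, C.form (s i) (s j) = if i = j then 1 else 0 := fun i j => by
    simp only [s]
    rw [form_app, C.form_zero_left, add_zero]
    simp [UCtx.form, Pi.single_apply, apply_ite C.bar, eq_comm]
  have hrne : r ≠ 0 := fun h => by rw [h, C.form_zero_left] at hr; exact zero_ne_one hr
  have hsne : s 1 ≠ 0 := fun h => by
    have := hs 1 1
    rw [h, C.form_zero_left, if_pos rfl] at this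
    exact zero_ne_one this
  have hw : C.form (ext (0 : Fin 2 → F) (Pi.single ⟨0, hm⟩ (1 : F))) (ext (0 : Fin 2 → F) (Pi.single ⟨0, hm⟩ (1 : F))) = 1 := by
    rw [form_app, C.form_zero_left, zero_add]
    simp [UCtx.form, Pi.single_apply, apply_ite C.bar]
  obtain ⟨A, hA⟩ := exists_su_move_tuple (C := C) (t := ![s 0, s 1]) (t' := ![u, r])
    (li_two (C := C) (by simpa using hs 0 0) (by simpa using hs 1 0) hsne) (li_two hu hru hrne)
    (fun i j => by fin_cases i <;> fin_cases j <;> simp [hs, hu, hr, hru, C.form_swap_zero hru])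
    hw (fun i => by fin_cases i <;> simp [s, form_app, C.form_zero_left, C.form_zero_right])
  refine perfect_of_conj A (J0 := (kB (C := C) 2 m).range) ?_ (range_perfect _ hp)
  have e : (kB (C := C) 2 m).range = fixG (s 0) ⊓ fixG (s 1) := by
    ext X
    refine ⟨fun h => ⟨mem_range_kB.1 h _, mem_range_kB.1 h _⟩, fun h => mem_range_kB.2 fun x => ?_⟩
    rw [show ext x (0 : Fin m → F) = x 0 • s 0 + x 1 • s 1 by
      simp only [s]
      rw [app_smul, app_smul, app_add, smul_zero, smul_zero, add_zero]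
      congr 1
      funext i; fin_cases i <;> simp, Matrix.mulVec_add, Matrix.mulVec_smul, Matrix.mulVec_smul, h.1, h.2]
  rw [e, Subgroup.map_inf _ _ _ (MulAut.conj A).injective, map_fixG, map_fixG,
    show A.1.1 *ᵥ s 0 = u from hA 0, show A.1.1 *ᵥ s 1 = r from hA 1]

include C in
theorem fix_deg_perfect (hF : Fintype.card F = q ^ 2) (hq : 2 ≤ q) (hl : 2 ≤ l) (hn : n = 2 + (1 + l))
    (hp : commutator ↥(Cfsg.SU l F q) = ⊤) {u r : Fin n → F} (hu : C.form u u = 1) (hr : C.form r r = 0)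
    (hru : C.form r u = 0) (hr0 : r ≠ 0) :
    (fixG u ⊓ fixG r : Subgroup ↥(Cfsg.SU n F q)) ≤ ⁅fixG (q := q) u ⊓ fixG (q := q) r, fixG (q := q) u ⊓ fixG (q := q) r⁆ := by
  subst hn
  obtain ⟨P0⟩ := C.exists_pair (n := 2) le_rfl
  obtain ⟨A, hA⟩ := exists_su_move_tuple (C := C) (t := ![bv 0, (pairB P0 (1 + l)).e]) (t' := ![u, r])
    (li_two (C := C) (by rw [form_bv, if_pos rfl]) (C.form_swap_zero (bv_mem P0 _).1) (pairB P0 (1 + l)).e_ne_zero)
    (li_two hu hru hr0)
    (fun i j => by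
      fin_cases i <;> fin_cases j <;>
        simp [form_bv, hu, hr, hru, C.form_swap_zero hru, (pairB P0 (1 + l)).ee, (bv_mem P0 (0 : Fin (1 + l))).1,
          C.form_swap_zero (bv_mem P0 (0 : Fin (1 + l))).1])
    (w := bv (⟨1, by omega⟩ : Fin (1 + l))) (by rw [form_bv, if_pos rfl]) (fun i => by
      fin_cases i
      · show C.form (bv 0) _ = 0
        rw [form_bv, if_neg (by simp [Fin.ext_iff])]
      · exact C.form_swap_zero (bv_mem P0 _).1)
  refine perfect_of_conj A (J0 := J0 P0 l) ?_ (J0_perfect P0 hF hq hl hp)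
  rw [J0, Subgroup.map_inf _ _ _ (MulAut.conj A).injective, map_fixG, map_fixG,
    show A.1.1 *ᵥ bv 0 = u from hA 0, show A.1.1 *ᵥ (pairB P0 (1 + l)).e = r from hA 1]

/-- the dimensions in which the induction works -/
def GeoOk (q n : ℕ) : Prop := 5 ≤ n ∧ 2 ≤ q ∧ (4 ≤ q ∨ 6 ≤ n) ∧ (3 ≤ q ∨ 7 ≤ n)

theorem GeoOk.perfect (hF : Fintype.card F = q ^ 2) (H : GeoOk q n) (C : UCtx F q) {k : ℕ}
    (hk : n ≤ k + 3) : commutator ↥(Cfsg.SU k F q) = ⊤ := by
  obtain ⟨h5, hq2, h46, h37⟩ := H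
  by_cases h2 : k = 2
  · subst h2; exact su_two_perfect (C := C) hF (by omega)
  · exact CfsgLib.Classical.WeilSU.su_perfect hF (by omega) (by omega)

theorem pair_perfect (hF : Fintype.card F = q ^ 2) (H : GeoOk q n) (u v : USph C n) :
    StabStep.PP ↥(Cfsg.SU n F q) u v := by
  obtain ⟨h5, hq2, h46, h37⟩ := id H
  set β := C.form v.1 u.1
  set r := v.1 - β • u.1 with hr
  have hru : C.form r u.1 = 0 := by rw [hr, C.form_sub_left, C.form_smul_left, u.2, mul_one, sub_self]
  have hJ : StabStep.J ↥(Cfsg.SU n F q) u v = fixG u.1 ⊓ fixG r := by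
    ext X
    rw [Subgroup.mem_inf, mem_usph_stab, mem_usph_stab, Subgroup.mem_inf]
    show _ ↔ _ ∧ X.1.1 *ᵥ r = r
    refine ⟨fun h => ⟨h.1, by rw [hr, Matrix.mulVec_sub, Matrix.mulVec_smul, h.1, h.2]⟩, fun h => ⟨h.1, ?_⟩⟩
    have h' : X.1.1 *ᵥ r = r := h.2
    rw [hr, Matrix.mulVec_sub, Matrix.mulVec_smul, show X.1.1 *ᵥ u.1 = u.1 from h.1, sub_left_inj] at h'
    exact h'
  unfold StabStep.PP
  rw [hJ]
  by_cases hr0 : r = 0
  · rw [inf_eq_left.2 (show (fixG u.1 : Subgroup ↥(Cfsg.SU n F q)) ≤ fixG r from fun X _ =>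
      show X.1.1 *ᵥ r = r by rw [hr0, Matrix.mulVec_zero])]
    exact fix_one_perfect (C := C) hF (m := n - 1) (by omega) (by omega) (H.perfect hF C (by omega)) u.2
  by_cases hrr : C.form r r = 0
  · exact fix_deg_perfect (C := C) hF hq2 (l := n - 3) (by omega) (by omega) (H.perfect hF C (by omega)) u.2 hrr hru hr0
  · obtain ⟨c, hc⟩ := C.exists_norm (show C.bar (C.form r r)⁻¹ = (C.form r r)⁻¹ by rw [map_inv₀, C.form_self_fixed])
    have hc0 : c ≠ 0 := fun h => by
      rw [h, zero_mul] at hc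
      exact hrr (inv_eq_zero.1 hc.symm)
    rw [show (fixG r : Subgroup ↥(Cfsg.SU n F q)) = fixG (c • r) from Subgroup.ext fun X => by
      show X.1.1 *ᵥ r = r ↔ X.1.1 *ᵥ (c • r) = c • r
      rw [Matrix.mulVec_smul]
      exact ⟨fun h => by rw [h], fun h => smul_right_injective _ hc0 h⟩]
    refine fix_pair_perfect (C := C) (m := n - 2) (by omega) (by omega) (H.perfect hF C (by omega)) u.2 ?_
      (by rw [C.form_smul_left, hru, mul_zero])
    rw [C.form_smul_left, C.form_smul_right, ← mul_assoc, hc, inv_mul_cancel₀ hrr]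

/-- midpoints -/
def UMid (a x w : USph C n) : Prop := C.form w.1 a.1 = 0 ∧ C.form w.1 x.1 = 0

theorem usph_move {a x w : USph C n} (hn : 5 ≤ n) (h : UMid a x w) :
    ∃ g ∈ stabilizer ↥(Cfsg.SU n F q) w, g • a = x := by
  obtain ⟨z, hz, hzo, -⟩ := exists_unit_perp (C := C) ![a.1, w.1]
    (fun i j => by fin_cases i <;> fin_cases j <;> simp [a.2, w.2, h.1, C.form_swap_zero h.1]) Fin.elim0
    (by omega)
  obtain ⟨A, hA⟩ := exists_su_move_tuple (C := C) (t := ![a.1, w.1]) (t' := ![x.1, w.1])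
    (li_two a.2 h.1 (usph_ne w)) (li_two x.2 h.2 (usph_ne w))
    (fun i j => by
      fin_cases i <;> fin_cases j <;>
        simp [a.2, x.2, h.1, h.2, C.form_swap_zero h.1, C.form_swap_zero h.2])
    hz (fun i => C.form_swap_zero (hzo i))
  exact ⟨A, mem_usph_stab.2 (hA 1), Subtype.ext (hA 0)⟩

theorem usph_conn (hn : 5 ≤ n) (a x w w' : USph C n) (hw : UMid a x w) (hw' : UMid a x w') :
    Relation.ReflTransGen (fun u v => UMid a x v ∧ ∃ g ∈ StabStep.J ↥(Cfsg.SU n F q) u v, g • a = x) w w' := by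
  by_cases hpar : ∃ c : F, c • w.1 = w'.1
  · obtain ⟨c, hc⟩ := hpar
    obtain ⟨g, hg, hga⟩ := usph_move hn hw
    refine Relation.ReflTransGen.single ⟨hw', g, Subgroup.mem_inf.2 ⟨hg, mem_usph_stab.2 ?_⟩, hga⟩
    rw [← hc, Matrix.mulVec_smul, mem_usph_stab.1 hg]
  push Not at hpar
  obtain ⟨z, hz, hzo, hzt⟩ := exists_unit_perp (C := C) ![a.1, w.1]
    (fun i j => by fin_cases i <;> fin_cases j <;> simp [a.2, w.2, hw.1, C.form_swap_zero hw.1]) ![w'.1]
    (by omega)
  have hli : ∀ b : USph C n, UMid b x w → UMid b x w' → LinearIndependent F ![b.1, w.1, w'.1] := by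
    intro b h1 h2
    rw [Fintype.linearIndependent_iff]
    intro g hg
    rw [Fin.sum_univ_three] at hg
    have hg' : g 0 • b.1 + g 1 • w.1 + g 2 • w'.1 = 0 := hg
    have h0 : g 0 = 0 := by
      have h3 := congrArg (fun z => C.form z b.1) hg'
      simpa [C.form_add_left, C.form_smul_left, b.2, h1.1, h2.1, C.form_zero_left] using h3
    rw [h0, zero_smul, zero_add] at hg'
    have h2' : g 2 = 0 := by
      by_contra hne
      refine hpar (-(g 1) / g 2) ?_
      rw [neg_div, neg_smul, div_eq_inv_mul, mul_smul, eq_neg_of_add_eq_zero_left hg', smul_neg, neg_neg,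
        inv_smul_smul₀ hne]
    rw [h2', zero_smul, add_zero, smul_eq_zero] at hg'
    intro i
    fin_cases i
    · exact h0
    · exact hg'.resolve_right (usph_ne w)
    · exact h2'
  obtain ⟨A, hA⟩ := exists_su_move_tuple (C := C) (t := ![a.1, w.1, w'.1]) (t' := ![x.1, w.1, w'.1])
    (hli a ⟨hw.1, hw.2⟩ ⟨hw'.1, hw'.2⟩) (hli x ⟨hw.2, hw.2⟩ ⟨hw'.2, hw'.2⟩)
    (fun i j => by
      fin_cases i <;> fin_cases j <;>
        simp [a.2, x.2, hw.1, hw.2, hw'.1, hw'.2, C.form_swap_zero hw.1, C.form_swap_zero hw.2,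
          C.form_swap_zero hw'.1, C.form_swap_zero hw'.2])
    hz (fun i => by
      fin_cases i
      · exact C.form_swap_zero (hzo 0)
      · exact C.form_swap_zero (hzo 1)
      · exact C.form_swap_zero (hzt 0))
  exact Relation.ReflTransGen.single
    ⟨hw', A, Subgroup.mem_inf.2 ⟨mem_usph_stab.2 (hA 1), mem_usph_stab.2 (hA 2)⟩, Subtype.ext (hA 0)⟩

theorem exists_usph_mid (hn : 5 ≤ n) (a x : USph C n) : ∃ w, UMid a x w := by
  obtain ⟨z, hz, hzo, hzt⟩ := exists_unit_perp (C := C) ![a.1] (fun i j => by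
    fin_cases i; fin_cases j; simp [a.2]) ![x.1] (by omega)
  exact ⟨⟨z, hz⟩, hzo 0, hzt 0⟩

include C in
theorem exists_geo (hF : Fintype.card F = q ^ 2) (hn : n = 2 + m) (H : GeoOk q n) :
    ∃ a : USph C n, StabStep.Geo ↥(Cfsg.SU n F q) (UMid a) a := by
  classical
  subst hn
  obtain ⟨h5, hq2, h46, h37⟩ := id H
  let a : USph C (2 + m) := ⟨ext (Pi.single (0 : Fin 2) (1 : F)) (0 : Fin m → F), by
    rw [form_app, C.form_zero_left, add_zero]; simp [UCtx.form, Pi.single_apply, apply_ite C.bar]⟩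
  let b : USph C (2 + m) := ⟨ext (Pi.single (1 : Fin 2) (1 : F)) (0 : Fin m → F), by
    rw [form_app, C.form_zero_left, add_zero]; simp [UCtx.form, Pi.single_apply, apply_ite C.bar]⟩
  have hab : C.form b.1 a.1 = 0 := by
    show C.form (ext _ _) (ext _ _) = 0
    rw [form_app, C.form_zero_left, add_zero]; simp [UCtx.form, Pi.single_apply, apply_ite C.bar]
  refine ⟨a, fun x => ?_, ?_, fun u v => ?_, exists_usph_mid h5 a, fun x w h => usph_move h5 h,
    fun g x w hg h => ⟨h.1, ?_⟩, fun g x w hg h => ⟨?_, ?_⟩, fun x w w' h h' => usph_conn h5 a x w w' h h', ?_⟩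
  · obtain ⟨A, hA⟩ := exists_su_move (C := C) hF (by omega) a.2 x.2
    exact ⟨A, Subtype.ext hA⟩
  · rw [usph_stab]
    exact fix_one_perfect (C := C) hF (m := m + 1) (by omega) (by omega) (H.perfect hF C (by omega)) a.2
  · exact fun k hk => Subgroup.subset_closure (Or.inl (pair_perfect hF H u v hk))
  · rw [smul_usph]
    conv_lhs => arg 2; rw [← mem_usph_stab.1 hg]
    rw [C.form_su]
    exact h.2
  · rw [smul_usph]
    conv_lhs => arg 3; rw [← mem_usph_stab.1 hg]
    rw [C.form_su]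
    exact h.1
  · rw [smul_usph, smul_usph, C.form_su]
    exact h.2
  · obtain ⟨B, hB⟩ := exists_su_move (C := C) (n := 2) hF le_rfl
      (v := Pi.single (0 : Fin 2) (1 : F)) (w := Pi.single (1 : Fin 2) (1 : F))
      (by simp [UCtx.form, Pi.single_apply, apply_ite C.bar])
      (by simp [UCtx.form, Pi.single_apply, apply_ite C.bar])
    set k := kA (C := C) 2 m B
    have hka : k • a = b := Subtype.ext (by
      show k.1.1 *ᵥ ext _ _ = ext _ _
      rw [kA_app, hB])
    refine ⟨k, ?_, fun x => ?_⟩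
    · set S := Subgroup.closure ((stabilizer ↥(Cfsg.SU (2 + m) F q) a : Set _) ∪ {k})
      have hS : ∀ g ∈ stabilizer ↥(Cfsg.SU (2 + m) F q) a, g ∈ S := fun g hg =>
        Subgroup.subset_closure (Or.inl hg)
      have hk : k ∈ S := Subgroup.subset_closure (Or.inr rfl)
      have horb1 : ∀ w : USph C (2 + m), C.form w.1 a.1 = 0 → ∃ s ∈ S, s • a = w := fun w hw => by
        obtain ⟨g, hg, hgb⟩ := usph_move h5 (a := b) (x := w) (w := a)
          ⟨C.form_swap_zero hab, C.form_swap_zero hw⟩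
        exact ⟨g * k, mul_mem (hS g hg) hk, by rw [mul_smul, hka, hgb]⟩
      have horb : ∀ x : USph C (2 + m), ∃ s ∈ S, s • a = x := fun x => by
        obtain ⟨w, hw⟩ := exists_usph_mid h5 a x
        obtain ⟨s, hs, hsa⟩ := horb1 w hw.1
        obtain ⟨g, hg, hgx⟩ := usph_move h5 hw
        refine ⟨g, ?_, hgx⟩
        have h1 : s⁻¹ * g * s ∈ S := hS _ (MulAction.mem_stabilizer_iff.2 (by
          rw [mul_smul, mul_smul, hsa, MulAction.mem_stabilizer_iff.1 hg, ← hsa, inv_smul_smul]))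
        have h2 := mul_mem (mul_mem hs h1) (inv_mem hs)
        rwa [show s * (s⁻¹ * g * s) * s⁻¹ = g by group] at h2
      refine eq_top_iff.2 fun g _ => ?_
      obtain ⟨s, hs, hsa⟩ := horb (g • a)
      have h1 : s⁻¹ * g ∈ S := hS _ (MulAction.mem_stabilizer_iff.2 (by rw [mul_smul, ← hsa, inv_smul_smul]))
      have h2 := mul_mem hs h1
      rwa [mul_inv_cancel_left] at h2
    · obtain ⟨z, hz, hzo, hzt⟩ := exists_unit_perp (C := C) ![a.1, b.1]
        (fun i j => by fin_cases i <;> fin_cases j <;> simp [a.2, b.2, hab, C.form_swap_zero hab]) ![x.1]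
        (by omega)
      refine ⟨⟨z, hz⟩, ⟨hzo 0, hzt 0⟩, mem_usph_stab.2 ?_⟩
      have hl : lc z = 0 := by
        have h0 : C.form z a.1 = 0 := hzo 0
        have h1 : C.form z b.1 = 0 := hzo 1
        rw [← app_lr z] at h0 h1
        rw [show a.1 = ext _ _ from rfl, form_app, C.form_zero_right, add_zero] at h0
        rw [show b.1 = ext _ _ from rfl, form_app, C.form_zero_right, add_zero] at h1
        funext i
        fin_cases i
        · simpa [UCtx.form, Pi.single_apply, apply_ite C.bar] using h0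
        · simpa [UCtx.form, Pi.single_apply, apply_ite C.bar] using h1
      show k.1.1 *ᵥ z = z
      rw [← app_lr z, hl, kA_app, Matrix.mulVec_zero]

include C in
/-- no multiplier at a prime passes up one dimension -/
theorem nop_step (hF : Fintype.card F = q ^ 2) (H : GeoOk q (1 + m)) {ℓ : ℕ}
    (h : NoP ℓ ↥(Cfsg.SU m F q)) : NoP ℓ ↥(Cfsg.SU (1 + m) F q) := by
  intro Γ _ _ σ hσ
  obtain ⟨a, hG⟩ := exists_geo (C := C) hF (m := m - 1) (n := 1 + m) (by have := H.1; omega) H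
  obtain ⟨A, hA⟩ := exists_su_move (C := C) hF (by have := H.1; omega) (form_e0 (C := C) m) a.2
  have he : stabilizer ↥(Cfsg.SU (1 + m) F q) a = (kB (C := C) 1 m).range.map (MulAut.conj A).toMonoidHom := by
    rw [usph_stab, show (kB (C := C) 1 m).range = fixG (e0 m) from Subgroup.ext fun X => range_kB_one, map_fixG, hA]
  obtain ⟨Δ, ρ, hρ, hc⟩ := StabStep.exists_stab_ext hG hσ
    ((MulEquiv.subgroupCongr he).trans (((kB (C := C) 1 m).range.equivMapOfInjective _
      (MulAut.conj A).injective).symm.trans (MonoidHom.ofInjective (kB_injective 1 m)).symm))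
  exact hc ▸ h ↥Δ ρ hρ

end CfsgLib.Lie.Mult.Unit
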