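import Cfsg.Agent.Lib.Lie.Mult.Unit.Coord

/-!
# Flatness of the unipotent radical of an isotropic point

Commutators of lifts give a biadditive map into the preimage of the root group.  Elements fixing the two points
of the pair act on it, and enough of them exist to push its values into a fixed complement of the kernel.
-/

set_option autoImplicit false
set_option linter.all false

namespace CfsgLib.Lie.Mult.Unit

open Matrix CfsgLib.SU
open scoped commutatorElement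

universe u

variable {F : Type u} [Field F] [Fintype F] {q n : ℕ} {C : UCtx F q} (P : UPair C n)

/-- the root group inside the radical -/
def cgrp : Subgroup ↥(Cfsg.SU n F q) where
  carrier := {X | ∃ t ht, X = P.eich 0 P.perp.zero_mem t ht}
  mul_mem' := by
    rintro _ _ ⟨t, ht, rfl⟩ ⟨t', ht', rfl⟩
    refine ⟨t + t', ?_, ?_⟩
    · simp only [C.form_zero_left, add_zero, map_add] at ht ht' ⊢
      linear_combination ht + ht'
    · rw [P.eich_mul]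
      exact P.eich_congr (add_zero _) (by rw [C.form_zero_left]; ring)
  one_mem' := ⟨0, by simp [C.form_zero_left], su_ext fun x => by
    rw [P.eich_mulVec, su_one_mulVec, C.form_zero_right]; simp⟩
  inv_mem' := by
    rintro _ ⟨t, ht, rfl⟩
    refine ⟨-t, ?_, ?_⟩
    · simp only [C.form_zero_left, add_zero, map_neg] at ht ⊢
      linear_combination -ht
    · rw [inv_eq_iff_mul_eq_one, P.eich_mul]
      refine su_ext fun x => ?_
      rw [P.eich_mulVec, su_one_mulVec]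
      simp [C.form_zero_left, C.form_zero_right]

theorem cgrp_le : cgrp P ≤ P.eichGroup := fun X ⟨t, ht, e⟩ => ⟨0, P.perp.zero_mem, t, ht, e⟩

theorem eich_comm_elt {v w : Fin n → F} {t s : F} (hv : v ∈ P.perp) (hw : w ∈ P.perp)
    (ht : t + C.bar t + C.form v v = 0) (hs : s + C.bar s + C.form w w = 0) :
    ∃ ho, ⁅P.eich v hv t ht, P.eich w hw s hs⁆ =
      P.eich 0 P.perp.zero_mem (C.form v w - C.form w v) ho := by
  refine ⟨by rw [C.form_zero_left, map_sub, C.bar_form, C.bar_form]; ring, ?_⟩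
  rw [commutatorElement_def, mul_inv_eq_iff_eq_mul, mul_inv_eq_iff_eq_mul, P.eich_mul, P.eich_mul, P.eich_mul]
  exact P.eich_congr (by abel) (by simp only [C.form_add_left, C.form_add_right, C.form_zero_right, C.form_zero_left]; ring)

theorem cgrp_central {X Y : ↥(Cfsg.SU n F q)} (hX : X ∈ cgrp P) (hY : Y ∈ P.eichGroup) : Commute X Y := by
  obtain ⟨t, ht, rfl⟩ := hX
  obtain ⟨w, hw, s, hs, rfl⟩ := hY
  obtain ⟨ho, e⟩ := eich_comm_elt P P.perp.zero_mem hw ht hs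
  rw [← commutatorElement_eq_one_iff_commute, e]
  refine su_ext fun x => ?_
  rw [P.eich_mulVec, su_one_mulVec]
  simp [C.form_zero_left, C.form_zero_right]

theorem exists_eich {v : Fin n → F} (hv : v ∈ P.perp) :
    ∃ t ht, P.eich v hv t ht ∈ P.eichGroup := by
  obtain ⟨t, ht⟩ := C.exists_trace (c := -C.form v v) (by rw [map_neg, C.form_self_fixed])
  exact ⟨t, by rw [ht, neg_add_cancel], P.eich_mem _ _ _ _⟩

theorem Diag.apply_perp {L : ↥(Cfsg.SU n F q)} {a : F} (h : P.Diag L a) {w : Fin n → F} (hw : w ∈ P.perp) :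
    L.1.1 *ᵥ w ∈ P.perp := by
  have ha : C.bar a ≠ 0 := by simpa using h.ne_zero
  have := P.perp.smul_mem (C.bar a)⁻¹ (h.mem hw)
  rwa [smul_smul, inv_mul_cancel₀ ha, one_smul] at this

theorem Diag.conj_eichGroup {L : ↥(Cfsg.SU n F q)} {a : F} (h : P.Diag L a) {X : ↥(Cfsg.SU n F q)}
    (hX : X ∈ P.eichGroup) : L * X * L⁻¹ ∈ P.eichGroup := by
  obtain ⟨w, hw, t, ht, rfl⟩ := hX
  obtain ⟨ht', e⟩ := h.conj_eich hw ht
  rw [e]
  exact P.eich_mem _ _ _ _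

theorem Diag.conj_cgrp {L : ↥(Cfsg.SU n F q)} {a : F} (h : P.Diag L a) {X : ↥(Cfsg.SU n F q)}
    (hX : X ∈ cgrp P) : L * X * L⁻¹ ∈ cgrp P := by
  obtain ⟨t, ht, rfl⟩ := hX
  obtain ⟨ht', e⟩ := h.conj_eich P.perp.zero_mem ht
  rw [e]
  exact ⟨a * C.bar a * t, by rw [Matrix.mulVec_zero, smul_zero] at ht'; exact ht',
    P.eich_congr (by rw [Matrix.mulVec_zero, smul_zero]) rfl⟩

/-- elements fixing the two points are determined by the perpendicular -/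
theorem Diag.eq_of {L L' : ↥(Cfsg.SU n F q)} {a : F} (h : P.Diag L a) (h' : P.Diag L' a)
    (e : ∀ w ∈ P.perp, L.1.1 *ᵥ w = L'.1.1 *ᵥ w) : L = L' := by
  refine su_ext fun x => ?_
  rw [P.decomp x, Matrix.mulVec_add, Matrix.mulVec_add, Matrix.mulVec_smul, Matrix.mulVec_smul,
    Matrix.mulVec_add, Matrix.mulVec_add, Matrix.mulVec_smul, Matrix.mulVec_smul, h.1, h.2, h'.1, h'.2,
    e _ (P.proj_mem x)]

theorem Diag.mul {L L' : ↥(Cfsg.SU n F q)} {a b : F} (h : P.Diag L a) (h' : P.Diag L' b) :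
    P.Diag (L * L') (a * b) := by
  constructor
  · rw [suMat_mulVec_mul, h'.1, Matrix.mulVec_smul, h.1, smul_smul, mul_comm]
  · rw [suMat_mulVec_mul, h'.2, Matrix.mulVec_smul, h.2, smul_smul, map_mul, mul_inv, mul_comm]

/-- an element which is scalar on the perpendicular commutes with all elements fixing the two points -/
theorem scalar_commute {L L' : ↥(Cfsg.SU n F q)} {a b s : F} (h : P.Diag L a)
    (hs : ∀ w ∈ P.perp, C.bar a • (L.1.1 *ᵥ w) = s • w) (h' : P.Diag L' b) : Commute L L' := by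
  have ha : C.bar a ≠ 0 := by simpa using h.ne_zero
  refine Diag.eq_of P (Diag.mul P h h') (mul_comm b a ▸ Diag.mul P h' h) fun w hw => ?_
  have e1 := hs _ (Diag.apply_perp P h' hw)
  rw [suMat_mulVec_mul, suMat_mulVec_mul]
  refine smul_right_injective _ ha ?_
  show C.bar a • _ = C.bar a • _
  rw [e1, ← Matrix.mulVec_smul, ← hs w hw, Matrix.mulVec_smul]

variable {Γ : Type u} [Group Γ] [Finite Γ] {τ : Γ →* ↥(Cfsg.SU n F q)}
  (hs : Function.Surjective τ) (hc : τ.ker ≤ Subgroup.center Γ)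
include hs hc

variable (h1 : ∃ v ∈ P.perp, C.form v v = 1)
  (hcent : ∃ L a, P.Diag L a ∧ a * C.bar a = 1 ∧ ∀ w ∈ P.perp, C.bar a • (L.1.1 *ᵥ w) = w → w = 0)
include h1 hcent

/-- lifts of the root group are central in the preimage of the radical -/
theorem cgrp_lift_central {z b : Γ} (hz : τ z ∈ cgrp P) (hb : τ b ∈ P.eichGroup) : Commute z b := by
  obtain ⟨L, a, hL, haa, hfix⟩ := hcent
  obtain ⟨l, rfl⟩ := hs L
  have hlin : ∀ z x y : Γ, τ z ∈ cgrp P → τ x ∈ P.eichGroup → τ y ∈ P.eichGroup →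
      ⁅z, x * y⁆ = ⁅z, x⁆ * ⁅z, y⁆ ∧ τ ⁅z, y⁆ = 1 := fun z x y hz hx hy => by
    have h2 : τ ⁅z, y⁆ = 1 := by
      rw [map_commutatorElement, commutatorElement_eq_one_iff_commute]
      exact cgrp_central P hz hy
    refine ⟨?_, h2⟩
    rw [show ⁅z, x * y⁆ = ⁅z, x⁆ * (x * ⁅z, y⁆ * x⁻¹) by simp only [commutatorElement_def]; group,
      ker_comm hc h2 x, mul_inv_cancel_right]
  -- invariance under the element
  have hinv : ∀ z x : Γ, τ z ∈ cgrp P → τ x ∈ P.eichGroup → ⁅z, ⁅l, x⁆⁆ = 1 := by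
    intro z x hz hx
    obtain ⟨t, ht, ez⟩ := hz
    have hzl : τ (l * z * l⁻¹) = τ z := by
      rw [map_mul, map_mul, map_inv, ez]
      obtain ⟨ht', e⟩ := hL.conj_eich P.perp.zero_mem ht
      rw [e]
      exact P.eich_congr (by rw [Matrix.mulVec_zero, smul_zero]) (by rw [haa, one_mul])
    have hlx : τ (l * x * l⁻¹) ∈ P.eichGroup := by
      rw [map_mul, map_mul, map_inv]; exact Diag.conj_eichGroup P hL hx
    obtain ⟨e2, k2⟩ := hlin z (l * x * l⁻¹) x⁻¹ ⟨t, ht, ez⟩ hlx (by rw [map_inv]; exact inv_mem hx)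
    obtain ⟨e4, k3⟩ := hlin z x x⁻¹ ⟨t, ht, ez⟩ hx (by rw [map_inv]; exact inv_mem hx)
    obtain ⟨-, k4⟩ := hlin z x x ⟨t, ht, ez⟩ hx hx
    have e3 : ⁅z, l * x * l⁻¹⁆ = ⁅z, x⁆ := by
      calc ⁅z, l * x * l⁻¹⁆ = ⁅l * z * l⁻¹, l * x * l⁻¹⁆ := comm_congr hc hzl.symm rfl
        _ = l * ⁅z, x⁆ * l⁻¹ := by simp only [commutatorElement_def]; group
        _ = _ := by rw [ker_comm hc k4 l, mul_inv_cancel_right]
    rw [show ⁅l, x⁆ = l * x * l⁻¹ * x⁻¹ from commutatorElement_def l x, e2, e3, ← e4, mul_inv_cancel,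
      commutatorElement_one_right]
  -- every element is a commutator with it up to the root group
  have hdec : ∀ Y ∈ P.eichGroup, ∃ X ∈ P.eichGroup, ⁅τ l, X⁆⁻¹ * Y ∈ cgrp P := by
    rintro _ ⟨w, hw, s, hs', rfl⟩
    let f : ↥P.perp →ₗ[F] ↥P.perp :=
      { toFun := fun v => ⟨C.bar a • ((τ l).1.1 *ᵥ v.1), hL.mem v.2⟩ - v
        map_add' := fun v v' => Subtype.ext (by
          simp [Matrix.mulVec_add, smul_add]; abel)
        map_smul' := fun c v => Subtype.ext (by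
          simp [Matrix.mulVec_smul, smul_sub, smul_comm c (C.bar a)]) }
    have hf : Function.Injective f := (injective_iff_map_eq_zero f).2 fun v hv =>
      Subtype.ext (hfix v.1 v.2 (sub_eq_zero.1 (congrArg Subtype.val hv)))
    obtain ⟨v, hv⟩ := (LinearMap.injective_iff_surjective.1 hf) ⟨w, hw⟩
    obtain ⟨t, ht, hmem⟩ := exists_eich P v.2
    refine ⟨_, hmem, ?_⟩
    obtain ⟨ht', e⟩ := hL.conj_eich v.2 ht
    rw [show ⁅τ l, P.eich v.1 v.2 t ht⁆ = τ l * P.eich v.1 v.2 t ht * (τ l)⁻¹ * (P.eich v.1 v.2 t ht)⁻¹ from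
      commutatorElement_def _ _, e, _root_.mul_inv_rev, inv_inv]
    have hmem' : P.eich v.1 v.2 t ht * (P.eich _ (hL.mem v.2) _ ht')⁻¹ * P.eich w hw s hs' ∈ P.eichGroup :=
      mul_mem (mul_mem hmem (inv_mem (P.eich_mem _ (hL.mem v.2) _ ht'))) (P.eich_mem _ _ _ _)
    obtain ⟨u, hu, r, hr, er⟩ := hmem'
    rw [er]
    have hu0 : u = 0 := by
      have : w = (C.bar a • ((τ l).1.1 *ᵥ v.1)) - v.1 := (congrArg Subtype.val hv).symm
      have e2 : P.eich u hu r hr * (P.eich w hw s hs')⁻¹ * P.eich _ (hL.mem v.2) _ ht' = P.eich v.1 v.2 t ht := by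
        rw [← er]; group
      have e3 : (P.eich w hw s hs')⁻¹ = P.eich (-w) (P.perp.neg_mem hw) (C.bar s) (by
          rw [C.bar_bar, C.form_neg_left, C.form_neg_right]; linear_combination hs') := by
        rw [inv_eq_iff_mul_eq_one, P.eich_mul]
        refine su_ext fun x => ?_
        rw [P.eich_mulVec, su_one_mulVec, add_neg_cancel, C.form_zero_right, C.form_neg_left,
          show s + C.bar s - -C.form w w = 0 by linear_combination hs']
        simp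
      rw [e3, P.eich_mul, P.eich_mul] at e2
      have h3 := (P.eich_inj e2).1
      rw [this] at h3
      calc u = (u + -(C.bar a • ((τ l).1.1 *ᵥ v.1) - v.1) + C.bar a • ((τ l).1.1 *ᵥ v.1)) - v.1 := by abel
        _ = 0 := by rw [h3, sub_self]
    exact ⟨r, by rw [hu0] at hr; exact hr, P.eich_congr hu0 rfl⟩
  -- lifts of commutators
  have hzero : ∀ z z' : Γ, τ z ∈ cgrp P → τ z' ∈ cgrp P → ⁅z, z'⁆ = 1 := by
    intro z z' hz hz'
    obtain ⟨t, ht, ez⟩ := hz'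
    obtain ⟨v, hv, hvv⟩ := h1
    obtain ⟨w, hw⟩ := C.exists_trace (c := 1) (map_one _)
    have ht0 : C.bar t = -t := by
      rw [C.form_zero_left, add_zero] at ht
      exact eq_neg_of_add_eq_zero_right ht
    obtain ⟨t1, ht1, hm1⟩ := exists_eich P (P.perp.smul_mem (t * w) hv)
    obtain ⟨t2, ht2, hm2⟩ := exists_eich P hv
    obtain ⟨ho, e⟩ := eich_comm_elt P (P.perp.smul_mem (t * w) hv) hv ht1 ht2
    obtain ⟨x, hx⟩ := hs (P.eich _ _ t1 ht1)
    obtain ⟨y, hy⟩ := hs (P.eich _ _ t2 ht2)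
    have hxy : τ z' = τ ⁅x, y⁆ := by
      rw [map_commutatorElement, hx, hy, e, ez]
      refine P.eich_congr rfl ?_
      rw [C.form_smul_left, C.form_smul_right, hvv, mul_one, mul_one, map_mul, ht0]
      linear_combination (-t) * hw
    rw [comm_congr hc (a := z) (a' := z) rfl hxy]
    have hx' : τ x ∈ P.eichGroup := by rw [hx]; exact hm1
    have hy' : τ y ∈ P.eichGroup := by rw [hy]; exact hm2
    have hxi : τ x⁻¹ ∈ P.eichGroup := by rw [map_inv]; exact inv_mem hx'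
    have hyi : τ y⁻¹ ∈ P.eichGroup := by rw [map_inv]; exact inv_mem hy'
    obtain ⟨e1, k1⟩ := hlin z (x * y * x⁻¹) y⁻¹ hz (by rw [map_mul, map_mul]; exact mul_mem (mul_mem hx' hy') hxi) hyi
    obtain ⟨e2, k2⟩ := hlin z (x * y) x⁻¹ hz (by rw [map_mul]; exact mul_mem hx' hy') hxi
    obtain ⟨e3, k3⟩ := hlin z x y hz hx' hy'
    obtain ⟨e4, k4⟩ := hlin z x x⁻¹ hz hx' hxi
    obtain ⟨e5, k5⟩ := hlin z y y⁻¹ hz hy' hyi
    rw [mul_inv_cancel, commutatorElement_one_right] at e4 e5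
    rw [show ⁅x, y⁆ = x * y * x⁻¹ * y⁻¹ from commutatorElement_def x y, e1, e2, e3,
      show ⁅z, x⁆ * ⁅z, y⁆ * ⁅z, x⁻¹⁆ = ⁅z, x⁆ * ⁅z, x⁻¹⁆ * ⁅z, y⁆ by
        rw [mul_assoc, mul_assoc, ker_comm hc k2 ⁅z, y⁆], ← e4, one_mul, ← e5]
  rw [← commutatorElement_eq_one_iff_commute]
  obtain ⟨X, hX, hXY⟩ := hdec _ hb
  obtain ⟨x, rfl⟩ := hs X
  obtain ⟨z', hz'⟩ : ∃ z', b = ⁅l, x⁆ * z' := ⟨⁅l, x⁆⁻¹ * b, (mul_inv_cancel_left _ _).symm⟩
  have hz'' : τ z' ∈ cgrp P := by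
    rw [show z' = ⁅l, x⁆⁻¹ * b by rw [hz', inv_mul_cancel_left], map_mul, map_inv, map_commutatorElement]
    exact hXY
  have hlx : τ ⁅l, x⁆ ∈ P.eichGroup := by
    rw [map_commutatorElement, commutatorElement_def]
    exact mul_mem (Diag.conj_eichGroup P hL hX) (inv_mem hX)
  obtain ⟨e, -⟩ := hlin z ⁅l, x⁆ z' hz hlx (cgrp_le P hz'')
  rw [hz', e, hinv z x hz hX, hzero z z' hz hz'', one_mul]

omit hs hc h1 hcent in
/-- the vector of a lift -/
def Over (τ : Γ →* ↥(Cfsg.SU n F q)) (v : ↥P.perp) (x : Γ) : Prop := ∃ t ht, τ x = P.eich v.1 v.2 t ht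

omit hs hc h1 hcent in
theorem Over.mem {v : ↥P.perp} {x : Γ} (h : Over P τ v x) : τ x ∈ P.eichGroup := by
  obtain ⟨t, ht, e⟩ := h
  rw [e]
  exact P.eich_mem _ _ _ _

omit hc h1 hcent in
theorem exists_over (v : ↥P.perp) : ∃ x, Over P τ v x := by
  obtain ⟨t, ht, -⟩ := exists_eich P v.2
  obtain ⟨x, hx⟩ := hs (P.eich v.1 v.2 t ht)
  exact ⟨x, t, ht, hx⟩

omit hs hc h1 hcent in
theorem Over.mul {v w : ↥P.perp} {x y : Γ} (hx : Over P τ v x) (hy : Over P τ w y) : Over P τ (v + w) (x * y) := by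
  obtain ⟨t, ht, e⟩ := hx
  obtain ⟨s, hs', e'⟩ := hy
  exact ⟨_, P.eich_cond_mul ht hs', by rw [map_mul, e, e', P.eich_mul]; exact P.eich_congr rfl rfl⟩

omit hs hc h1 hcent in
theorem Over.diff {v : ↥P.perp} {x x' : Γ} (hx : Over P τ v x) (hx' : Over P τ v x') :
    τ (x⁻¹ * x') ∈ cgrp P := by
  have hm : τ (x⁻¹ * x') ∈ P.eichGroup := by
    rw [map_mul, map_inv]; exact mul_mem (inv_mem hx.mem) hx'.mem
  obtain ⟨u, hu, r, hr, er⟩ := hm
  obtain ⟨t, ht, e⟩ := hx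
  obtain ⟨t', ht', e'⟩ := hx'
  have e1 : P.eich u hu r hr = (P.eich v.1 v.2 t ht)⁻¹ * P.eich v.1 v.2 t' ht' := by
    rw [← er, map_mul, map_inv, e, e']
  rw [eq_inv_mul_iff_mul_eq, P.eich_mul] at e1
  have h0 : u = 0 := add_eq_left.1 (P.eich_inj e1).1
  rw [er]
  exact ⟨r, by rw [h0] at hr; exact hr, P.eich_congr h0 rfl⟩

omit h1 hcent in
theorem Over.conj {L : ↥(Cfsg.SU n F q)} {a : F} (hL : P.Diag L a) {γ : Γ} (hγ : τ γ = L) {v : ↥P.perp}
    {x : Γ} (hx : Over P τ v x) :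
    Over P τ ⟨C.bar a • (L.1.1 *ᵥ v.1), hL.mem v.2⟩ (γ * x * γ⁻¹) := by
  obtain ⟨t, ht, e⟩ := hx
  obtain ⟨ht', e'⟩ := hL.conj_eich v.2 ht
  exact ⟨_, ht', by rw [map_mul, map_mul, map_inv, hγ, e, e']⟩

omit hs hc h1 hcent in
theorem comm_mem_cgrp {x y : Γ} (hx : τ x ∈ P.eichGroup) (hy : τ y ∈ P.eichGroup) : τ ⁅x, y⁆ ∈ cgrp P := by
  obtain ⟨v, hv, t, ht, e⟩ := hx
  obtain ⟨w, hw, s, hs', e'⟩ := hy
  obtain ⟨ho, ec⟩ := eich_comm_elt P hv hw ht hs'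
  rw [map_commutatorElement, e, e', ec]
  exact ⟨_, _, rfl⟩

/-- the commutator is multiplicative on the preimage of the radical -/
theorem comm_mul_left {x x' y : Γ} (hx : τ x ∈ P.eichGroup) (hx' : τ x' ∈ P.eichGroup) (hy : τ y ∈ P.eichGroup) :
    ⁅x * x', y⁆ = ⁅x', y⁆ * ⁅x, y⁆ := by
  have c2 : Commute ⁅x', y⁆ x := cgrp_lift_central P hs hc h1 hcent (comm_mem_cgrp P hx' hy) hx
  rw [show ⁅x * x', y⁆ = x * ⁅x', y⁆ * x⁻¹ * ⁅x, y⁆ by simp only [commutatorElement_def]; group,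
    ← c2.eq, mul_inv_cancel_right]

/-- only the vectors matter -/
theorem over_comm {v w : ↥P.perp} {x x' y y' : Γ} (hx : Over P τ v x) (hx' : Over P τ v x')
    (hy : Over P τ w y) (hy' : Over P τ w y') : ⁅x, y⁆ = ⁅x', y'⁆ := by
  have key : ∀ {v : ↥P.perp} {x x' y : Γ}, Over P τ v x → Over P τ v x' → τ y ∈ P.eichGroup →
      ⁅x', y⁆ = ⁅x, y⁆ := fun {v x x' y} hx hx' hy => by
    have hd := hx.diff P hx'
    conv_lhs => rw [← mul_inv_cancel_left x x']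
    rw [comm_mul_left P hs hc h1 hcent hx.mem (cgrp_le P hd) hy,
      commutatorElement_eq_one_iff_commute.2 (cgrp_lift_central P hs hc h1 hcent hd hy), one_mul]
  rw [key hx' hx hy.mem, ← commutatorElement_inv y x', key hy' hy hx'.mem, commutatorElement_inv]

variable (K : Subgroup Γ) (hK : ∀ x ∈ K, τ x ∈ cgrp P) (hKi : ∀ x ∈ K, τ x = 1 → x = 1)
  (hKs : ∀ X ∈ cgrp P, ∃ x ∈ K, τ x = X)
  (hKc : ∀ L a, P.Diag L a → ∀ γ, τ γ = L → ∀ x ∈ K, γ * x * γ⁻¹ ∈ K)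
include hK hKi hKs hKc

omit hs hc h1 hcent hK hKs hKc in
/-- the components of the commutators in the kernel -/
def Cp (v w : ↥P.perp) (z : Γ) : Prop :=
  τ z = 1 ∧ ∀ x y, Over P τ v x → Over P τ w y → ⁅x, y⁆ * z ∈ K

theorem cp_exists (v w : ↥P.perp) : ∃ z, Cp P (τ := τ) K v w z := by
  obtain ⟨x, hx⟩ := exists_over P hs v
  obtain ⟨y, hy⟩ := exists_over P hs w
  obtain ⟨u, hu, eu⟩ := hKs _ (comm_mem_cgrp P hx.mem hy.mem)
  refine ⟨⁅x, y⁆⁻¹ * u, by rw [map_mul, map_inv, eu, inv_mul_cancel], fun x' y' hx' hy' => ?_⟩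
  rw [over_comm P hs hc h1 hcent hx' hx hy' hy, mul_inv_cancel_left]
  exact hu

theorem cp_unique {v w : ↥P.perp} {z z' : Γ} (h : Cp P (τ := τ) K v w z) (h' : Cp P (τ := τ) K v w z') :
    z = z' := by
  obtain ⟨x, hx⟩ := exists_over P hs v
  obtain ⟨y, hy⟩ := exists_over P hs w
  have h2 := mul_mem (inv_mem (h.2 x y hx hy)) (h'.2 x y hx hy)
  rw [show (⁅x, y⁆ * z)⁻¹ * (⁅x, y⁆ * z') = z⁻¹ * z' by group] at h2
  exact inv_mul_eq_one.1 (hKi _ h2 (by rw [map_mul, map_inv, h.1, h'.1, inv_one, one_mul]))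

theorem cp_add {v v' w : ↥P.perp} {z z' : Γ} (h : Cp P (τ := τ) K v w z) (h' : Cp P (τ := τ) K v' w z') :
    Cp P (τ := τ) K (v + v') w (z * z') := by
  refine ⟨by rw [map_mul, h.1, h'.1, one_mul], fun x y hx hy => ?_⟩
  obtain ⟨a, ha⟩ := exists_over P hs v
  obtain ⟨a', ha'⟩ := exists_over P hs v'
  rw [over_comm P hs hc h1 hcent hx (ha.mul P ha') hy hy, comm_mul_left P hs hc h1 hcent ha.mem ha'.mem hy.mem,
    show ⁅a', y⁆ * ⁅a, y⁆ * (z * z') = ⁅a', y⁆ * (⁅a, y⁆ * z * z') by simp only [mul_assoc],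
    ker_comm hc h'.1 (⁅a, y⁆ * z), ← mul_assoc]
  exact mul_mem (h'.2 a' y ha' hy) (h.2 a y ha hy)

theorem cp_swap {v w : ↥P.perp} {z : Γ} (h : Cp P (τ := τ) K v w z) : Cp P (τ := τ) K w v z⁻¹ := by
  refine ⟨by rw [map_inv, h.1, inv_one], fun x y hx hy => ?_⟩
  rw [← commutatorElement_inv]
  have := inv_mem (h.2 y x hy hx)
  rwa [_root_.mul_inv_rev, ← ker_comm hc (z := z⁻¹) (by rw [map_inv, h.1, inv_one]) ⁅y, x⁆⁻¹] at this

theorem cp_conj {L : ↥(Cfsg.SU n F q)} {a : F} (hL : P.Diag L a) {v w : ↥P.perp} {z : Γ}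
    (h : Cp P (τ := τ) K v w z) :
    Cp P (τ := τ) K ⟨C.bar a • (L.1.1 *ᵥ v.1), hL.mem v.2⟩ ⟨C.bar a • (L.1.1 *ᵥ w.1), hL.mem w.2⟩ z := by
  refine ⟨h.1, fun x y hx hy => ?_⟩
  obtain ⟨γ, hγ⟩ := hs L
  obtain ⟨x₀, hx₀⟩ := exists_over P hs v
  obtain ⟨y₀, hy₀⟩ := exists_over P hs w
  rw [over_comm P hs hc h1 hcent hx (hx₀.conj P hs hc hL hγ) hy (hy₀.conj P hs hc hL hγ),
    show ⁅γ * x₀ * γ⁻¹, γ * y₀ * γ⁻¹⁆ * z = γ * ⁅x₀, y₀⁆ * (γ⁻¹ * z) by
      simp only [commutatorElement_def]; group, ker_comm hc h.1 γ⁻¹,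
    show γ * ⁅x₀, y₀⁆ * (z * γ⁻¹) = γ * (⁅x₀, y₀⁆ * z) * γ⁻¹ by group]
  exact hKc L a hL γ hγ _ (h.2 x₀ y₀ hx₀ hy₀)

theorem cp_zero (w : ↥P.perp) : Cp P (τ := τ) K 0 w 1 := by
  obtain ⟨z, hz⟩ := cp_exists P hs hc h1 hcent K hK hKi hKs hKc 0 w
  have := cp_add P hs hc h1 hcent K hK hKi hKs hKc hz hz
  rw [add_zero] at this
  have e := cp_unique P hs hc h1 hcent K hK hKi hKs hKc hz this
  rw [show z = 1 from mul_eq_left.1 e.symm] at hz
  exact hz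

/-- a factor of the scalars acting on both arguments kills the component -/
theorem cp_scale {u : Fin n → F} (hu : u ∈ P.perp) {l : F} (h0 : l ≠ 0) (h2 : l + 1 ≠ 0) (h3 : l * l + l + 1 ≠ 0)
    (hl : ∀ c, c = l ∨ c = l + 1 → ∃ L a, P.Diag L a ∧ C.bar a • (L.1.1 *ᵥ u) = c • u) (α β : F) :
    Cp P (τ := τ) K ⟨α • u, P.perp.smul_mem α hu⟩ ⟨β • u, P.perp.smul_mem β hu⟩ 1 := by
  let pt : F → ↥P.perp := fun α => ⟨α • u, P.perp.smul_mem α hu⟩
  have hpt : ∀ α β, pt α + pt β = pt (α + β) := fun α β => Subtype.ext (add_smul α β u).symm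
  have hinv : ∀ c, c = l ∨ c = l + 1 → ∀ α β z, Cp P (τ := τ) K (pt α) (pt β) z →
      Cp P (τ := τ) K (pt (c * α)) (pt (c * β)) z := by
    intro c hcl α β z h
    obtain ⟨L, a, hL, e⟩ := hl c hcl
    have ec : ∀ α : F, (⟨C.bar a • (L.1.1 *ᵥ (pt α).1), hL.mem (pt α).2⟩ : ↥P.perp) = pt (c * α) := fun α =>
      Subtype.ext (by
        show C.bar a • (L.1.1 *ᵥ (α • u)) = (c * α) • u
        rw [Matrix.mulVec_smul, smul_comm, e, smul_smul, mul_comm])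
    have := cp_conj P hs hc h1 hcent K hK hKi hKs hKc hL h
    rwa [ec, ec] at this
  have ex := cp_exists P hs hc h1 hcent K hK hKi hKs hKc
  have key : ∀ a b : F, Cp P (τ := τ) K (pt a) (pt ((l * l + l + 1) / (l * (l + 1)) * b)) 1 := by
    intro a b
    obtain ⟨z₁, hz₁⟩ := ex (pt a) (pt (b / l))
    obtain ⟨z₂, hz₂⟩ := ex (pt a) (pt b)
    obtain ⟨z₃, hz₃⟩ := ex (pt a) (pt (b / (l + 1)))
    have e1 := hinv l (Or.inl rfl) _ _ _ hz₁
    rw [mul_div_cancel₀ _ h0] at e1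
    have e3 := hinv (l + 1) (Or.inr rfl) _ _ _ hz₃
    rw [mul_div_cancel₀ _ h2] at e3
    have e4 := cp_add P hs hc h1 hcent K hK hKi hKs hKc e1 hz₂
    rw [hpt, show l * a + a = (l + 1) * a by ring] at e4
    have e5 : z₁ * z₂ = z₃ := cp_unique P hs hc h1 hcent K hK hKi hKs hKc e4 e3
    have s1 := cp_swap P hs hc h1 hcent K hK hKi hKs hKc hz₁
    have s2 := cp_swap P hs hc h1 hcent K hK hKi hKs hKc hz₂
    obtain ⟨z₄, hz₄⟩ := ex (pt a) (pt ((l * l + l + 1) / (l * (l + 1)) * b))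
    have s4 := cp_swap P hs hc h1 hcent K hK hKi hKs hKc hz₄
    have e6 := cp_add P hs hc h1 hcent K hK hKi hKs hKc s4
      (cp_swap P hs hc h1 hcent K hK hKi hKs hKc hz₃)
    have e7 := cp_add P hs hc h1 hcent K hK hKi hKs hKc s1 s2
    rw [hpt] at e6 e7
    rw [show (l * l + l + 1) / (l * (l + 1)) * b + b / (l + 1) = b / l + b by field_simp; ring] at e6
    have e8 : z₄⁻¹ * z₃⁻¹ = z₁⁻¹ * z₂⁻¹ := cp_unique P hs hc h1 hcent K hK hKi hKs hKc e6 e7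
    have : z₄ = 1 := by
      rw [← e5] at e8
      rw [show z₁⁻¹ * z₂⁻¹ = (z₁ * z₂)⁻¹ by
        rw [_root_.mul_inv_rev, ker_comm hc (by rw [map_inv, hz₂.1, inv_one]) z₁⁻¹]] at e8
      exact inv_eq_one.1 (mul_eq_right.1 e8)
    rwa [this] at hz₄
  have hne : (l * l + l + 1) / (l * (l + 1)) ≠ 0 := div_ne_zero h3 (mul_ne_zero h0 h2)
  have := key α (β / ((l * l + l + 1) / (l * (l + 1))))
  rwa [mul_div_cancel₀ _ hne] at this

/-- the radical is flat as soon as the commutators of lifts of basis multiples lie in the complement -/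
theorem flat_radical {ι : Type} [Fintype ι] (b : ι → Fin n → F) (hb : ∀ i, b i ∈ P.perp)
    (hspan : ∀ w ∈ P.perp, ∃ c : ι → F, w = ∑ i, c i • b i)
    (hoff : ∀ i j, i ≠ j → ∃ (L : ↥(Cfsg.SU n F q)) (a s : F), P.Diag L a ∧ s ≠ 1 ∧
      C.bar a • (L.1.1 *ᵥ b i) = s • b i ∧ C.bar a • (L.1.1 *ᵥ b j) = b j)
    (hdiag : ∀ i α β, Cp P (τ := τ) K ⟨α • b i, P.perp.smul_mem α (hb i)⟩ ⟨β • b i, P.perp.smul_mem β (hb i)⟩ 1) :
    Flat τ P.eichGroup := by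
  classical
  have ex := cp_exists P hs hc h1 hcent K hK hKi hKs hKc
  have uniq := fun v w z z' => @cp_unique _ _ _ _ _ C P _ _ _ τ hs hc h1 hcent K hK hKi hKs hKc v w z z'
  have hoff' : ∀ i j, i ≠ j → ∀ α β,
      Cp P (τ := τ) K ⟨α • b i, P.perp.smul_mem α (hb i)⟩ ⟨β • b j, P.perp.smul_mem β (hb j)⟩ 1 := by
    intro i j hij α β
    obtain ⟨L, a, s, hL, hs1, hLi, hLj⟩ := hoff i j hij
    have hs1' : s - 1 ≠ 0 := sub_ne_zero.2 hs1
    let v : ↥P.perp := ⟨(α / (s - 1)) • b i, P.perp.smul_mem _ (hb i)⟩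
    let w : ↥P.perp := ⟨β • b j, P.perp.smul_mem β (hb j)⟩
    have eα : (⟨α • b i, P.perp.smul_mem α (hb i)⟩ : ↥P.perp) + v = ⟨C.bar a • (L.1.1 *ᵥ v.1), hL.mem v.2⟩ := by
      refine Subtype.ext ?_
      show α • b i + (α / (s - 1)) • b i = C.bar a • (L.1.1 *ᵥ ((α / (s - 1)) • b i))
      rw [Matrix.mulVec_smul, smul_comm, hLi, smul_smul, ← add_smul]
      congr 1
      field_simp
      ring
    have ew : (⟨C.bar a • (L.1.1 *ᵥ w.1), hL.mem w.2⟩ : ↥P.perp) = w := by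
      refine Subtype.ext ?_
      show C.bar a • (L.1.1 *ᵥ (β • b j)) = β • b j
      rw [Matrix.mulVec_smul, smul_comm, hLj]
    obtain ⟨z₀, hz₀⟩ := ex ⟨α • b i, P.perp.smul_mem α (hb i)⟩ w
    obtain ⟨z, hz⟩ := ex v w
    have e1 := cp_conj P hs hc h1 hcent K hK hKi hKs hKc hL hz
    rw [ew, ← eα] at e1
    have e2 := uniq _ _ _ _ e1 (cp_add P hs hc h1 hcent K hK hKi hKs hKc hz₀ hz)
    rw [show z₀ = 1 from mul_eq_right.1 e2.symm] at hz₀
    exact hz₀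
  have hbase : ∀ i j α β,
      Cp P (τ := τ) K ⟨α • b i, P.perp.smul_mem α (hb i)⟩ ⟨β • b j, P.perp.smul_mem β (hb j)⟩ 1 := by
    intro i j α β
    by_cases hij : i = j
    · subst hij; exact hdiag i α β
    · exact hoff' i j hij α β
  have hsum : ∀ (w : ↥P.perp) (c : ι → F), (∀ i, Cp P (τ := τ) K ⟨c i • b i, P.perp.smul_mem _ (hb i)⟩ w 1) →
      Cp P (τ := τ) K (∑ i, ⟨c i • b i, P.perp.smul_mem _ (hb i)⟩) w 1 := fun w c h =>
    Finset.sum_induction _ (fun v => Cp P (τ := τ) K v w 1)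
      (fun v v' hv hv' => one_mul (1 : Γ) ▸ cp_add P hs hc h1 hcent K hK hKi hKs hKc hv hv')
      (cp_zero P hs hc h1 hcent K hK hKi hKs hKc w) fun i _ => h i
  have hsw : ∀ v w, Cp P (τ := τ) K v w 1 → Cp P (τ := τ) K w v 1 := fun v w h =>
    inv_one (G := Γ) ▸ cp_swap P hs hc h1 hcent K hK hKi hKs hKc h
  have hall : ∀ v w : ↥P.perp, Cp P (τ := τ) K v w 1 := by
    intro v w
    have key : ∀ u : ↥P.perp, ∃ c : ι → F, u = ∑ i, (⟨c i • b i, P.perp.smul_mem _ (hb i)⟩ : ↥P.perp) := fun u => by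
      obtain ⟨c, hcu⟩ := hspan u.1 u.2
      exact ⟨c, Subtype.ext (by rw [hcu, Submodule.coe_sum])⟩
    obtain ⟨c, rfl⟩ := key v
    obtain ⟨d, rfl⟩ := key w
    exact hsum _ c fun i => hsw _ _ (hsum _ d fun j => hsw _ _ (hbase i j _ _))
  intro z hz hz1
  refine hKi z ((Subgroup.commutator_le.2 fun x hx y hy => ?_) hz) hz1
  obtain ⟨v, hv, t, ht, ex'⟩ := (hx : τ x ∈ P.eichGroup)
  obtain ⟨w, hw, s, hs', ey⟩ := (hy : τ y ∈ P.eichGroup)
  have := (hall ⟨v, hv⟩ ⟨w, hw⟩).2 x y ⟨t, ht, ex'⟩ ⟨s, hs', ey⟩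
  rwa [mul_one] at this

end CfsgLib.Lie.Mult.Unit
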