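import Cfsg.Agent.Lib.Lie.Mult.Unit.Diag

/-!
# The stabiliser of an anisotropic line
-/

set_option autoImplicit false
set_option linter.all false

namespace CfsgLib.Lie.Mult.Unit

open Matrix CfsgLib.SU CfsgLib.Classical.HermStab

universe u

variable {F : Type u} [Field F] [Fintype F] {q m : ℕ} {C : UCtx F q}

include C in
/-- an element generating the line stabiliser over the group of the right coordinates -/
theorem exists_line_gen (hm : 2 ≤ m) {u : F} (hu : u * C.bar u = 1) :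
    ∃ g : ↥(Cfsg.SU (1 + m) F q), (∀ X ∈ (kB (C := C) 1 m).range, g * X * g⁻¹ ∈ (kB (C := C) 1 m).range) ∧
      (∀ i : ℕ, g ^ i ∈ (kB (C := C) 1 m).range ↔ u ^ i = 1) ∧
      ∀ x : Fin (1 + m) → F, g.1.1 *ᵥ x = fun l : Fin (1 + m) =>
        (if (l : ℕ) = 0 then u else if (l : ℕ) = 1 then C.bar u else 1) * x l := by
  classical
  have hub : C.bar u * C.bar (C.bar u) = 1 := by rw [C.bar_bar, mul_comm, hu]
  let d : Fin (1 + m) → F := fun l => if (l : ℕ) = 0 then u else if (l : ℕ) = 1 then C.bar u else 1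
  have hd : ∀ l, d l * C.bar (d l) = 1 := fun l => by
    simp only [d]
    split
    · exact hu
    · split
      · exact hub
      · rw [map_one, one_mul]
  have hp : ∏ l, d l = 1 := by
    rw [← Finset.prod_subset (Finset.subset_univ {⟨0, by omega⟩, ⟨1, by omega⟩}) (fun x _ hx => by
      simp only [Finset.mem_insert, Finset.mem_singleton, not_or, Fin.ext_iff] at hx
      exact (if_neg hx.1).trans (if_neg hx.2)), Finset.prod_pair (by simp [Fin.ext_iff])]
    simp [d, hu]
  have hd0 : ∀ l : Fin 1, d (Fin.castAdd m l) = u := fun l => if_pos (show (l : ℕ) = 0 by omega)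
  have hap : ∀ (c : F) (x : Fin 1 → F), (dgn d hd hp).1.1 *ᵥ Fin.append (c • x) (0 : Fin m → F) =
      Fin.append ((u * c) • x) 0 := fun c x => by
    rw [dgn_mulVec]
    funext l
    induction l using Fin.addCases with
    | left l => simp [hd0, mul_assoc]
    | right l => simp
  refine ⟨dgn d hd hp, fun X hX => conj_range_of_fix (fun x => ⟨C.bar u • x, ?_⟩) hX, fun i => ?_,
    fun x => dgn_mulVec d hd hp x⟩
  · conv_lhs => rw [show x = (u * C.bar u) • x by rw [hu, one_smul], ← hap, su_inv_mulVec]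
  · rw [range_kB_one, dgn_pow]
    constructor
    · intro h
      simpa [hd0, e0] using congrFun h (Fin.castAdd m 0)
    · intro h
      funext l
      induction l using Fin.addCases with
      | left l => simp [hd0, e0, h]
      | right l => simp [e0]

/-- the line stabiliser -/
theorem exists_levi (hF : Fintype.card F = q ^ 2) (hm : 2 ≤ m) :
    ∃ g : ↥(Cfsg.SU (1 + m) F q), (∀ X ∈ (kB (C := C) 1 m).range, g * X * g⁻¹ ∈ (kB (C := C) 1 m).range) ∧
      ((kB (C := C) 1 m).range ⊔ Subgroup.zpowers g).index * (q + 1) =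
        q ^ m * (if Even m then q ^ (m + 1) + 1 else q ^ (m + 1) - 1) ∧
      ∃ u : F, u * C.bar u = 1 ∧ (∀ j, u ^ j = 1 → q + 1 ∣ j) ∧ ∀ x : Fin (1 + m) → F, g.1.1 *ᵥ x = fun l : Fin (1 + m) =>
        (if (l : ℕ) = 0 then u else if (l : ℕ) = 1 then C.bar u else 1) * x l := by
  classical
  obtain ⟨u, hu, hord⟩ := exists_unit_gen (C := C) hF
  obtain ⟨g, hn, hg, hgx⟩ := exists_line_gen (C := C) hm hu
  refine ⟨g, hn, ?_, u, hu, hord, hgx⟩
  have hu1 : u ^ (q + 1) = 1 := by rw [pow_succ, ← C.bar_eq, mul_comm, hu]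
  have hcard := card_sup_zpow (j := q + 1) (Nat.succ_pos q) hn fun i => (hg i).trans ⟨hord i, fun ⟨t, ht⟩ => by
    rw [ht, pow_mul, hu1, one_pow]⟩
  have hK : Nat.card ↥(kB (C := C) 1 m).range = Nat.card (Cfsg.SU m F q) :=
    (Nat.card_congr (MonoidHom.ofInjective (kB_injective 1 m)).toEquiv).symm
  have hidx := Subgroup.card_mul_index ((kB (C := C) 1 m).range ⊔ Subgroup.zpowers g)
  rw [hcard, hK] at hidx
  have e1 := CfsgLib.Classical.card_su_mul C hF (n := 1 + m) (by omega)
  rw [show Nat.card (Cfsg.GU (1 + m) F q) = CfsgLib.Classical.hcount C (m + 1) 1 * Nat.card (Cfsg.GU m F q) by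
      rw [add_comm 1 m]; exact CfsgLib.Classical.card_gu_succ C hF m,
    CfsgLib.Classical.hcount_one_eq C hF, ← CfsgLib.Classical.card_su_mul C hF (n := m) (by omega)] at e1
  rw [← hidx] at e1
  refine Nat.eq_of_mul_eq_mul_left (show 0 < Nat.card (Cfsg.SU m F q) * (q + 1) from
    Nat.mul_pos Nat.card_pos (Nat.succ_pos q)) ?_
  refine Eq.trans ?_ (e1.trans ?_)
  · ring
  · ring

include C in
/-- no multiplier at primes away from the index of the line stabiliser -/
theorem nop_levi (hF : Fintype.card F = q ^ 2) (hm : 2 ≤ m) {ℓ : ℕ} [hℓ : Fact ℓ.Prime]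
    (hp : commutator ↥(Cfsg.SU m F q) = ⊤) (hno : NoP ℓ ↥(Cfsg.SU m F q))
    (hi : ∀ i, i * (q + 1) = q ^ m * (if Even m then q ^ (m + 1) + 1 else q ^ (m + 1) - 1) → ¬ ℓ ∣ i) :
    NoP ℓ ↥(Cfsg.SU (1 + m) F q) := by
  obtain ⟨g, hn, hidx, -⟩ := exists_levi (C := C) hF hm
  exact nop_of_flat fun Γ _ _ σ hσ hcard => ⟨_, hi _ hidx,
    flat_cyclic hσ.2.1 hσ.1 (flat_range (kB_injective 1 m) hp hno hσ.1 hσ.2.1 hcard) (range_perfect _ hp) hn le_rfl⟩

end CfsgLib.Lie.Mult.Unit
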