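import Cfsg.Agent.Lib.Lie.Mult.Unit.Monomial

/-!
# No multiplier at two for `SU(3,3)`
-/

set_option autoImplicit false
set_option linter.all false
set_option maxRecDepth 100000

namespace CfsgLib.Lie.Mult.Unit

open Matrix CfsgLib.SU CfsgLib.Classical.HermStab
open scoped commutatorElement MatrixGroups

universe u

/-- commutators closed under division form the derived group -/
theorem card_comm_of_image {G : Type*} [Group G] [Fintype G] [DecidableEq G] {n : ℕ}
    (h : ((Finset.univ ×ˢ Finset.univ).image fun ab : G × G => ⁅ab.1, ab.2⁆).card = n ∧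
      ∀ a ∈ ((Finset.univ ×ˢ Finset.univ).image fun ab : G × G => ⁅ab.1, ab.2⁆),
        ∀ b ∈ ((Finset.univ ×ˢ Finset.univ).image fun ab : G × G => ⁅ab.1, ab.2⁆),
          a * b⁻¹ ∈ ((Finset.univ ×ˢ Finset.univ).image fun ab : G × G => ⁅ab.1, ab.2⁆)) :
    Nat.card ↥(commutator G) = n := by
  obtain ⟨hc, hm⟩ := h
  generalize hS : ((Finset.univ ×ˢ Finset.univ).image fun ab : G × G => ⁅ab.1, ab.2⁆) = T at hc hm
  have hT : ∀ a b : G, ⁅a, b⁆ ∈ T := fun a b => hS ▸ Finset.mem_image.2 ⟨(a, b), by simp, rfl⟩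
  have h1 : (1 : G) ∈ T := by simpa using hT 1 1
  let S : Subgroup G :=
    { carrier := T
      one_mem' := h1
      mul_mem' := fun {a b} ha hb => by
        have hb' := hm _ h1 b hb
        rw [one_mul] at hb'
        have := hm a ha _ hb'
        rwa [inv_inv] at this
      inv_mem' := fun {a} ha => by
        have := hm _ h1 a ha
        rwa [one_mul] at this }
  have e : commutator G = S := by
    refine le_antisymm ?_ fun x hx => ?_
    · rw [commutator_def, Subgroup.commutator_le]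
      exact fun a _ b _ => hT a b
    · rw [← SetLike.mem_coe] at hx
      obtain ⟨ab, -, rfl⟩ := Finset.mem_image.1 (hS.symm ▸ (show x ∈ T from hx))
      exact Subgroup.commutator_mem_commutator (Subgroup.mem_top _) (Subgroup.mem_top _)
  rw [e]
  exact (Nat.card_eq_finsetCard T).trans hc

theorem card_comm_sl_two_three : Nat.card ↥(commutator SL(2, ZMod 3)) = 8 := by
  refine card_comm_of_image ?_
  simp only [commutatorElement_def]
  decide +kernel

theorem card_comm_congr {G H : Type*} [Group G] [Group H] (e : G ≃* H) :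
    Nat.card ↥(commutator G) = Nat.card ↥(commutator H) := by
  have h : (commutator G).map e.toMonoidHom = commutator H := by
    rw [commutator_def, Subgroup.map_commutator, Subgroup.map_top_of_surjective _ e.surjective, ← commutator_def]
  rw [← h]
  exact Nat.card_congr ((commutator G).equivMapOfInjective _ e.injective).toEquiv

/-- subgroups without multiplier at a prime are flat -/
theorem flat_of_nop' {ℓ : ℕ} [hℓ : Fact ℓ.Prime] {G : Type u} [Group G] {Γ : Type u} [Group Γ] [Finite Γ]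
    {τ : Γ →* G} (hs : Function.Surjective τ) (hc : τ.ker ≤ Subgroup.center Γ) (hcard : Nat.card τ.ker = ℓ)
    {H : Subgroup G} (hno : NoP ℓ ↥H) : Flat τ H := by
  intro z hz h1
  by_contra hne
  let π : ↥(H.comap τ) →* ↥H := τ.subgroupComap H
  have hπ : Function.Surjective π := fun h => by
    obtain ⟨a, ha⟩ := hs h
    exact ⟨⟨a, by show τ a ∈ H; rw [ha]; exact h.2⟩, Subtype.ext ha⟩
  rw [D, ← Subgroup.map_subtype_commutator] at hz
  obtain ⟨c, hcm, rfl⟩ := hz
  let f : ↥π.ker →* ↥τ.ker :=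
    { toFun := fun w => ⟨w.1.1, congrArg Subtype.val w.2⟩
      map_one' := rfl
      map_mul' := fun _ _ => rfl }
  have hf : Function.Injective f := fun a b e =>
    Subtype.ext (Subtype.ext (congrArg (fun w : ↥τ.ker => (w : Γ)) e))
  have hk : Nat.card π.ker = ℓ := by
    rcases (Nat.dvd_prime hℓ.out).1 (hcard ▸ Subgroup.card_dvd_of_injective f hf) with h | h
    · have := (Subgroup.card_eq_one.1 h).le (show c ∈ π.ker from Subtype.ext h1)
      exact absurd (congrArg Subtype.val (Subgroup.mem_bot.1 this)) hne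
    · exact h
  refine hno _ π ⟨hπ, fun a ha => Subgroup.mem_center_iff.2 fun b =>
    Subtype.ext (Subgroup.mem_center_iff.1 (hc (show τ a.1 = 1 from congrArg Subtype.val ha)) b.1), ?_⟩
    (hk ▸ dvd_rfl)
  intro a ha
  have hz' : Subgroup.zpowers (⟨c, Subtype.ext h1⟩ : ↥π.ker) = ⊤ := by
    refine Subgroup.eq_top_of_card_eq _ ?_
    rw [Nat.card_zpowers, hk]
    refine orderOf_eq_prime ?_ fun e => hne (congrArg Subtype.val (congrArg Subtype.val e))
    rw [← hk]
    exact pow_card_eq_one'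
  obtain ⟨j, hj⟩ := Subgroup.mem_zpowers_iff.1 (hz'.ge (Subgroup.mem_top (⟨a, ha⟩ : ↥π.ker)))
  have : a = c ^ j := by
    rw [show a = ((⟨a, ha⟩ : ↥π.ker) : ↥(H.comap τ)) from rfl, ← hj]; rfl
  rw [this]
  exact zpow_mem hcm j

/-- a cyclic extension of the derived group of a flat group is flat -/
theorem flat_cyclic' {G : Type u} [Group G] [Finite G] {Γ : Type u} [Group Γ] [Finite Γ] {τ : Γ →* G}
    (hs : Function.Surjective τ) (hc : τ.ker ≤ Subgroup.center Γ) {K : Subgroup G} (hK : Flat τ K) {g : G}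
    (hn : ∀ x ∈ K, g * x * g⁻¹ ∈ K) {S : Subgroup G} (hS : S ≤ ⁅K, K⁆ ⊔ Subgroup.zpowers g) : Flat τ S := by
  obtain ⟨g₀, rfl⟩ := hs g
  have hn' : ∀ x ∈ ⁅K, K⁆, τ g₀ * x * (τ g₀)⁻¹ ∈ ⁅K, K⁆ := fun x hx => by
    have h1 : ⁅K, K⁆.map (MulAut.conj (τ g₀)).toMonoidHom ≤ ⁅K, K⁆ := by
      rw [Subgroup.map_commutator]
      have : K.map (MulAut.conj (τ g₀)).toMonoidHom ≤ K := by
        rintro _ ⟨y, hy, rfl⟩; exact hn y hy
      exact Subgroup.commutator_mono this this
    exact h1 ⟨x, hx, rfl⟩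
  have hnD : ∀ (i : ℤ) {d : Γ}, d ∈ D τ K → g₀ ^ i * d * (g₀ ^ i)⁻¹ ∈ D τ K := fun i d hd => by
    refine D_conj (fun x hx => ?_) hd
    rw [map_zpow]
    exact (Subgroup.mem_normalizer_iff.1 (zpow_mem (Ladder.normalizer_of_le hn) i) x).1 hx
  have hdec : ∀ x ∈ S.comap τ, ∃ d ∈ D τ K, ∃ z, τ z = 1 ∧ ∃ i : ℤ, x = d * g₀ ^ i * z := fun x hx => by
    obtain ⟨a, ha, i, e⟩ := exists_split_zpow hn' (hS hx)
    obtain ⟨d, hd, rfl⟩ : a ∈ (D τ K).map τ := by
      rwa [Subgroup.map_commutator, Subgroup.map_comap_eq_self_of_surjective hs]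
    refine ⟨d, hd, (d * g₀ ^ i)⁻¹ * x, ?_, i, (mul_inv_cancel_left _ _).symm⟩
    rw [map_mul, map_inv, map_mul, map_zpow, ← e, inv_mul_cancel]
  intro z hz h1
  refine hK z ((Subgroup.commutator_le.2 fun x hx y hy => ?_) hz) h1
  obtain ⟨d, hd, w, hw, i, rfl⟩ := hdec x hx
  obtain ⟨d', hd', w', hw', j, rfl⟩ := hdec y hy
  rw [comm_mul_ker hc hw hw']
  have e : ⁅d * g₀ ^ i, d' * g₀ ^ j⁆ =
      d * (g₀ ^ i * d' * (g₀ ^ i)⁻¹) * (g₀ ^ j * d⁻¹ * (g₀ ^ j)⁻¹) * d'⁻¹ := by
    simp only [commutatorElement_def]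
    group
  rw [e]
  exact mul_mem (mul_mem (mul_mem hd (hnD i hd')) (hnD j (inv_mem hd))) (inv_mem hd')

variable {F : Type u} [Field F] [Fintype F] {q : ℕ} {C : UCtx F q}

include C in
theorem nop_three_three_two (hF : Fintype.card F = 3 ^ 2) (hq : q = 3) : NoP 2 ↥(Cfsg.SU 3 F q) := by
  classical
  subst hq
  haveI := Fact.mk Nat.prime_two
  have h2 : NoP 2 ↥(Cfsg.SU 2 F 3) := nop_su_two (C := C) hF (by norm_num)
  obtain ⟨K', i', j', hK', ⟨e'⟩⟩ := su_two_equiv (C := C) hF
  let er : K' ≃+* ZMod 3 := FiniteField.ringEquivOfCardEq (by rw [hK', ZMod.card])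
  let es : SL(2, K') ≃* SL(2, ZMod 3) :=
    { Matrix.SpecialLinearGroup.map er.toRingHom with
      invFun := Matrix.SpecialLinearGroup.map er.symm.toRingHom
      left_inv := fun A => Subtype.ext (Matrix.ext fun i j => er.symm_apply_apply _)
      right_inv := fun A => Subtype.ext (Matrix.ext fun i j => er.apply_symm_apply _) }
  have hc8 : Nat.card ↥(commutator ↥(Cfsg.SU 2 F 3)) = 8 :=
    (card_comm_congr (e'.trans es)).trans card_comm_sl_two_three
  obtain ⟨g, hn, -, u, hu, hord, hgx⟩ := exists_levi (C := C) (m := 2) hF le_rfl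
  set K := (kB (C := C) 1 2).range
  set N := ⁅K, K⁆
  have hNK : N ≤ K := Subgroup.commutator_le.2 fun a ha b hb =>
    mul_mem (mul_mem (mul_mem ha hb) (inv_mem ha)) (inv_mem hb)
  have hN : Nat.card ↥N = 8 := by
    rw [show N = (commutator ↥(Cfsg.SU 2 F 3)).map (kB (C := C) 1 2) by
      rw [commutator_def, Subgroup.map_commutator, ← MonoidHom.range_eq_map], ← hc8]
    exact (Nat.card_congr ((commutator ↥(Cfsg.SU 2 F 3)).equivMapOfInjective _ (kB_injective 1 2)).toEquiv).symm
  have hnN : ∀ x ∈ N, g * x * g⁻¹ ∈ N := fun x hx => by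
    have h1 : N.map (MulAut.conj g).toMonoidHom ≤ N := by
      rw [Subgroup.map_commutator]
      have : K.map (MulAut.conj g).toMonoidHom ≤ K := by rintro _ ⟨y, hy, rfl⟩; exact hn y hy
      exact Subgroup.commutator_mono this this
    exact h1 ⟨x, hx, rfl⟩
  have hgp : ∀ (i : ℕ) (x : Fin (1 + 2) → F), (g ^ i).1.1 *ᵥ x = fun l : Fin (1 + 2) =>
      (if (l : ℕ) = 0 then u else if (l : ℕ) = 1 then C.bar u else 1) ^ i * x l := fun i => by
    induction i with
    | zero => intro x; rw [pow_zero, su_one_mulVec]; simp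
    | succ i ih => intro x; rw [pow_succ, suMat_mulVec_mul, hgx, ih]; funext l; ring
  have hgi : ∀ i : ℕ, g ^ i ∈ N ↔ 4 ∣ i := by
    intro i
    constructor
    · intro h
      have h1 := congrFun ((hgp i (e0 2)).symm.trans (range_kB_one.1 (hNK h))) (Fin.castAdd 2 0)
      simp only [e0, Fin.append_left, Fin.val_castAdd, Fin.val_zero, if_pos, Pi.one_apply, mul_one] at h1
      exact hord i h1
    · rintro ⟨t, rfl⟩
      have hu4 : u ^ 4 = 1 := pow_q_succ (C := C) hu
      have hb4 : C.bar u ^ 4 = 1 := by rw [← map_pow, hu4, map_one]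
      rw [show g ^ (4 * t) = 1 from su_ext fun x => by
        rw [hgp, su_one_mulVec]
        funext l
        rw [pow_mul]
        split_ifs <;> simp [hu4, hb4]]
      exact one_mem _
  have hidx : ¬ 2 ∣ (N ⊔ Subgroup.zpowers g).index := by
    intro h
    have hi := Subgroup.card_mul_index (N ⊔ Subgroup.zpowers g)
    rw [card_sup_zpow (by norm_num) hnN hgi, hN,
      show Nat.card ↥(Cfsg.SU (1 + 2) F 3) = Nat.card (Cfsg.SU 3 F 3) from rfl, card_su_three (C := C) hF] at hi
    norm_num at hi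
    omega
  refine nop_of_flat fun Γ _ _ σ hσ hcard => ⟨_, hidx, ?_⟩
  exact flat_cyclic' hσ.1 hσ.2.1
    (flat_of_nop' hσ.1 hσ.2.1 hcard (h2.congr (MonoidHom.ofInjective (kB_injective (C := C) 1 2)))) hn le_rfl

end CfsgLib.Lie.Mult.Unit
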