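import Cfsg.Agent.Lib.Lie.Mult.Unit.Small
import Cfsg.Agent.Lib.Lie.Mult.Unit.ThreeTwo
import Cfsg.Agent.Lib.Lie.Mult.Unit.FiveTwo

/-!
# The Schur multiplier of the projective special unitary groups
-/

set_option autoImplicit false
set_option linter.all false

namespace CfsgLib.Lie.Mult.Unit

open Matrix CfsgLib.SU

universe u

variable {F : Type u} [Field F] [Fintype F] {q : ℕ} {C : UCtx F q}

include C in
theorem nop_up (hF : Fintype.card F = q ^ 2) {n₀ : ℕ} (H : GeoOk q (n₀ + 1)) {ℓ : ℕ}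
    (h0 : NoP ℓ ↥(Cfsg.SU n₀ F q)) : ∀ n, n₀ ≤ n → NoP ℓ ↥(Cfsg.SU n F q) := by
  intro n hn
  induction n, hn using Nat.le_induction with
  | base => exact h0
  | succ n hn ih =>
    have h := nop_step (C := C) hF (m := n) (by
      obtain ⟨h1, h2, h3, h4⟩ := H
      exact ⟨by omega, h2, by omega, by omega⟩) ih
    rw [add_comm 1 n] at h
    exact h

include C in
theorem nop_all (hF : Fintype.card F = q ^ 2) {p a : ℕ} [Fact p.Prime] (hq : q = p ^ a) {n : ℕ} (hn : 3 ≤ n)
    (h3 : ¬ (n = 3 ∧ q = 2)) (hexc : (n, q) ∉ ({(4, 2), (4, 3), (6, 2)} : Set (ℕ × ℕ))) {ℓ : ℕ} [Fact ℓ.Prime] :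
    NoP ℓ ↥(Cfsg.SU n F q) := by
  have hq2 := CfsgLib.Classical.two_le_q hF
  simp only [Set.mem_insert_iff, Set.mem_singleton_iff, Prod.mk.injEq, not_or, not_and] at hexc
  obtain ⟨e42, e43, e62⟩ := hexc
  rcases Nat.lt_or_ge q 4 with hlt | hge
  · rcases (show q = 2 ∨ q = 3 by omega) with hq' | hq'
    · by_cases h2 : ℓ = 2
      · subst h2
        have h5 : NoP 2 ↥(Cfsg.SU 5 F q) := nop_five_two_two (C := C) (by rw [hF, hq']) hq'
        by_cases hn5 : n = 5
        · subst hn5; exact h5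
        refine nop_up (C := C) hF (n₀ := 7) ⟨by omega, hq2, by omega, by omega⟩ ?_ n (by omega)
        subst hq'
        exact nop_two_seven (C := C) hF h5
      · have h5 : NoP ℓ ↥(Cfsg.SU 5 F q) := nop_five_two_odd (C := C) (by rw [hF, hq']) hq' h2
        by_cases hn5 : n = 5
        · subst hn5; exact h5
        exact nop_up (C := C) hF (n₀ := 6) ⟨by omega, hq2, by omega, by omega⟩
          (nop_six_two (C := C) (by rw [hF, hq']) hq' h2) n (by omega)
    · by_cases hn3 : n = 3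
      · subst hn3
        by_cases h2 : ℓ = 2
        · subst h2; exact nop_three_three_two (C := C) (by rw [hF, hq']) hq'
        · exact nop_three_three_odd (C := C) (by rw [hF, hq']) hq' h2
      exact nop_up (C := C) hF (n₀ := 5) ⟨by omega, hq2, by omega, by omega⟩
        (nop_five_three (C := C) (by rw [hF, hq']) hq') n (by omega)
  · by_cases hn3 : n = 3
    · subst hn3; exact nop_three (C := C) hq hF hge
    exact nop_up (C := C) hF (n₀ := 4) ⟨by omega, hq2, Or.inl hge, by omega⟩ (nop_four (C := C) hq hF hge) n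
      (by omega)

theorem exists_prime_base (hF : Fintype.card F = q ^ 2) : ∃ p a : ℕ, p.Prime ∧ q = p ^ a := by
  obtain ⟨p, hp⟩ := CharP.exists F
  obtain ⟨k, hpp, hk⟩ := FiniteField.card F p
  rw [hF] at hk
  obtain ⟨f, -, hq⟩ := (Nat.dvd_prime_pow hpp).1 (hk ▸ dvd_pow_self q two_ne_zero)
  exact ⟨p, f, hpp, hq⟩

include C in
theorem center_cyclic {n : ℕ} (hn : 3 ≤ n) : IsCyclic (Subgroup.center ↥(Cfsg.SU n F q)) := by
  classical
  haveI : NeZero n := ⟨by omega⟩
  have key : ∀ A : ↥(Subgroup.center ↥(Cfsg.SU n F q)), ∃ c : F, A.1.1.1 = c • (1 : Matrix (Fin n) (Fin n) F) := by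
    intro A
    obtain ⟨c, hc, -⟩ := C.scalar_of_mem_center hn A.2
    refine ⟨((c : Fˣ) : F), ?_⟩
    have h1 := congrArg (fun g : ↥(Cfsg.GU n F q) => g.1.1) hc
    exact h1.trans (C.gscal_val c)
  choose c hc using key
  have h00 : ∀ A, c A = A.1.1.1 (0 : Fin n) 0 := fun A => by rw [hc A]; simp
  let f : ↥(Subgroup.center ↥(Cfsg.SU n F q)) →* F :=
    { toFun := c
      map_one' := by rw [h00]; exact Matrix.one_apply_eq _
      map_mul' := fun A B => by
        rw [h00 (A * B)]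
        show (A.1.1.1 * B.1.1.1) 0 0 = _
        rw [hc A, hc B]
        simp [mul_comm] }
  refine isCyclic_of_subgroup_isDomain f fun A B h => ?_
  refine Subtype.ext (Subtype.ext (Subtype.ext ?_))
  rw [hc A, hc B, show c A = c B from h]

theorem main {F : Type u} [Field F] [Fintype F] (n q : ℕ) (hF : Fintype.card F = q ^ 2) (hn : 3 ≤ n)
    (h3 : ¬ (n = 3 ∧ q = 2)) (hexc : (n, q) ∉ ({(4, 2), (4, 3), (6, 2)} : Set (ℕ × ℕ))) :
    Cfsg.HasCyclicSchurMultiplier (Cfsg.PSU n F q) (Nat.gcd n (q + 1)) := by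
  classical
  obtain ⟨C⟩ := CfsgLib.Classical.uctx_exists hF
  obtain ⟨p, a, hp, hq⟩ := exists_prime_base hF
  haveI := Fact.mk hp
  have hperf : commutator ↥(Cfsg.SU n F q) = ⊤ :=
    CfsgLib.Classical.WeilSU.su_perfect hF hn h3
  have hb : Orth.SBound ↥(Cfsg.SU n F q) 1 := fun Γ _ _ σ hσ => by
    by_contra hlt
    obtain ⟨ℓ, hℓ, hd⟩ := Nat.exists_prime_and_dvd (n := Nat.card σ.ker) (by omega)
    haveI := Fact.mk hℓ
    exact nop_all (C := C) hF hq hn h3 hexc Γ σ hσ hd
  have hid : Cfsg.IsStemExtension (MonoidHom.id ↥(Cfsg.SU n F q)) :=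
    ⟨fun x => ⟨x, rfl⟩, by rw [MonoidHom.ker_id]; exact bot_le, by rw [MonoidHom.ker_id]; exact bot_le⟩
  have hst : Cfsg.IsStemExtension (QuotientGroup.mk' (Subgroup.center ↥(Cfsg.SU n F q))) :=
    ⟨QuotientGroup.mk'_surjective _, by rw [QuotientGroup.ker_mk'], by rw [hperf]; exact le_top⟩
  refine CfsgLib.Lie.SLUniv.hasSchurMultiplier_of_split hst (fun P _ _ π hπ hc =>
    Orth.exists_section_of_bound (MonoidHom.id _) hid hperf hb
      (by rw [MonoidHom.ker_id, Subgroup.card_bot]) P π hπ hc) ?_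
  haveI := center_cyclic (C := C) (q := q) hn
  exact (MulEquiv.subgroupCongr (QuotientGroup.ker_mk' _)).trans
    ((zmodCyclicMulEquiv inferInstance).symm.trans
      (MulEquiv.cast (M := fun k => Multiplicative (ZMod k)) (C.card_center_su hF hn)))

end CfsgLib.Lie.Mult.Unit
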