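import Cfsg.Agent.Lib.Lie.Mult.Unit.Levi
import Mathlib.LinearAlgebra.Matrix.Permutation
import Mathlib.RingTheory.RootsOfUnity.PrimitiveRoots

/-!
# Diagonal and permutation elements, orders, and commuting flat subgroups
-/

set_option autoImplicit false
set_option linter.all false

namespace CfsgLib.Lie.Mult.Unit

open Matrix CfsgLib.SU CfsgLib.Classical.HermStab CfsgLib.Classical.HermTori
open scoped commutatorElement

universe u

variable {F : Type u} [Field F] [Fintype F] {q n k m : ℕ} {C : UCtx F q}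

/-- the diagonal elements -/
def diagT (C : UCtx F q) (n : ℕ) : Subgroup ↥(Cfsg.SU n F q) where
  carrier := {X | ∃ d : Fin n → F, (∀ i, d i * C.bar (d i) = 1) ∧ ∀ x, X.1.1 *ᵥ x = fun i => d i * x i}
  one_mem' := ⟨1, fun i => by simp, fun x => by rw [su_one_mulVec]; simp⟩
  mul_mem' := by
    rintro X Y ⟨d, hd, hX⟩ ⟨e, he, hY⟩
    refine ⟨d * e, fun i => ?_, fun x => ?_⟩
    · rw [Pi.mul_apply, map_mul]
      linear_combination (e i * C.bar (e i)) * hd i + he i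
    · rw [suMat_mulVec_mul, hY, hX]
      funext i
      rw [Pi.mul_apply, mul_assoc]
  inv_mem' := by
    rintro X ⟨d, hd, hX⟩
    refine ⟨fun i => C.bar (d i), fun i => by rw [C.bar_bar, mul_comm]; exact hd i, fun x => ?_⟩
    conv_lhs => rw [show x = X.1.1 *ᵥ fun i => C.bar (d i) * x i by
      rw [hX]; funext i; rw [← mul_assoc, hd i, one_mul], su_inv_mulVec]

theorem diagT_comm {X Y : ↥(Cfsg.SU n F q)} (hX : X ∈ diagT C n) (hY : Y ∈ diagT C n) : Commute X Y := by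
  obtain ⟨d, -, hd⟩ := hX
  obtain ⟨e, -, he⟩ := hY
  refine su_ext fun x => ?_
  rw [suMat_mulVec_mul, suMat_mulVec_mul, hd, he, he, hd]
  funext i
  ring

theorem diagT_abelian : ⁅diagT C n, diagT C n⁆ = ⊥ :=
  le_bot_iff.1 (Subgroup.commutator_le.2 fun _ hx _ hy =>
    Subgroup.mem_bot.2 (commutatorElement_eq_one_iff_commute.2 (diagT_comm hx hy)))

theorem diag_prod {X : ↥(Cfsg.SU n F q)} {d : Fin n → F} (hX : ∀ x, X.1.1 *ᵥ x = fun i => d i * x i) :
    ∏ i, d i = 1 := by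
  have h : X.1.1 = Matrix.diagonal d :=
    Matrix.ext_iff_mulVec.2 fun x => (hX x).trans (funext fun i => (Matrix.mulVec_diagonal _ _ _).symm)
  have h1 := X.1.2
  rwa [h, Matrix.det_diagonal] at h1

/-- an even permutation of the coordinates -/
def pm (C : UCtx F q) (π : Equiv.Perm (Fin n)) (hs : Equiv.Perm.sign π = 1) : ↥(Cfsg.SU n F q) :=
  C.mkSU (π.permMatrix F) (by rw [Matrix.det_permutation, hs]; simp) fun u v => by
    rw [Matrix.permMatrix_mulVec, Matrix.permMatrix_mulVec]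
    exact Equiv.sum_comp π (fun i => u i * C.bar (v i))

theorem pm_mulVec (π : Equiv.Perm (Fin n)) (hs : Equiv.Perm.sign π = 1) (x : Fin n → F) :
    (pm C π hs).1.1 *ᵥ x = x ∘ π :=
  Matrix.permMatrix_mulVec π

theorem pm_pow (π : Equiv.Perm (Fin n)) (hs : Equiv.Perm.sign π = 1) (j : ℕ) (x : Fin n → F) :
    (pm C π hs ^ j).1.1 *ᵥ x = x ∘ (π ^ j : Equiv.Perm (Fin n)) := by
  induction j generalizing x with
  | zero => rw [pow_zero, pow_zero, su_one_mulVec]; rfl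
  | succ j ih => rw [pow_succ, suMat_mulVec_mul, pm_mulVec, ih, pow_succ']; rfl

theorem pm_conj_diag (π : Equiv.Perm (Fin n)) (hs : Equiv.Perm.sign π = 1) {X : ↥(Cfsg.SU n F q)}
    {d : Fin n → F} (hX : ∀ x, X.1.1 *ᵥ x = fun i => d i * x i) (x : Fin n → F) :
    (pm C π hs * X * (pm C π hs)⁻¹).1.1 *ᵥ x = fun i => d (π i) * x i := by
  have h := su_mulVec_inv (pm C π hs) x
  rw [pm_mulVec] at h
  rw [suMat_mulVec_mul, suMat_mulVec_mul, hX, pm_mulVec]
  funext i
  show d (π i) * _ = d (π i) * x i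
  rw [show ((pm C π hs)⁻¹).1.1 *ᵥ x = fun j => ((pm C π hs)⁻¹.1.1 *ᵥ x) j from rfl]
  exact congrArg (d (π i) * ·) (congrFun h i)

theorem pm_norm_diag (π : Equiv.Perm (Fin n)) (hs : Equiv.Perm.sign π = 1) {X : ↥(Cfsg.SU n F q)}
    (hX : X ∈ diagT C n) : pm C π hs * X * (pm C π hs)⁻¹ ∈ diagT C n := by
  obtain ⟨d, hd, hX⟩ := hX
  exact ⟨fun i => d (π i), fun i => hd _, pm_conj_diag π hs hX⟩

theorem pow_q_succ {a : F} (ha : a * C.bar a = 1) : a ^ (q + 1) = 1 := by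
  rw [pow_succ, ← C.bar_eq, mul_comm, ha]

theorem exists_pow_eq {u a : F} (hu : u * C.bar u = 1) (hord : ∀ j, u ^ j = 1 → q + 1 ∣ j)
    (ha : a * C.bar a = 1) : ∃ i : ℕ, u ^ i = a := by
  haveI : NeZero (q + 1) := ⟨Nat.succ_ne_zero q⟩
  obtain ⟨i, -, h⟩ := (IsPrimitiveRoot.mk (pow_q_succ (C := C) hu) hord).eq_pow_of_pow_eq_one (pow_q_succ (C := C) ha)
  exact ⟨i, h⟩

include C in
/-- the norm takes every fixed value -/
theorem exists_norm_eq (hF : Fintype.card F = q ^ 2) {c : F} (hc : C.bar c = c) :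
    ∃ d : F, d * C.bar d = c :=
  (CfsgLib.Classical.HermWitt.exists_norm (CfsgLib.Classical.HermFrames.bar_ne_id C) C.bar_bar hc).imp
    fun d h => (mul_comm d _).trans h

include C in
theorem card_su_three (hF : Fintype.card F = q ^ 2) :
    Nat.card (Cfsg.SU 3 F q) = q ^ 3 * ((q ^ 2 - 1) * (q ^ 3 + 1)) := by
  have h := CfsgLib.Classical.card_su_mul C hF (n := 3) (by norm_num)
  rw [CfsgLib.Classical.card_gu_formula C hF] at h
  simp only [Finset.prod_range_succ, Finset.prod_range_zero] at h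
  norm_num at h
  refine Nat.eq_of_mul_eq_mul_left (show 0 < q + 1 by omega) (h.trans ?_)
  ring

include C in
theorem card_su_four (hF : Fintype.card F = q ^ 2) :
    Nat.card (Cfsg.SU 4 F q) = q ^ 6 * ((q ^ 2 - 1) * (q ^ 3 + 1) * (q ^ 4 - 1)) := by
  have h := CfsgLib.Classical.card_su_mul C hF (n := 4) (by norm_num)
  rw [CfsgLib.Classical.card_gu_formula C hF] at h
  simp only [Finset.prod_range_succ, Finset.prod_range_zero] at h
  norm_num [Nat.even_iff] at h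
  refine Nat.eq_of_mul_eq_mul_left (show 0 < q + 1 by omega) (h.trans ?_)
  ring

/-- two commuting flat perfect subgroups meeting trivially -/
theorem flat_sup {G : Type u} [Group G] [Finite G] {Γ : Type u} [Group Γ] [Finite Γ]
    {τ : Γ →* G} (hs : Function.Surjective τ) (hc : τ.ker ≤ Subgroup.center Γ) {K L : Subgroup G}
    (hK : Flat τ K) (hKp : K ≤ ⁅K, K⁆) (hL : Flat τ L) (hLp : L ≤ ⁅L, L⁆)
    (hcomm : ∀ k ∈ K, ∀ l ∈ L, Commute k l) (hd : K ⊓ L = ⊥) : Flat τ (K ⊔ L) := by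
  have hKL : ∀ {a b : Γ}, a ∈ D τ K → b ∈ D τ L → Commute a b := fun {a b} ha hb =>
    commute_D hc (fun x hx => hcomm _ (D_le K ha) x hx) hb
  have hn : D τ L ≤ Subgroup.normalizer (D τ K : Set Γ) := fun b hb =>
    Ladder.normalizer_of_le fun a ha => by rw [← (hKL ha hb).eq, mul_inv_cancel_right]; exact ha
  have hLK : L ≤ Subgroup.normalizer (K : Set G) := fun l hl =>
    Ladder.normalizer_of_le fun x hx => by rw [← (hcomm x hx l hl).eq, mul_inv_cancel_right]; exact hx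
  have hdec : ∀ x ∈ (K ⊔ L).comap τ, ∃ w ∈ D τ K ⊔ D τ L, ∃ e, τ e = 1 ∧ x = w * e := fun x hx => by
    have hx' : τ x ∈ ((K ⊔ L : Subgroup G) : Set G) := hx
    rw [Subgroup.coe_mul_of_right_le_normalizer_left K L hLK] at hx'
    obtain ⟨a, ha, b, hb, e⟩ := hx'
    obtain ⟨u, hu, rfl⟩ := exists_D hs hKp ha
    obtain ⟨v, hv, rfl⟩ := exists_D hs hLp hb
    exact ⟨u * v, mul_mem (Subgroup.mem_sup_left hu) (Subgroup.mem_sup_right hv), (u * v)⁻¹ * x,
      by rw [map_mul, map_inv, map_mul, ← e, inv_mul_cancel], (mul_inv_cancel_left _ _).symm⟩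
  intro z hz h1
  have hzN : z ∈ D τ K ⊔ D τ L := (Subgroup.commutator_le.2 fun x hx y hy => by
    obtain ⟨w, hw, e, he, rfl⟩ := hdec x hx
    obtain ⟨w', hw', e', he', rfl⟩ := hdec y hy
    rw [comm_mul_ker hc he he', commutatorElement_def]
    exact mul_mem (mul_mem (mul_mem hw hw') (inv_mem hw)) (inv_mem hw')) hz
  have hzN' : z ∈ ((D τ K ⊔ D τ L : Subgroup Γ) : Set Γ) := hzN
  rw [Subgroup.coe_mul_of_right_le_normalizer_left _ _ hn] at hzN'
  obtain ⟨a, ha, b, hb, rfl⟩ := hzN'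
  have e : τ a = (τ b)⁻¹ := eq_inv_of_mul_eq_one_left ((map_mul τ a b).symm.trans h1)
  have hb1 : τ b = 1 := by
    have : τ b ∈ K ⊓ L := Subgroup.mem_inf.2
      ⟨show τ b ∈ K by rw [← inv_inv (τ b), ← e]; exact inv_mem (D_le K ha), D_le L hb⟩
    rwa [hd, Subgroup.mem_bot] at this
  show a * b = 1
  rw [hL b hb hb1, mul_one]
  exact hK a ha (by rw [e, hb1, inv_one])

theorem sup_perfect {G : Type u} [Group G] {K L : Subgroup G} (hK : K ≤ ⁅K, K⁆) (hL : L ≤ ⁅L, L⁆) :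
    K ⊔ L ≤ ⁅K ⊔ L, K ⊔ L⁆ :=
  sup_le (hK.trans (Subgroup.commutator_mono le_sup_left le_sup_left))
    (hL.trans (Subgroup.commutator_mono le_sup_right le_sup_right))

/-- conjugation preserving a subgroup of a join -/
theorem sup_conj {G : Type u} [Group G] {K L M : Subgroup G} {g : G} (hK : ∀ x ∈ K, g * x * g⁻¹ ∈ M)
    (hL : ∀ x ∈ L, g * x * g⁻¹ ∈ M) {x : G} (hx : x ∈ K ⊔ L) : g * x * g⁻¹ ∈ M :=
  (sup_le (a := K) (b := L) (c := M.comap (MulAut.conj g).toMonoidHom) hK hL) hx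

end CfsgLib.Lie.Mult.Unit
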