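import Cfsg.Agent.Lib.Lie.Mult.Unit.Par

/-!
# No multiplier in the defining characteristic in small dimensions
-/

set_option autoImplicit false
set_option linter.all false

namespace CfsgLib.Lie.Mult.Unit

open Matrix CfsgLib.SU CfsgLib.Classical.HermStab
open scoped commutatorElement

universe u

variable {F : Type u} [Field F] [Fintype F] {q n m : ℕ} {C : UCtx F q}

theorem eich_eq_one (P : UPair C n) {X : ↥(Cfsg.SU n F q)} (hX : X ∈ P.eichGroup) (hf : X.1.1 *ᵥ P.f = P.f) :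
    X = 1 := by
  obtain ⟨w, hw, t, ht, rfl⟩ := hX
  rw [P.eich_f] at hf
  have h := congrArg (fun z => C.form z P.f) hf
  simp [C.form_add_left, C.form_smul_left, P.ef, P.ff, hw.2] at h
  rw [h, zero_smul, add_zero, add_eq_left] at hf
  refine su_ext fun x => ?_
  rw [P.eich_mulVec, su_one_mulVec, hf, h]
  simp [C.form_zero_right]

theorem comm_eich_le (P : UPair C n) : ⁅P.eichGroup, P.eichGroup⁆ ≤ cgrp P :=
  Subgroup.commutator_le.2 fun X hX Y hY => by
    obtain ⟨v, hv, t, ht, rfl⟩ := hX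
    obtain ⟨w, hw, s, hs, rfl⟩ := hY
    obtain ⟨ho, e⟩ := eich_comm_elt P hv hw ht hs
    rw [e]
    exact ⟨_, _, rfl⟩

theorem cgrp_le_comm (P : UPair C n) (h1 : ∃ v ∈ P.perp, C.form v v = 1) :
    cgrp P ≤ ⁅P.eichGroup, P.eichGroup⁆ := by
  rintro _ ⟨t, ht, rfl⟩
  obtain ⟨v, hv, hvv⟩ := h1
  obtain ⟨w, hw⟩ := C.exists_trace (c := 1) (map_one _)
  have ht0 : C.bar t = -t := by
    rw [C.form_zero_left, add_zero] at ht
    exact eq_neg_of_add_eq_zero_right ht
  obtain ⟨t1, ht1, hm1⟩ := exists_eich P (P.perp.smul_mem (t * w) hv)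
  obtain ⟨t2, ht2, hm2⟩ := exists_eich P hv
  obtain ⟨ho, e⟩ := eich_comm_elt P (P.perp.smul_mem (t * w) hv) hv ht1 ht2
  have h := Subgroup.commutator_mem_commutator hm1 hm2
  rw [e] at h
  refine (P.eich_congr rfl ?_ : P.eich 0 P.perp.zero_mem t ht = P.eich 0 P.perp.zero_mem _ ho) ▸ h
  rw [C.form_smul_left, C.form_smul_right, hvv, mul_one, mul_one, map_mul, ht0]
  linear_combination (-t) * hw

variable (P0 : UPair C 2)

include P0 in
theorem kB_fix_f {X : ↥(Cfsg.SU (2 + m) F q)} (hX : X ∈ (kB (C := C) 2 m).range) :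
    X.1.1 *ᵥ (pairB P0 m).f = (pairB P0 m).f := mem_range_kB.1 hX _

include P0 in
theorem eich_inf_kB : (pairB P0 m).eichGroup ⊓ (kB (C := C) 2 m).range = ⊥ :=
  eq_bot_iff.2 fun X hX => Subgroup.mem_bot.2 (eich_eq_one _ hX.1 (kB_fix_f P0 hX.2))

include P0 in
theorem card_eich (hF : Fintype.card F = q ^ 2) : Nat.card ↥(pairB P0 m).eichGroup = q ^ (2 * m + 1) := by
  classical
  let P := pairB P0 m
  have hw : ∀ x : Fin m → F, Fin.append (0 : Fin 2 → F) x ∈ P.perp := app_mem P0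
  choose t ht using fun x : Fin m → F =>
    C.exists_trace (c := -C.form (Fin.append (0 : Fin 2 → F) x) (Fin.append (0 : Fin 2 → F) x))
      (by rw [map_neg, C.form_self_fixed])
  have hcond : ∀ z : (Fin m → F) × {s : F // s + C.bar s = 0}, t z.1 + z.2.1 + C.bar (t z.1 + z.2.1) +
      C.form (Fin.append (0 : Fin 2 → F) z.1) (Fin.append (0 : Fin 2 → F) z.1) = 0 := fun z => by
    rw [map_add]; linear_combination ht z.1 + z.2.2
  let f : (Fin m → F) × {s : F // s + C.bar s = 0} → ↥P.eichGroup := fun z =>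
    ⟨P.eich _ (hw z.1) (t z.1 + z.2.1) (by rw [map_add]; linear_combination ht z.1 + z.2.2), P.eich_mem _ _ _ _⟩
  have hf : Function.Bijective f := by
    refine ⟨fun a b h => ?_, fun X => ?_⟩
    · obtain ⟨e1, e2⟩ := P.eich_inj (hw := hw a.1) (hw' := hw b.1) (ht := hcond a) (ht' := hcond b) (congrArg Subtype.val h)
      have e : a.1 = b.1 := by simpa [rc_append] using congrArg rc e1
      rw [e] at e2
      exact Prod.ext e (Subtype.ext (add_left_cancel e2))
    · obtain ⟨X, w, hwm, s, hs, rfl⟩ := X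
      have h2 := ht (rc w)
      rw [← eq_app P0 hwm] at h2
      have h3 : s - t (rc w) + C.bar (s - t (rc w)) = 0 := by
        rw [map_sub]
        linear_combination hs - h2
      refine ⟨(rc w, ⟨s - t (rc w), h3⟩), ?_⟩
      simp only [f]
      refine Subtype.ext ?_
      refine P.eich_congr (hw := hw (rc w)) (hw' := hwm) (ht' := hs)
        (ht := by rw [map_add]; linear_combination ht (rc w) + h3) (eq_app P0 hwm).symm ?_
      exact add_sub_cancel _ _
  rw [← Nat.card_congr (Equiv.ofBijective f hf), Nat.card_prod, card_trace_zero (C := C) hF, Nat.card_fun,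
    Nat.card_eq_fintype_card, Nat.card_eq_fintype_card, hF, Fintype.card_fin, ← pow_mul, pow_succ]

theorem gu_exp (m : ℕ) : (2 + m) * (2 + m - 1) / 2 = 2 * m + 1 + m * (m - 1) / 2 := by
  rw [show (2 + m) * (2 + m - 1) = m * (m - 1) + (2 * m + 1) * 2 by
    rcases m with _ | k
    · rfl
    · rw [show 2 + (k + 1) - 1 = k + 2 by omega, Nat.add_sub_cancel]; ring,
    Nat.add_mul_div_right _ _ two_pos, add_comm]

include P0 in
/-- the radical and the right coordinates contain a Sylow subgroup -/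
theorem index_par {p : ℕ} [hp : Fact p.Prime] (hpq : p ∣ q) (hF : Fintype.card F = q ^ 2) (hm : 1 ≤ m)
    (hn : ∀ k ∈ (kB (C := C) 2 m).range, ∀ x ∈ (pairB P0 m).eichGroup,
      k * x * k⁻¹ ∈ (pairB P0 m).eichGroup) :
    ¬ p ∣ ((pairB P0 m).eichGroup ⊔ (kB (C := C) 2 m).range).index := by
  classical
  set Q := (pairB P0 m).eichGroup
  set K := (kB (C := C) 2 m).range
  have hle : K ≤ Subgroup.normalizer (Q : Set _) := fun k hk => Ladder.normalizer_of_le (hn k hk)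
  have hcard : Nat.card ↥(Q ⊔ K) = Nat.card ↥Q * Nat.card ↥K := by
    rw [← Nat.card_prod]
    refine (Nat.card_eq_of_bijective (fun z : ↥Q × ↥K =>
      (⟨z.1.1 * z.2.1, mul_mem (Subgroup.mem_sup_left z.1.2) (Subgroup.mem_sup_right z.2.2)⟩ : ↥(Q ⊔ K)))
      ⟨fun a b h => ?_, fun x => ?_⟩).symm
    · exact Subgroup.mul_injective_of_disjoint (disjoint_iff.2 (eich_inf_kB P0)) (congrArg Subtype.val h)
    · have hx : x.1 ∈ ((Q ⊔ K : Subgroup _) : Set _) := x.2
      rw [Subgroup.coe_mul_of_right_le_normalizer_left Q K hle] at hx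
      obtain ⟨a, ha, b, hb, e⟩ := hx
      exact ⟨(⟨a, ha⟩, ⟨b, hb⟩), Subtype.ext e⟩
  have hK : Nat.card ↥K = Nat.card (Cfsg.SU m F q) :=
    (Nat.card_congr (MonoidHom.ofInjective (kB_injective 2 m)).toEquiv).symm
  have hidx := Subgroup.card_mul_index (Q ⊔ K)
  rw [hcard, card_eich P0 hF, hK] at hidx
  let R : ℕ → ℕ := fun n => ∏ i ∈ Finset.range n, (if Even i then q ^ (i + 1) + 1 else q ^ (i + 1) - 1)
  have hGU : ∀ n, 1 ≤ n → (q + 1) * Nat.card (Cfsg.SU n F q) = q ^ (n * (n - 1) / 2) * R n := fun n hn =>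
    (CfsgLib.Classical.card_su_mul C hF hn).trans (CfsgLib.Classical.card_gu_formula C hF n)
  have h2 := CfsgLib.Classical.two_le_q hF
  have e : (Q ⊔ K).index * R m = R (2 + m) := by
    refine Nat.eq_of_mul_eq_mul_left (show 0 < q ^ ((2 + m) * (2 + m - 1) / 2) from pow_pos (by omega) _) ?_
    rw [← hGU (2 + m) (by omega), ← hidx,
      show (q + 1) * (q ^ (2 * m + 1) * Nat.card (Cfsg.SU m F q) * (Q ⊔ K).index) =
        q ^ (2 * m + 1) * (Q ⊔ K).index * ((q + 1) * Nat.card (Cfsg.SU m F q)) by ring, hGU m hm, gu_exp, pow_add]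
    ring
  intro hd
  have hR : p ∣ R (2 + m) := e ▸ hd.mul_right _
  obtain ⟨i, -, hi⟩ := (Nat.Prime.prime hp.out).exists_mem_finset_dvd hR
  have hpi : p ∣ q ^ (i + 1) := dvd_pow hpq (Nat.succ_ne_zero i)
  have h1 := pow_pos (show 0 < q by omega) (i + 1)
  have : p ∣ 1 := by
    split at hi
    · exact (Nat.dvd_add_right hpi).1 hi
    · have h3 := Nat.dvd_sub hpi hi
      rwa [show q ^ (i + 1) - (q ^ (i + 1) - 1) = 1 by omega] at h3
  exact hp.out.not_dvd_one this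

include P0 in
theorem kB_norm (k : ↥(Cfsg.SU (2 + m) F q)) (hk : k ∈ (kB (C := C) 2 m).range)
    (x : ↥(Cfsg.SU (2 + m) F q)) (hx : x ∈ (pairB P0 m).eichGroup) : k * x * k⁻¹ ∈ (pairB P0 m).eichGroup := by
  obtain ⟨A, rfl⟩ := hk
  exact Diag.conj_eichGroup _ (kB_diag P0 A) hx

include P0 in
/-- the Levi factor joined to a flat radical -/
theorem flat_par (hm : 1 ≤ m) {Γ : Type u} [Group Γ] [Finite Γ]
    {τ : Γ →* ↥(Cfsg.SU (2 + m) F q)} (hs : Function.Surjective τ) (hc : τ.ker ≤ Subgroup.center Γ)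
    (hQ : Flat τ (pairB P0 m).eichGroup) {L : ↥(Cfsg.SU (2 + m) F q)} {a s : F}
    (hL : (pairB P0 m).Diag L a) (hsc : ∀ w ∈ (pairB P0 m).perp, C.bar a • (L.1.1 *ᵥ w) = s • w) (hs1 : s ≠ 1)
    (hK : Flat τ (kB (C := C) 2 m).range) (hp : commutator ↥(Cfsg.SU m F q) = ⊤) :
    Flat τ ((pairB P0 m).eichGroup ⊔ (kB (C := C) 2 m).range) := by
  obtain ⟨h₀, rfl⟩ := hs L
  refine flat_semi hc hs (h₀ := h₀) (fun x hx => Diag.conj_eichGroup _ hL hx) hQ ?_ hK (range_perfect _ hp)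
    (fun k hk x hx => kB_norm P0 k hk x hx) ?_ (eich_inf_kB P0)
  · intro x hx hd
    have h1 := exists_one_perp P0 hm
    obtain ⟨w, hw, t, ht, rfl⟩ := hx
    obtain ⟨ht', e⟩ := hL.conj_eich hw ht
    rw [commutatorElement_def, e] at hd
    obtain ⟨r, hr, er⟩ := comm_eich_le _ hd
    rw [mul_inv_eq_iff_eq_mul, UPair.eich_mul] at er
    have hw1 := ((pairB P0 m).eich_inj er).1
    rw [zero_add, hsc w hw] at hw1
    have hw0 : w = 0 := by
      have h2 : (s - 1) • w = 0 := by rw [sub_smul, one_smul, hw1, sub_self]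
      exact (smul_eq_zero.1 h2).resolve_left (sub_ne_zero.2 hs1)
    exact cgrp_le_comm _ h1 ⟨t, by rw [hw0] at ht; exact ht, (pairB P0 m).eich_congr hw0 rfl⟩
  · rintro _ ⟨A, rfl⟩
    exact scalar_commute _ hL hsc (kB_diag P0 A)

include C in
/-- dimension three -/
theorem nop_char_three {p : ℕ} [Fact p.Prime] (hpq : p ∣ q) (hF : Fintype.card F = q ^ 2) (hq : 3 ≤ q) :
    NoP p ↥(Cfsg.SU 3 F q) := by
  obtain ⟨P0⟩ := C.exists_pair (n := 2) le_rfl
  refine nop_of_flat fun Γ _ _ σ hσ _ => ⟨(pairB P0 1).eichGroup, ?_,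
    flat_radical_large P0 hF ⟨hq, Or.inl rfl⟩ hσ.1 hσ.2.1⟩
  have h1 := index_par P0 hpq hF le_rfl (fun k hk x hx => kB_norm P0 k hk x hx)
  have htriv : (kB (C := C) 2 1).range = ⊥ := by
    rw [MonoidHom.range_eq_bot_iff]
    ext1 A
    have : A = 1 := Subtype.ext (Subtype.ext (Matrix.ext fun i j => by
      have h := A.1.2
      rw [Matrix.det_fin_one] at h
      rw [Subsingleton.elim i 0, Subsingleton.elim j 0, h]
      rfl))
    rw [this, map_one, MonoidHom.one_apply]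
  rwa [htriv, sup_bot_eq] at h1

include C in
/-- the general step -/
theorem nop_char_step {p : ℕ} [Fact p.Prime] (hpq : p ∣ q) (hF : Fintype.card F = q ^ 2) (hm : 2 ≤ m)
    (hok : ParOk q m)
    (hK : ∀ (Γ : Type u) [Group Γ] [Finite Γ] (τ : Γ →* ↥(Cfsg.SU (2 + m) F q)), Cfsg.IsStemExtension τ →
      Nat.card τ.ker = p → Flat τ (kB (C := C) 2 m).range)
    (hp : commutator ↥(Cfsg.SU m F q) = ⊤) : NoP p ↥(Cfsg.SU (2 + m) F q) := by
  obtain ⟨P0⟩ := C.exists_pair (n := 2) le_rfl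
  refine nop_of_flat fun Γ _ _ σ hσ hcard => ?_
  obtain ⟨L, a, s, hL, hsc, -, hs1⟩ := exists_scal P0 hF hok
  exact ⟨_, index_par P0 hpq hF (by omega) (fun k hk x hx => kB_norm P0 k hk x hx),
    flat_par P0 (by omega) hσ.1 hσ.2.1 (flat_radical_large P0 hF hok hσ.1 hσ.2.1) hL hsc (hs1 hm)
      (hK Γ σ hσ hcard) hp⟩

include C in
theorem nop_char_five_three {p : ℕ} [Fact p.Prime] (hpq : p ∣ 3) (hF : Fintype.card F = 3 ^ 2)
    (hq : q = 3) : NoP p ↥(Cfsg.SU 5 F q) := by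
  subst hq
  have hperf : commutator ↥(Cfsg.SU 3 F 3) = ⊤ :=
    CfsgLib.Classical.WeilSU.su_perfect hF le_rfl (by omega)
  refine nop_char_step (C := C) (m := 3) hpq hF (by norm_num) ⟨le_rfl, Or.inr (Or.inr ⟨rfl, rfl⟩)⟩ ?_ hperf
  exact fun Γ _ _ τ hτ hcard =>
    flat_range (kB_injective 2 3) hperf (nop_char_three (C := C) hpq hF le_rfl) hτ.1 hτ.2.1 hcard

end CfsgLib.Lie.Mult.Unit
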