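import Cfsg.Agent.Lib.Lie.Mult.Unit.Heis
import Cfsg.Agent.Lib.Lie.Mult.Unit.Embed

/-!
# The defining characteristic: the radical of an isotropic point in coordinates
-/

set_option autoImplicit false
set_option linter.all false

namespace CfsgLib.Lie.Mult.Unit

open Matrix CfsgLib.SU CfsgLib.Classical.HermStab
open scoped commutatorElement

universe u

variable {F : Type u} [Field F] [Fintype F] {q n m : ℕ} {C : UCtx F q}

section comp

variable (P : UPair C n) {Γ : Type u} [Group Γ] [Finite Γ] {τ : Γ →* ↥(Cfsg.SU n F q)}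
  (hs : Function.Surjective τ) (hc : τ.ker ≤ Subgroup.center Γ)
  (h1 : ∃ v ∈ P.perp, C.form v v = 1)
  (hcent : ∃ L a, P.Diag L a ∧ a * C.bar a = 1 ∧ ∀ w ∈ P.perp, C.bar a • (L.1.1 *ᵥ w) = w → w = 0)
include hs hc h1 hcent

/-- a torus element moving the root group cuts out the complement -/
theorem exists_complement {L : ↥(Cfsg.SU n F q)} {a s : F} (hL : P.Diag L a)
    (hsc : ∀ w ∈ P.perp, C.bar a • (L.1.1 *ᵥ w) = s • w) (ha : a * C.bar a ≠ 1) :
    ∃ K : Subgroup Γ, (∀ x ∈ K, τ x ∈ cgrp P) ∧ (∀ x ∈ K, τ x = 1 → x = 1) ∧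
      (∀ X ∈ cgrp P, ∃ x ∈ K, τ x = X) ∧
      ∀ L a, P.Diag L a → ∀ γ, τ γ = L → ∀ x ∈ K, γ * x * γ⁻¹ ∈ K := by
  obtain ⟨h₀, rfl⟩ := hs L
  have hn : ∀ x ∈ cgrp P, τ h₀ * x * (τ h₀)⁻¹ ∈ cgrp P := fun x hx => Diag.conj_cgrp P hL hx
  have hcomm : ∀ {x y : Γ}, τ x ∈ cgrp P → τ y ∈ cgrp P → Commute x y := fun hx hy =>
    cgrp_lift_central P hs hc h1 hcent hx (cgrp_le P hy)
  have hD : D τ (cgrp P) = ⊥ := eq_bot_iff.2 (Subgroup.commutator_le.2 fun x hx y hy =>
    Subgroup.mem_bot.2 (commutatorElement_eq_one_iff_commute.2 (hcomm hx hy)))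
  have hflat : Flat τ (cgrp P) := fun z hz _ => by rwa [hD, Subgroup.mem_bot] at hz
  have key : ∀ (t : F) ht, ∃ ho, ⁅τ h₀, P.eich 0 P.perp.zero_mem t ht⁆ =
      P.eich 0 P.perp.zero_mem ((a * C.bar a - 1) * t) ho := by
    intro t ht
    have ht' : t + C.bar t = 0 := by rwa [C.form_zero_left, add_zero] at ht
    refine ⟨by rw [C.form_zero_left, add_zero, map_mul, map_sub, C.norm_fixed, map_one]; linear_combination (a * C.bar a - 1) * ht', ?_⟩
    obtain ⟨ho, e⟩ := hL.conj_eich P.perp.zero_mem ht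
    rw [commutatorElement_def, e, mul_inv_eq_iff_eq_mul, P.eich_mul]
    exact P.eich_congr (by simp) (by rw [C.form_zero_left]; ring)
  refine ⟨Hat τ h₀ (cgrp P), fun x hx => Hat_le hn hx, fun x hx h => ?_, fun X hX => ?_, ?_⟩
  · refine Hat_inj hn hflat (fun b hb h2 => ?_) hs hx h
    obtain ⟨t, ht, e⟩ := hb
    have h3 : ⁅τ h₀, τ b⁆ = 1 := by
      have hbot : ⁅cgrp P, cgrp P⁆ = ⊥ := eq_bot_iff.2 (Subgroup.commutator_le.2 fun x hx y hy =>
        Subgroup.mem_bot.2 (commutatorElement_eq_one_iff_commute.2 (cgrp_central P hx (cgrp_le P hy))))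
      rwa [hbot, Subgroup.mem_bot] at h2
    obtain ⟨ho, e2⟩ := key t ht
    have h4 : P.eich 0 P.perp.zero_mem ((a * C.bar a - 1) * t) ho = 1 := e2.symm.trans (e ▸ h3)
    have h5 : (a * C.bar a - 1) * t = 0 := by
      have := congrArg (fun X : ↥(Cfsg.SU n F q) => C.form (X.1.1 *ᵥ P.f) P.f) h4
      simpa [P.eich_f, su_one_mulVec, C.form_add_left, C.form_smul_left, C.form_zero_left, P.ef, P.ff] using this
    have ht0 : t = 0 := (mul_eq_zero.1 h5).resolve_left (sub_ne_zero.2 ha)
    have hb1 : τ b = 1 := by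
      rw [e]
      refine su_ext fun x => ?_
      rw [P.eich_mulVec, su_one_mulVec, ht0]
      simp [C.form_zero_right]
    rw [commutatorElement_eq_one_iff_commute.2 (show Commute h₀ b from ker_comm hc hb1 h₀)]
    exact one_mem _
  · obtain ⟨t, ht, rfl⟩ := hX
    have ht' : t + C.bar t = 0 := by rwa [C.form_zero_left, add_zero] at ht
    have hne : a * C.bar a - 1 ≠ 0 := sub_ne_zero.2 ha
    have ht1 : t / (a * C.bar a - 1) + C.bar (t / (a * C.bar a - 1)) + C.form (0 : Fin n → F) 0 = 0 := by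
      rw [C.form_zero_left, add_zero, map_div₀, map_sub, C.norm_fixed, map_one, ← add_div, ht', zero_div]
    obtain ⟨b, hb⟩ := hs (P.eich 0 P.perp.zero_mem _ ht1)
    refine ⟨_, comm_mem_Hat (a := b) (by rw [hb]; exact ⟨_, _, rfl⟩), ?_⟩
    obtain ⟨ho, e⟩ := key _ ht1
    rw [map_commutatorElement, hb, e]
    exact P.eich_congr rfl (mul_div_cancel₀ _ hne)
  · intro L' a' hL' γ hγ x hx
    refine Hat_conj hc ?_ (fun y hy => by rw [hγ]; exact Diag.conj_cgrp P hL' hy) hx
    rw [map_commutatorElement, hγ, commutatorElement_eq_one_iff_commute]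
    exact scalar_commute P hL hsc hL'

end comp

variable (P0 : UPair C 2)

local notation "PB" => pairB P0 m

theorem dg_bv {L : ↥(Cfsg.SU (2 + m) F q)} {d : Fin m → F}
    (h : ∀ x : Fin m → F, L.1.1 *ᵥ Fin.append (0 : Fin 2 → F) x = Fin.append (0 : Fin 2 → F) (fun i => d i * x i))
    (y : F) (i : Fin m) : C.bar y • (L.1.1 *ᵥ bv i) = (C.bar y * d i) • bv i := by
  rw [bv, h, mul_smul, app_smul, app_smul, app_smul, smul_zero, smul_zero, smul_zero]
  congr 1
  funext j
  simp only [Pi.smul_apply, smul_eq_mul, Pi.single_apply]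
  split <;> simp [*]

theorem dg_perp {L : ↥(Cfsg.SU (2 + m) F q)} {d : Fin m → F} {ν : F} (hd : ∀ i, d i = ν)
    (h : ∀ x : Fin m → F, L.1.1 *ᵥ Fin.append (0 : Fin 2 → F) x = Fin.append (0 : Fin 2 → F) (fun i => d i * x i))
    (y : F) : ∀ w ∈ (pairB P0 m).perp, C.bar y • (L.1.1 *ᵥ w) = (C.bar y * ν) • w := fun w hw => by
  rw [eq_app P0 hw, h, mul_smul]
  congr 1
  rw [app_smul, smul_zero]
  congr 1
  funext i
  simp [hd]

theorem exists_one_perp (hm : 1 ≤ m) : ∃ v ∈ (pairB P0 m).perp, C.form v v = 1 :=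
  ⟨bv ⟨0, hm⟩, bv_mem P0 _, by rw [form_bv, if_pos rfl]⟩

include P0 in
/-- a torus element fixing the root group with no fixed vectors on the perpendicular -/
theorem exists_cent (hF : Fintype.card F = q ^ 2) (hq : 3 ≤ q) (hm : 1 ≤ m) :
    ∃ L a, (pairB P0 m).Diag L a ∧ a * C.bar a = 1 ∧
      ∀ w ∈ (pairB P0 m).perp, C.bar a • (L.1.1 *ᵥ w) = w → w = 0 := by
  classical
  obtain ⟨y, hy, hord⟩ := exists_unit_gen (C := C) hF
  have hy0 : y ≠ 0 := left_ne_zero_of_mul (hy.trans_ne one_ne_zero)
  have hby : C.bar y ≠ 0 := right_ne_zero_of_mul (hy.trans_ne one_ne_zero)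
  let d : Fin m → F := Function.update (fun _ => 1) ⟨0, hm⟩ (C.bar y / y)
  have hd : ∀ i, d i * C.bar (d i) = 1 := fun i => by
    simp only [d, Function.update_apply]
    split
    · rw [map_div₀, C.bar_bar]; field_simp
    · rw [map_one, one_mul]
  obtain ⟨L, hL, hLx⟩ := exists_dg P0 hy0 d hd
    (by rw [Finset.prod_update_of_mem (Finset.mem_univ _)]; simp)
  refine ⟨L, y, hL, hy, fun w hw he => ?_⟩
  have e : ∀ i, C.bar y * d i ≠ 1 := fun i h => by
    simp only [d, Function.update_apply] at h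
    split at h
    · have h3 : y ^ 3 = 1 := by
        field_simp at h
        linear_combination (-(y * y)) * h + (C.bar y * y + 1) * hy
      have := Nat.le_of_dvd (by norm_num) (hord 3 h3)
      omega
    · rw [mul_one] at h
      rw [h, mul_one] at hy
      have := Nat.le_of_dvd one_pos (hord 1 (by rw [pow_one]; exact hy))
      omega
  rw [eq_app P0 hw, hLx, app_smul, smul_zero] at he
  have h2 := congrArg rc he
  rw [CfsgLib.Classical.HermStab.rc_append, CfsgLib.Classical.HermStab.rc_append] at h2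
  rw [eq_app P0 hw]
  funext l
  induction l using Fin.addCases with
  | left l => simp
  | right l =>
    have h3 := congrFun h2 l
    simp only [Pi.smul_apply, smul_eq_mul] at h3
    have : (C.bar y * d l - 1) * rc w l = 0 := by linear_combination h3
    simp [(mul_eq_zero.1 this).resolve_left (sub_ne_zero.2 (e l))]

include C in
theorem exists_fixed_avoid (hF : Fintype.card F = q ^ 2) (S : Finset F) (hS : S.card < q) :
    ∃ y, C.bar y = y ∧ y ∉ S := by
  classical
  by_contra hcon
  push Not at hcon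
  have h1 : Nat.card (CfsgLib.Descent.fixedField C.bar) ≤ Nat.card ↥S :=
    Nat.card_le_card_of_injective (fun y => (⟨y.1, hcon y.1 y.2⟩ : ↥S)) fun a b h =>
      Subtype.ext (congrArg (fun z : ↥S => (z : F)) h)
  rw [card_fixed (C := C) hF, Nat.card_eq_fintype_card, Fintype.card_coe] at h1
  omega

/-- the values allowed for `q` and `m` -/
def ParOk (q m : ℕ) : Prop := 3 ≤ q ∧ (m = 1 ∨ (2 ≤ m ∧ 4 ≤ q) ∨ (m = 3 ∧ q = 3))

include P0 in
/-- a torus element which is scalar on the perpendicular and moves the root group -/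
theorem exists_scal (hF : Fintype.card F = q ^ 2) (hok : ParOk q m) :
    ∃ (L : ↥(Cfsg.SU (2 + m) F q)) (a s : F), (pairB P0 m).Diag L a ∧ (∀ w ∈ (pairB P0 m).perp, C.bar a • (L.1.1 *ᵥ w) = s • w) ∧
      a * C.bar a ≠ 1 ∧ (2 ≤ m → s ≠ 1) := by
  classical
  obtain ⟨hq, hcase⟩ := hok
  by_cases h4 : 4 ≤ q
  · obtain ⟨y, hy, hyS⟩ := exists_fixed_avoid (C := C) hF {0, 1, -1}
      (lt_of_le_of_lt Finset.card_le_three (by omega))
    simp only [Finset.mem_insert, Finset.mem_singleton, not_or] at hyS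
    obtain ⟨L, hL, hLx⟩ := exists_dg P0 hyS.1 (fun _ : Fin m => (1 : F)) (fun _ => by rw [map_one, one_mul])
      (by rw [Finset.prod_const_one, hy, div_self hyS.1])
    refine ⟨L, y, _, hL, dg_perp P0 (fun _ => rfl) hLx y, fun h => ?_, fun _ h => hyS.2.1 ?_⟩
    · rw [hy] at h
      rcases sq_eq_one_iff.1 (show y ^ 2 = 1 by rw [sq]; exact h) with e | e
      · exact hyS.2.1 e
      · exact hyS.2.2 e
    · rwa [mul_one, hy] at h
  · have hq3 : q = 3 := by omega
    have hm13 : m = 1 ∨ m = 3 := by rcases hcase with h | ⟨-, h⟩ | ⟨h, -⟩ <;> omega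
    obtain ⟨y, hy0, hy⟩ : ∃ y : F, y ≠ 0 ∧ y * C.bar y ≠ 1 := by
      obtain ⟨y, hy⟩ := C.exists_norm (c := (-1 : F)) (by simp)
      refine ⟨y, fun h => by simp [h] at hy, fun h => ?_⟩
      obtain ⟨z, -, hz⟩ := exists_fixed_avoid (C := C) hF ({0, 1} : Finset F)
        (lt_of_le_of_lt Finset.card_le_two (by omega))
      have h2 : (2 : F) = 0 := by linear_combination hy - h
      have h9 : ((q ^ 2 : ℕ) : F) = 0 := hF ▸ Nat.cast_card_eq_zero F
      rw [hq3] at h9
      push_cast at h9
      exact one_ne_zero (α := F) (by linear_combination h9 - 4 * h2)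
    have hby : C.bar y ≠ 0 := by simpa using hy0
    have h8 : y ^ 8 = 1 := by
      have := FiniteField.pow_card_sub_one_eq_one y hy0
      rwa [hF, hq3] at this
    rcases hm13 with rfl | rfl
    · obtain ⟨L, hL, hLx⟩ := exists_dg P0 hy0 (fun _ : Fin 1 => C.bar y / y)
        (fun _ => by rw [map_div₀, C.bar_bar]; field_simp) (by simp)
      exact ⟨L, y, _, hL, dg_perp P0 (fun _ => rfl) hLx y, hy, fun h => absurd h (by norm_num)⟩
    · obtain ⟨L, hL, hLx⟩ := exists_dg P0 hy0 (fun _ : Fin 3 => y / C.bar y)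
        (fun _ => by rw [map_div₀, C.bar_bar]; field_simp) (by
          rw [Finset.prod_const, Finset.card_univ, Fintype.card_fin, C.bar_eq, hq3]
          field_simp
          linear_combination -h8)
      refine ⟨L, y, _, hL, dg_perp P0 (fun _ => rfl) hLx y, hy, fun _ h => hy ?_⟩
      rw [mul_div_cancel₀ _ hby] at h
      rw [h, map_one, one_mul]

theorem exists_lambda (hF : Fintype.card F = q ^ 2) (hq : 3 ≤ q) :
    ∃ l : F, l ≠ 0 ∧ l + 1 ≠ 0 ∧ l * l + l + 1 ≠ 0 := by
  classical
  by_contra hcon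
  push Not at hcon
  have h9 : 9 ≤ Fintype.card F := by rw [hF]; exact Nat.pow_le_pow_left hq 2
  have hlt : 2 < ((Finset.univ : Finset F) \ {0, -1}).card := by
    have := Finset.le_card_sdiff ({0, -1} : Finset F) Finset.univ
    have := Finset.card_le_two (a := (0 : F)) (b := -1)
    rw [Finset.card_univ] at *
    omega
  obtain ⟨x, y, z, hx, hy, hz, hxy, hxz, hyz⟩ := Finset.two_lt_card_iff.1 hlt
  simp only [Finset.mem_sdiff, Finset.mem_univ, true_and, Finset.mem_insert, Finset.mem_singleton,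
    not_or] at hx hy hz
  have ex := hcon x hx.1 fun h => hx.2 (eq_neg_of_add_eq_zero_left h)
  have ey := hcon y hy.1 fun h => hy.2 (eq_neg_of_add_eq_zero_left h)
  have ez := hcon z hz.1 fun h => hz.2 (eq_neg_of_add_eq_zero_left h)
  have e1 : (x - y) * (x + y + 1) = 0 := by linear_combination ex - ey
  have e2 : (x - z) * (x + z + 1) = 0 := by linear_combination ex - ez
  have e1' := (mul_eq_zero.1 e1).resolve_left (sub_ne_zero.2 hxy)
  have e2' := (mul_eq_zero.1 e2).resolve_left (sub_ne_zero.2 hxz)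
  exact hyz (by linear_combination e1' - e2')

include P0 in
/-- scalings of one basis line fixing another one -/
theorem exists_off (hF : Fintype.card F = q ^ 2) (h3 : 3 ≤ m) (i j : Fin m) (hij : i ≠ j) :
    ∃ (L : ↥(Cfsg.SU (2 + m) F q)) (a s : F), (pairB P0 m).Diag L a ∧ s ≠ 1 ∧
      C.bar a • (L.1.1 *ᵥ bv i) = s • bv i ∧ C.bar a • (L.1.1 *ᵥ bv j) = bv j := by
  classical
  have hq := CfsgLib.Classical.two_le_q hF
  obtain ⟨k, hk⟩ : ∃ k, k ∉ ({i, j} : Finset (Fin m)) := by
    by_contra hcon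
    push Not at hcon
    have h5 := Finset.card_le_card (fun x _ => hcon x : (Finset.univ : Finset (Fin m)) ⊆ {i, j})
    rw [Finset.card_univ, Fintype.card_fin, Finset.card_pair hij] at h5
    omega
  simp only [Finset.mem_insert, Finset.mem_singleton, not_or] at hk
  obtain ⟨ν, hν, hord⟩ := exists_unit_gen (C := C) hF
  let d : Fin m → F := fun x => if x = i then ν else if x = k then C.bar ν else 1
  obtain ⟨L, hL, hLx⟩ := exists_dg P0 (one_ne_zero (α := F)) d (fun x => by
      simp only [d]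
      split
      · exact hν
      · split
        · rw [C.bar_bar, mul_comm]; exact hν
        · rw [map_one, one_mul]) (by
      rw [map_one, div_one, ← Finset.prod_subset (Finset.subset_univ {i, k}) (fun x _ hx => by
        simp only [Finset.mem_insert, Finset.mem_singleton, not_or] at hx
        simp [d, hx.1, hx.2]), Finset.prod_pair (Ne.symm hk.1)]
      simp [d, hk.1, hν])
  refine ⟨L, 1, ν, hL, fun h => ?_, ?_, ?_⟩
  · have := Nat.le_of_dvd one_pos (hord 1 (by rw [pow_one]; exact h))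
    omega
  · rw [dg_bv hLx]; simp [d]
  · rw [dg_bv hLx, map_one, one_mul]
    simp [d, Ne.symm hij, Ne.symm hk.2]

include P0 in
/-- flatness of the radical for `q` at least three -/
theorem flat_radical_large (hF : Fintype.card F = q ^ 2) (hok : ParOk q m)
    {Γ : Type u} [Group Γ] [Finite Γ] {τ : Γ →* ↥(Cfsg.SU (2 + m) F q)}
    (hs : Function.Surjective τ) (hc : τ.ker ≤ Subgroup.center Γ) : Flat τ (pairB P0 m).eichGroup := by
  classical
  have hq := hok.1
  have hcase := hok.2
  have hm : 1 ≤ m := by rcases hcase with h | ⟨h, -⟩ | ⟨h, -⟩ <;> omega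
  have h1 := exists_one_perp P0 hm
  have hcent := exists_cent P0 hF hq hm
  obtain ⟨L, a, s, hL, hsc, ha, -⟩ := exists_scal P0 hF hok
  obtain ⟨K, hK, hKi, hKs, hKc⟩ := exists_complement _ hs hc h1 hcent hL hsc ha
  refine flat_radical _ hs hc h1 hcent K hK hKi hKs hKc bv (bv_mem P0) (fun w hw => ⟨_, perp_span P0 hw⟩) ?_ ?_
  · intro i j hij
    by_cases h3 : 3 ≤ m
    · exact exists_off P0 hF h3 i j hij
    · have hm2 : m = 2 := by
        have := i.2
        have := j.2
        have : (i : ℕ) ≠ j := fun h => hij (Fin.ext h)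
        omega
      have hq4 : 4 ≤ q := by rcases hcase with h | ⟨-, h⟩ | ⟨h, -⟩ <;> omega
      obtain ⟨y, hy, hord⟩ := exists_unit_gen (C := C) hF
      have hy0 : y ≠ 0 := left_ne_zero_of_mul (hy.trans_ne one_ne_zero)
      have hby : C.bar y ≠ 0 := right_ne_zero_of_mul (hy.trans_ne one_ne_zero)
      have hb : C.bar y = y⁻¹ := eq_inv_of_mul_eq_one_right hy
      let d : Fin m → F := fun x => if x = i then (y ^ 3)⁻¹ else y
      obtain ⟨L, hL, hLx⟩ := exists_dg P0 hy0 d (fun x => by
          simp only [d]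
          split
          · rw [map_inv₀, map_pow, hb, inv_pow, inv_inv, inv_mul_cancel₀ (pow_ne_zero _ hy0)]
          · exact hy) (by
          have hu : (Finset.univ : Finset (Fin m)) = {i, j} := (Finset.eq_univ_of_card _ (by
            rw [Finset.card_pair hij, Fintype.card_fin, hm2])).symm
          rw [hu, Finset.prod_pair hij, hb]
          simp [d, Ne.symm hij]
          field_simp)
      refine ⟨L, y, (y ^ 4)⁻¹, hL, fun h => ?_, ?_, ?_⟩
      · have := Nat.le_of_dvd (by norm_num) (hord 4 (inv_eq_one.1 h))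
        omega
      · rw [dg_bv hLx, hb]
        simp only [d, if_pos]
        congr 1
        field_simp
      · rw [dg_bv hLx, hb]
        simp [d, Ne.symm hij, inv_mul_cancel₀ hy0]
  · intro i α β
    -- scalings of one line
    by_cases hm1 : m = 1
    · subst hm1
      obtain ⟨S, hS, hSl⟩ : ∃ S : F → Prop, (∀ c, S c → ∃ L a, (pairB P0 1).Diag L a ∧ C.bar a • (L.1.1 *ᵥ bv i) = c • bv i) ∧
          ∃ l, l ≠ 0 ∧ l + 1 ≠ 0 ∧ l * l + l + 1 ≠ 0 ∧ S l ∧ S (l + 1) := by
        have mk : ∀ y : F, y ≠ 0 → ∃ L a, (pairB P0 1).Diag L a ∧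
            C.bar a • (L.1.1 *ᵥ bv i) = (C.bar y * (C.bar y / y)) • bv i := fun y hy0 => by
          have hby : C.bar y ≠ 0 := by simpa using hy0
          obtain ⟨L, hL, hLx⟩ := exists_dg P0 hy0 (fun _ : Fin 1 => C.bar y / y)
            (fun _ => by rw [map_div₀, C.bar_bar]; field_simp) (by simp)
          exact ⟨L, y, hL, dg_bv hLx y i⟩
        by_cases h5 : 5 ≤ q
        · refine ⟨fun c => C.bar c = c ∧ c ≠ 0, fun c hc => ?_, ?_⟩
          · obtain ⟨L, a, hL, e⟩ := mk c hc.2
            exact ⟨L, a, hL, by rwa [hc.1, div_self hc.2, mul_one] at e⟩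
          · have hcard : (Finset.univ.filter fun x : F => x * x + x + 1 = 0).card ≤ 2 := by
              by_contra hlt
              push Not at hlt
              obtain ⟨x, y, z, hx, hy, hz, hxy, hxz, hyz⟩ := Finset.two_lt_card_iff.1 hlt
              simp only [Finset.mem_filter, Finset.mem_univ, true_and] at hx hy hz
              have e1 : (x - y) * (x + y + 1) = 0 := by linear_combination hx - hy
              have e2 : (x - z) * (x + z + 1) = 0 := by linear_combination hx - hz
              have e1' := (mul_eq_zero.1 e1).resolve_left (sub_ne_zero.2 hxy)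
              have e2' := (mul_eq_zero.1 e2).resolve_left (sub_ne_zero.2 hxz)
              exact hyz (by linear_combination e1' - e2')
            obtain ⟨l, hl, hlS⟩ := exists_fixed_avoid (C := C) hF
              ({0, -1} ∪ Finset.univ.filter fun x : F => x * x + x + 1 = 0)
              (lt_of_le_of_lt (Finset.card_union_le _ _) (by
                have := Finset.card_le_two (a := (0 : F)) (b := -1)
                omega))
            simp only [Finset.mem_union, Finset.mem_insert, Finset.mem_singleton, Finset.mem_filter,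
              Finset.mem_univ, true_and, not_or] at hlS
            have hl1 : l + 1 ≠ 0 := fun h => hlS.1.2 (eq_neg_of_add_eq_zero_left h)
            exact ⟨l, hlS.1.1, hl1, hlS.2, ⟨hl, hlS.1.1⟩, by rw [map_add, map_one, hl], hl1⟩
        · refine ⟨fun c => c ≠ 0, fun c hc0 => ?_, ?_⟩
          · have hcard := FiniteField.pow_card_sub_one_eq_one c hc0
            rw [hF] at hcard
            rcases (show q = 3 ∨ q = 4 by omega) with h | h
            · subst h
              norm_num at hcard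
              obtain ⟨L, a, hL, e⟩ := mk (c ^ 5) (pow_ne_zero _ hc0)
              refine ⟨L, a, hL, e.trans ?_⟩
              congr 1
              rw [C.bar_eq, div_eq_mul_inv, inv_eq_of_mul_eq_one_right (b := c ^ 3)
                (by rw [← pow_add]; exact hcard), ← pow_mul, ← pow_add, ← pow_add,
                show 5 * 3 + (5 * 3 + 3) = 8 * 4 + 1 by rfl, pow_add, pow_mul, hcard, one_pow, one_mul, pow_one]
            · subst h
              norm_num at hcard
              obtain ⟨L, a, hL, e⟩ := mk (c ^ 13) (pow_ne_zero _ hc0)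
              refine ⟨L, a, hL, e.trans ?_⟩
              congr 1
              rw [C.bar_eq, div_eq_mul_inv, inv_eq_of_mul_eq_one_right (b := c ^ 2)
                (by rw [← pow_add]; exact hcard), ← pow_mul, ← pow_add, ← pow_add,
                show 13 * 4 + (13 * 4 + 2) = 15 * 7 + 1 by rfl, pow_add, pow_mul, hcard, one_pow, one_mul, pow_one]
          · obtain ⟨l, h0, h2, h3⟩ := exists_lambda hF hq
            exact ⟨l, h0, h2, h3, h0, h2⟩
      obtain ⟨l, h0, h2, h3, hl, hl1⟩ := hSl
      exact cp_scale _ hs hc h1 hcent K hK hKi hKs hKc (bv_mem P0 i) h0 h2 h3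
        (fun c hc => hS c (by rcases hc with rfl | rfl <;> assumption)) α β
    · have hm2 : 2 ≤ m := by omega
      obtain ⟨k, hk⟩ : ∃ k, k ≠ i := by
        haveI : Nontrivial (Fin m) := Fin.nontrivial_iff_two_le.2 hm2
        exact exists_ne i
      obtain ⟨l, h0, h2, h3⟩ := exists_lambda hF hq
      refine cp_scale _ hs hc h1 hcent K hK hKi hKs hKc (bv_mem P0 i) h0 h2 h3 (fun c hcl => ?_) α β
      have hc0 : c ≠ 0 := by rcases hcl with rfl | rfl <;> assumption
      have hbc : C.bar c ≠ 0 := by simpa using hc0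
      obtain ⟨L, hL, hLx⟩ := exists_dg P0 hbc (fun x => if x = k then c / C.bar c else 1) (fun x => by
          split
          · rw [map_div₀, C.bar_bar]; field_simp
          · rw [map_one, one_mul]) (by rw [Finset.prod_ite_eq' Finset.univ k, if_pos (Finset.mem_univ k), C.bar_bar])
      refine ⟨L, C.bar c, hL, ?_⟩
      rw [dg_bv hLx, C.bar_bar, if_neg (Ne.symm hk), mul_one]

end CfsgLib.Lie.Mult.Unit
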