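import Cfsg.Agent.Lib.Lie.Mult.Unit.PPart

/-!
# The two-part of the multiplier of the seven-dimensional group over two
-/

set_option autoImplicit false
set_option linter.all false

namespace CfsgLib.Lie.Mult.Unit

open Matrix CfsgLib.SU CfsgLib.Classical.HermStab
open scoped commutatorElement

universe u

variable {F : Type u} [Field F] [Fintype F] {C : UCtx F 2}

theorem fixed_of_diag_one {q m : ℕ} {C : UCtx F q} (P0 : UPair C 2) {L : ↥(Cfsg.SU (2 + m) F q)}
    (hL : (pairB P0 m).Diag L 1) : L ∈ (kB (C := C) 2 m).range := by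
  refine mem_range_kB.2 fun x => ?_
  have e := (pairB P0 m).decomp (Fin.append x (0 : Fin m → F))
  have hp : (pairB P0 m).proj (Fin.append x (0 : Fin m → F)) = 0 := by
    rw [eq_app P0 ((pairB P0 m).proj_mem _)]
    have : rc ((pairB P0 m).proj (Fin.append x (0 : Fin m → F))) = 0 := by
      funext i
      simp [UPair.proj, pairB, rc]
    rw [this]
    funext l
    induction l using Fin.addCases <;> simp
  rw [hp, add_zero] at e
  rw [e, Matrix.mulVec_add, Matrix.mulVec_smul, Matrix.mulVec_smul, hL.1, hL.2, map_one, inv_one, one_smul,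
    one_smul]

theorem two_zero (hF : Fintype.card F = 2 ^ 2) : (2 : F) = 0 := by
  have h := Nat.cast_card_eq_zero F
  rw [hF, Nat.cast_pow] at h
  exact pow_eq_zero_iff two_ne_zero |>.1 h

/-- a vector on the last two coordinates -/
def rv (y : Fin 2 → F) : Fin (2 + 5) → F := (Fin.append (0 : Fin 5 → F) y : Fin (5 + 2) → F)

theorem norm_one_four (C : UCtx F 2) (hF : Fintype.card F = 2 ^ 2) {a : F} (ha : a ≠ 0) : a * C.bar a = 1 := by
  have h := FiniteField.pow_card_sub_one_eq_one a ha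
  rw [hF, show 2 ^ 2 - 1 = 3 from rfl] at h
  rw [C.bar_eq]
  linear_combination h

theorem exists_scal_two (P0 : UPair C 2) (hF : Fintype.card F = 2 ^ 2) {a : F} (ha : a ≠ 0) :
    ∃ L : ↥(Cfsg.SU (2 + 5) F 2), (pairB P0 5).Diag L a ∧
      (∀ x : Fin 5 → F, L.1.1 *ᵥ Fin.append (0 : Fin 2 → F) x = Fin.append (0 : Fin 2 → F) (fun i => a ^ 2 * x i)) ∧
      ∀ w ∈ (pairB P0 5).perp, C.bar a • (L.1.1 *ᵥ w) = (C.bar a * a ^ 2) • w := by
  have h := norm_one_four C hF ha
  have h3 : a ^ 3 = 1 := by rw [C.bar_eq] at h; linear_combination h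
  obtain ⟨L, hL, hLx⟩ := exists_dg P0 ha (fun _ : Fin 5 => a ^ 2) (fun _ => by
      rw [map_pow]; linear_combination (a * C.bar a + 1) * h) (by
      rw [Finset.prod_const, Finset.card_univ, Fintype.card_fin, C.bar_eq]
      field_simp
      linear_combination (a ^ 6 + a ^ 3 + 1) * h3)
  exact ⟨L, hL, hLx, dg_perp P0 (fun _ => rfl) hLx a⟩

theorem eich_fix {n : ℕ} {q : ℕ} {C : UCtx F q} (P : UPair C n) {v : Fin n → F} (hv : v ∈ P.perp)
    {w : Fin n → F} (hw : w ∈ P.perp) {t : F} (ht : t + C.bar t + C.form w w = 0) (h : C.form v w = 0) :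
    (P.eich w hw t ht).1.1 *ᵥ v = v := by
  rw [P.eich_perp _ _ _ _ hv, h, zero_smul, sub_zero]

theorem form_supp {q n : ℕ} {C : UCtx F q} {v w : Fin n → F} (h : ∀ l, v l = 0 ∨ w l = 0) : C.form v w = 0 :=
  Finset.sum_eq_zero fun l _ => by rcases h l with e | e <;> simp [e]

include C in
/-- the two-part in dimension seven from dimension five -/
theorem nop_two_seven (hF : Fintype.card F = 2 ^ 2) (h5 : NoP 2 ↥(Cfsg.SU 5 F 2)) : NoP 2 ↥(Cfsg.SU 7 F 2) := by
  classical
  obtain ⟨P0⟩ := C.exists_pair (n := 2) le_rfl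
  have hperf : commutator ↥(Cfsg.SU 5 F 2) = ⊤ := CfsgLib.Classical.WeilSU.su_perfect hF (by norm_num) (by omega)
  refine nop_of_flat (G := ↥(Cfsg.SU (2 + 5) F 2)) fun Γ _ _ τ hτ hcard => ?_
  have hs := hτ.1
  have hc := hτ.2.1
  let A0 : Subgroup ↥(Cfsg.SU (2 + 5) F 2) := (kA (C := C) 5 2).range
  let B0 : Subgroup ↥(Cfsg.SU (2 + 5) F 2) := (kB (C := C) 2 5).range
  have hA0 : Flat τ A0 := flat_range (kA_injective 5 2) hperf h5 hs hc hcard
  have hA0p : A0 ≤ ⁅A0, A0⁆ := range_perfect (kA (C := C) 5 2) hperf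
  have hB0 : Flat τ B0 := flat_range (kB_injective 2 5) hperf h5 hs hc hcard
  have hB0p : B0 ≤ ⁅B0, B0⁆ := range_perfect _ hperf
  -- vectors supported on the last two coordinates
  have hsupp : ∀ (y : Fin 2 → F) (l : Fin (2 + 5)), (l : ℕ) < 5 →
      rv y l = 0 := fun y l hl => by
    have : l = (Fin.castAdd 2 (⟨l, hl⟩ : Fin 5) : Fin (5 + 2)) := Fin.ext rfl
    rw [this]
    exact Fin.append_left (0 : Fin 5 → F) y ⟨l, hl⟩
  have hperp : ∀ y : Fin 2 → F, rv y ∈ (pairB P0 5).perp := fun y =>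
    (mem_perp_iff P0).2 (funext fun i => hsupp y _ (by
      show (i : ℕ) < 5
      omega))
  have hc0 : cgrp (pairB P0 5) ≤ A0 := by
    rintro _ ⟨t, ht, rfl⟩
    exact mem_range_kA.2 fun y => eich_fix _ (hperp y) _ ht (C.form_zero_right _)
  have hcB : ∀ X ∈ cgrp (pairB P0 5), ∀ B ∈ B0, Commute X B := by
    rintro _ ⟨t, ht, rfl⟩ _ ⟨A, rfl⟩
    obtain ⟨ht', e⟩ := (kB_diag P0 A).conj_eich (pairB P0 5).perp.zero_mem ht
    have e2 : kB (C := C) 2 5 A * (pairB P0 5).eich 0 (pairB P0 5).perp.zero_mem t ht * (kB (C := C) 2 5 A)⁻¹ =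
        (pairB P0 5).eich 0 (pairB P0 5).perp.zero_mem t ht :=
      e.trans ((pairB P0 5).eich_congr (by rw [Matrix.mulVec_zero, smul_zero]) (by rw [map_one, one_mul, one_mul]))
    exact (mul_inv_eq_iff_eq_mul.1 e2).symm
  -- lifts of the right coordinates commute with lifts of the root group
  have hdB : ∀ {u d : Γ}, τ u ∈ cgrp (pairB P0 5) → d ∈ D τ B0 → Commute u d := fun hu hd =>
    commute_D hc (fun x hx => hcB _ hu x hx) hd
  obtain ⟨y, hy, hord⟩ := exists_unit_gen (C := C) hF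
  have hy0 : y ≠ 0 := left_ne_zero_of_mul (hy.trans_ne one_ne_zero)
  obtain ⟨L, hL, -, hLs⟩ := exists_scal_two P0 hF hy0
  have hs1 : C.bar y * y ^ 2 ≠ 1 := fun h => by
    have h1 : y ^ 1 = 1 := by linear_combination h - y * hy
    have := Nat.le_of_dvd one_pos (hord 1 h1)
    omega
  have h1 := exists_one_perp P0 (show 1 ≤ 5 by norm_num)
  have hcent : ∃ L a, (pairB P0 5).Diag L a ∧ a * C.bar a = 1 ∧
      ∀ w ∈ (pairB P0 5).perp, C.bar a • (L.1.1 *ᵥ w) = w → w = 0 :=
    ⟨L, y, hL, hy, fun w hw he => by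
      rw [hLs w hw] at he
      have h2 : (C.bar y * y ^ 2 - 1) • w = 0 := by rw [sub_smul, one_smul, he, sub_self]
      exact (smul_eq_zero.1 h2).resolve_left (sub_ne_zero.2 hs1)⟩
  let K : Subgroup Γ := (cgrp (pairB P0 5)).comap τ ⊓ D τ A0
  have hK : ∀ x ∈ K, τ x ∈ cgrp (pairB P0 5) := fun x hx => hx.1
  have hKi : ∀ x ∈ K, τ x = 1 → x = 1 := fun x hx h => hA0 x hx.2 h
  have hKs : ∀ X ∈ cgrp (pairB P0 5), ∃ x ∈ K, τ x = X := fun X hX => by
    obtain ⟨d, hd, e⟩ := exists_D hs hA0p (hc0 hX)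
    exact ⟨d, Subgroup.mem_inf.2 ⟨show τ d ∈ _ from e ▸ hX, hd⟩, e⟩
  have hKc : ∀ L a, (pairB P0 5).Diag L a → ∀ γ, τ γ = L → ∀ x ∈ K, γ * x * γ⁻¹ ∈ K := by
    intro L' a hL' γ hγ x hx
    obtain ⟨Ls, hLs', hLsx, hLss⟩ := exists_scal_two P0 hF hL'.ne_zero
    obtain ⟨l, rfl⟩ := hs Ls
    have hB : τ (l⁻¹ * γ) ∈ B0 := by
      refine fixed_of_diag_one P0 ?_
      rw [map_mul, map_inv, hγ]
      have ha := hL'.ne_zero
      constructor
      · rw [suMat_mulVec_mul, hL'.1, Matrix.mulVec_smul, one_smul]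
        have := su_inv_mulVec (τ l) (pairB P0 5).e
        rw [hLs'.1, Matrix.mulVec_smul] at this
        exact this
      · rw [suMat_mulVec_mul, hL'.2, Matrix.mulVec_smul, map_one, inv_one, one_smul]
        have := su_inv_mulVec (τ l) (pairB P0 5).f
        rw [hLs'.2, Matrix.mulVec_smul] at this
        exact this
    obtain ⟨d, hd, hde⟩ := exists_D hs hB0p hB
    have hz : τ (d⁻¹ * (l⁻¹ * γ)) = 1 := by rw [map_mul, map_inv, hde, inv_mul_cancel]
    have hcomm : (l⁻¹ * γ) * x * (l⁻¹ * γ)⁻¹ = x := by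
      have c1 : Commute x (l⁻¹ * γ) := by
        rw [← mul_inv_cancel_left d (l⁻¹ * γ)]
        exact Commute.mul_right (hdB hx.1 hd) (ker_comm hc hz x)
      rw [← c1.eq, mul_inv_cancel_right]
    rw [show γ * x * γ⁻¹ = l * ((l⁻¹ * γ) * x * (l⁻¹ * γ)⁻¹) * l⁻¹ by group, hcomm]
    refine Subgroup.mem_inf.2 ⟨?_, D_conj ?_ hx.2⟩
    · show τ (l * x * l⁻¹) ∈ cgrp (pairB P0 5)
      rw [map_mul, map_mul, map_inv]
      exact Diag.conj_cgrp _ hLs' hx.1
    · intro X hX
      refine mem_range_kA.2 fun z => ?_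
      have hw := hperp z
      show (τ l * X * (τ l)⁻¹).1.1 *ᵥ rv z = _
      have ha : C.bar a ≠ 0 := by simpa using hL'.ne_zero
      have e : (τ l).1.1 *ᵥ rv z =
          a ^ 2 • rv z := by
        have e0 := hLss _ hw
        rw [mul_smul] at e0
        exact smul_right_injective _ ha e0
      have e2 : ((τ l)⁻¹).1.1 *ᵥ rv z =
          (a ^ 2)⁻¹ • rv z := by
        have := su_inv_mulVec (τ l) (rv z)
        rw [e, Matrix.mulVec_smul] at this
        exact (eq_inv_smul_iff₀ (pow_ne_zero 2 hL'.ne_zero)).2 this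
      have e3 : X.1.1 *ᵥ rv z = rv z :=
        mem_range_kA.1 hX z
      rw [suMat_mulVec_mul, suMat_mulVec_mul, e2, Matrix.mulVec_smul, e3, Matrix.mulVec_smul, e, smul_smul,
        inv_mul_cancel₀ (pow_ne_zero 2 hL'.ne_zero), one_smul]
      rfl
  have hQ : Flat τ (pairB P0 5).eichGroup := by
    refine flat_radical _ hs hc h1 hcent K hK hKi hKs hKc bv (bv_mem P0) (fun w hw => ⟨_, perp_span P0 hw⟩)
      (exists_off P0 hF (by norm_num)) ?_
    intro i α β
    refine ⟨map_one τ, fun x y hx hy => ?_⟩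
    rw [mul_one]
    -- the permutation of two coordinates
    let σ : Equiv.Perm (Fin 5) := Equiv.swap i 0
    have hσd : (σ.permMatrix F).det = 1 := by
      rw [Matrix.det_permutation]
      rcases Int.units_eq_one_or (Equiv.Perm.sign σ) with h | h
      · simp [h]
      · simp only [h, Units.val_neg, Units.val_one, Int.cast_neg, Int.cast_one]
        linear_combination -two_zero hF
    let A : ↥(Cfsg.SU 5 F 2) := C.mkSU (σ.permMatrix F) hσd fun u v => by
      rw [Matrix.permMatrix_mulVec, Matrix.permMatrix_mulVec]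
      exact Equiv.sum_comp σ (fun l => u l * C.bar (v l))
    obtain ⟨d, hd, hde⟩ := exists_D hs hB0p (g := kB (C := C) 2 5 A) ⟨A, rfl⟩
    have hDg : (pairB P0 5).Diag (τ d) 1 := hde ▸ kB_diag P0 A
    have hAi : A.1.1 *ᵥ Pi.single i (1 : F) = Pi.single 0 1 := by
      show σ.permMatrix F *ᵥ _ = _
      rw [Matrix.permMatrix_mulVec]
      funext l
      simp only [Function.comp_apply, Pi.single_apply, σ]
      congr 1
      exact propext ⟨fun h => by simpa using congrArg (Equiv.swap i 0) h, fun h => by rw [h]; simp⟩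
    have hmove : ∀ (c : F) (x : Γ), Over (pairB P0 5) τ ⟨c • bv i, (pairB P0 5).perp.smul_mem c (bv_mem P0 i)⟩ x →
        τ (d * x * d⁻¹) ∈ A0 := by
      intro c x hx
      obtain ⟨t, ht, e⟩ := hx
      obtain ⟨ht', e'⟩ := hDg.conj_eich ((pairB P0 5).perp.smul_mem c (bv_mem P0 i)) ht
      rw [map_mul, map_mul, map_inv, e, e']
      refine mem_range_kA.2 fun z => eich_fix _ (hperp z) _ ht' ?_
      rw [map_one, one_smul, hde, Matrix.mulVec_smul, bv, kB_app, hAi, C.form_smul_right]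
      refine mul_eq_zero_of_right _ (form_supp fun l => ?_)
      by_cases hl : (l : ℕ) < 5
      · exact Or.inl (hsupp z l hl)
      · right
        induction l using Fin.addCases with
        | left l => simp
        | right l =>
          rw [Fin.append_right, Pi.single_apply, if_neg]
          intro h0
          subst h0
          simp at hl
    have hxy : τ ⁅x, y⁆ ∈ cgrp (pairB P0 5) := comm_mem_cgrp _ hx.mem hy.mem
    refine Subgroup.mem_inf.2 ⟨hxy, ?_⟩
    have e : ⁅d * x * d⁻¹, d * y * d⁻¹⁆ = ⁅x, y⁆ := by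
      rw [show ⁅d * x * d⁻¹, d * y * d⁻¹⁆ = d * ⁅x, y⁆ * d⁻¹ by simp only [commutatorElement_def]; group,
        ← (hdB hxy hd).eq, mul_inv_cancel_right]
    rw [← e]
    exact Subgroup.commutator_mem_commutator (hmove α x hx) (hmove β y hy)
  exact ⟨_, index_par P0 (dvd_refl 2) hF (by norm_num) (fun k hk x hx => kB_norm P0 k hk x hx),
    flat_par P0 (by norm_num) hs hc hQ hL hLs hs1 hB0 hperf⟩

end CfsgLib.Lie.Mult.Unit
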