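import Cfsg.Agent.Lib.Lie.Mult.Unit.Geo
import Cfsg.Agent.Lib.Lie.Mult.Unit.Four
import Cfsg.Agent.Lib.Lie.Mult.Unit.ParTwo
import Cfsg.Agent.Lib.SU.CenterCard
import Cfsg.Agent.Lib.Classical.ExcIsoFourTwo
import Cfsg.Agent.Lib.Lie.SpUniv.Main
import Cfsg.Agent.S2090
import Cfsg.Agent.S2091

/-!
# The small base cases
-/

set_option autoImplicit false
set_option linter.all false

namespace CfsgLib.Lie.Mult.Unit

open Matrix CfsgLib.SU CfsgLib.Classical.HermStab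

universe u

variable {F : Type u} [Field F] [Fintype F] {q : ℕ} {C : UCtx F q}

/-- a perfect central extension of a group with known multiplier -/
theorem nop_cover {S : Type u} [Group S] [Finite S] (hS : commutator S = ⊤) {A : Type} [CommGroup A] [Finite A]
    (h : Cfsg.HasSchurMultiplier (S ⧸ Subgroup.center S) A) {ℓ : ℕ}
    (hA : ¬ ℓ * Nat.card (Subgroup.center S) ∣ Nat.card A) : NoP ℓ S := by
  intro Γ _ _ ρ hρ hd
  obtain ⟨hst, hcard⟩ := Orth.stem_comp ρ hρ.1 hρ.2.1 (perfect_of_stem hρ hS)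
    (QuotientGroup.mk' (Subgroup.center S)) (QuotientGroup.mk'_surjective _) (by rw [QuotientGroup.ker_mk'])
  obtain ⟨π, hπ⟩ := h.2 Γ _ hst
  refine hA ((Nat.mul_dvd_mul_right hd _).trans ?_)
  have := Subgroup.card_dvd_of_surjective π hπ
  rwa [hcard, QuotientGroup.ker_mk'] at this

theorem card_center_zero {S : Type u} [Group S] [Finite S] : 0 < Nat.card (Subgroup.center S) := Nat.card_pos

include C in
theorem nop_four_two (hF : Fintype.card F = 2 ^ 2) (hq : q = 2) {ℓ : ℕ} [hℓ : Fact ℓ.Prime] (h2 : ℓ ≠ 2) :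
    NoP ℓ ↥(Cfsg.SU 4 F q) := by
  subst hq
  have hK : Fintype.card (ULift.{u} (ZMod 3)) = 3 := by simp
  obtain ⟨e⟩ := CfsgLib.Classical.ExcIsoFourTwo.psu_four_two (F := F) (K := ULift.{u} (ZMod 3)) (by rw [hF]; norm_num) hK
  have hm := CfsgLib.Lie.SpUniv.psp_multiplier (F := ULift.{u} (ZMod 3)) (m := 2) le_rfl
    (fun _ => by rw [hK]) (by omega)
  rw [hK, show Nat.gcd 2 (3 - 1) = 2 from rfl] at hm
  have hperf : commutator ↥(Cfsg.SU 4 F 2) = ⊤ :=
    CfsgLib.Classical.WeilSU.su_perfect hF (by norm_num) (by norm_num)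
  intro Γ _ _ ρ hρ hd
  obtain ⟨hst, hcard⟩ := Orth.stem_comp ρ hρ.1 hρ.2.1 (perfect_of_stem hρ hperf)
    (QuotientGroup.mk' (Subgroup.center ↥(Cfsg.SU 4 F 2))) (QuotientGroup.mk'_surjective _)
    (by rw [QuotientGroup.ker_mk'])
  have hno : NoP ℓ (Cfsg.PSU 4 F 2) := by
    refine NoP.congr e.symm (NoP.of_multiplier hm ?_)
    rw [Nat.card_congr Multiplicative.toAdd, Nat.card_zmod]
    intro h
    exact h2 ((Nat.prime_dvd_prime_iff_eq hℓ.out Nat.prime_two).1 h)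
  exact hno Γ _ hst (hcard ▸ hd.mul_right _)

include C in
theorem nop_four_three (hF : Fintype.card F = 3 ^ 2) (hq : q = 3) {ℓ : ℕ} [hℓ : Fact ℓ.Prime] (h3 : ℓ ≠ 3) :
    NoP ℓ ↥(Cfsg.SU 4 F q) := by
  subst hq
  refine nop_cover (CfsgLib.Classical.WeilSU.su_perfect hF (by norm_num) (by norm_num))
    (Cfsg.Agent.S2090.result (F := F) (by rw [hF]; norm_num)) ?_
  rw [C.card_center_su hF (by norm_num), Nat.card_congr Multiplicative.toAdd, Nat.card_prod, Nat.card_prod,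
    Nat.card_zmod, Nat.card_zmod]
  intro h
  have h' : ℓ * 4 ∣ 9 * 4 := h
  have h9 : ℓ ∣ 3 ^ 2 := Nat.dvd_of_mul_dvd_mul_right (show 0 < 4 by norm_num) h'
  exact h3 ((Nat.prime_dvd_prime_iff_eq hℓ.out Nat.prime_three).1 (hℓ.out.dvd_of_dvd_pow h9))

include C in
theorem nop_six_two (hF : Fintype.card F = 2 ^ 2) (hq : q = 2) {ℓ : ℕ} [hℓ : Fact ℓ.Prime] (h2 : ℓ ≠ 2) :
    NoP ℓ ↥(Cfsg.SU 6 F q) := by
  subst hq
  refine nop_cover (CfsgLib.Classical.WeilSU.su_perfect hF (by norm_num) (by norm_num))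
    (Cfsg.Agent.S2091.result (F := F) (by rw [hF]; norm_num)) ?_
  rw [C.card_center_su hF (by norm_num), Nat.card_congr Multiplicative.toAdd, Nat.card_prod, Nat.card_prod,
    Nat.card_zmod, Nat.card_zmod]
  intro h
  have h' : ℓ * 3 ∣ 4 * 3 := h
  have h4 : ℓ ∣ 2 ^ 2 := Nat.dvd_of_mul_dvd_mul_right (show 0 < 3 by norm_num) h'
  exact h2 ((Nat.prime_dvd_prime_iff_eq hℓ.out Nat.prime_two).1 (hℓ.out.dvd_of_dvd_pow h4))

include C in
theorem card_su_five (hF : Fintype.card F = q ^ 2) :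
    Nat.card (Cfsg.SU 5 F q) = q ^ 10 * ((q ^ 2 - 1) * (q ^ 3 + 1) * (q ^ 4 - 1) * (q ^ 5 + 1)) := by
  have h := CfsgLib.Classical.card_su_mul C hF (n := 5) (by norm_num)
  rw [CfsgLib.Classical.card_gu_formula C hF] at h
  simp only [Finset.prod_range_succ, Finset.prod_range_zero] at h
  norm_num [Nat.even_iff] at h
  refine Nat.eq_of_mul_eq_mul_left (show 0 < q + 1 by omega) (h.trans ?_)
  ring

include C in
theorem nop_five_two_odd (hF : Fintype.card F = 2 ^ 2) (hq : q = 2) {ℓ : ℕ} [hℓ : Fact ℓ.Prime] (h2 : ℓ ≠ 2) :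
    NoP ℓ ↥(Cfsg.SU 5 F q) := by
  subst hq
  by_cases h11 : ℓ = 11
  · subst h11
    refine nop_of_once ?_
    rw [card_su_five (C := C) hF]
    norm_num
  · refine nop_levi (C := C) (m := 4) hF (by norm_num)
      (CfsgLib.Classical.WeilSU.su_perfect hF (by norm_num) (by norm_num)) (nop_four_two (C := C) hF rfl h2) ?_
    intro i hi hd
    norm_num [Nat.even_iff] at hi
    have e : i = 2 ^ 4 * 11 := by omega
    rw [e] at hd
    rcases hℓ.out.dvd_mul.1 hd with h | h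
    · exact h2 ((Nat.prime_dvd_prime_iff_eq hℓ.out Nat.prime_two).1 (hℓ.out.dvd_of_dvd_pow h))
    · exact h11 ((Nat.prime_dvd_prime_iff_eq hℓ.out (by norm_num)).1 h)

include C in
theorem nop_five_three (hF : Fintype.card F = 3 ^ 2) (hq : q = 3) {ℓ : ℕ} [hℓ : Fact ℓ.Prime] :
    NoP ℓ ↥(Cfsg.SU 5 F q) := by
  by_cases h3 : ℓ = 3
  · subst h3
    exact nop_char_five_three (C := C) dvd_rfl hF hq
  subst hq
  by_cases h61 : ℓ = 61
  · subst h61
    refine nop_of_once ?_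
    rw [card_su_five (C := C) hF]
    norm_num
  · refine nop_levi (C := C) (m := 4) hF (by norm_num)
      (CfsgLib.Classical.WeilSU.su_perfect hF (by norm_num) (by norm_num)) (nop_four_three (C := C) hF rfl h3) ?_
    intro i hi hd
    norm_num [Nat.even_iff] at hi
    have e : i = 3 ^ 4 * 61 := by omega
    rw [e] at hd
    rcases hℓ.out.dvd_mul.1 hd with h | h
    · exact h3 ((Nat.prime_dvd_prime_iff_eq hℓ.out Nat.prime_three).1 (hℓ.out.dvd_of_dvd_pow h))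
    · exact h61 ((Nat.prime_dvd_prime_iff_eq hℓ.out (by norm_num)).1 h)

include C in
theorem nop_three_three_odd (hF : Fintype.card F = 3 ^ 2) (hq : q = 3) {ℓ : ℕ} [hℓ : Fact ℓ.Prime] (h2 : ℓ ≠ 2) :
    NoP ℓ ↥(Cfsg.SU 3 F q) := by
  by_cases h3 : ℓ = 3
  · subst h3
    exact nop_char_three (C := C) (by rw [hq]) (by rw [hF, hq]) (by omega)
  subst hq
  refine nop_of_once ?_
  rw [card_su_three (C := C) hF]
  intro hd
  have hd' : ℓ * ℓ ∣ 2 ^ 5 * (3 ^ 3 * 7) := by norm_num at hd ⊢; exact hd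
  have c2 : (ℓ * ℓ).Coprime (2 ^ 5) :=
    Nat.Coprime.pow_right _ (Nat.Coprime.mul ((Nat.coprime_primes hℓ.out Nat.prime_two).2 h2)
      ((Nat.coprime_primes hℓ.out Nat.prime_two).2 h2))
  have c3 : (ℓ * ℓ).Coprime (3 ^ 3) :=
    Nat.Coprime.pow_right _ (Nat.Coprime.mul ((Nat.coprime_primes hℓ.out Nat.prime_three).2 h3)
      ((Nat.coprime_primes hℓ.out Nat.prime_three).2 h3))
  have h7 := Nat.le_of_dvd (by norm_num) (c3.dvd_of_dvd_mul_left (c2.dvd_of_dvd_mul_left hd'))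
  have := hℓ.out.two_le
  have hlt : ℓ < 4 := by nlinarith
  interval_cases ℓ <;> omega

end CfsgLib.Lie.Mult.Unit
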