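import Cfsg.Agent.Lib.Lie.Mult.Unit.Room
import Cfsg.Agent.Lib.Lie.Mult.Unit.Blocks
import Cfsg.Agent.Lib.Lie.Mult.Unit.PPart

/-!
# The stabiliser of a unit vector and an orthogonal isotropic vector is perfect
-/

set_option autoImplicit false
set_option linter.all false

namespace CfsgLib.Lie.Mult.Unit

open Matrix CfsgLib.SU CfsgLib.Classical.HermStab
open scoped commutatorElement

universe u

variable {F : Type u} [Field F] [Fintype F] {q l : ℕ} {C : UCtx F q}

local notation "ext" => Fin.append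

variable (P0 : UPair C 2)

/-- the stabiliser of the standard unit vector and isotropic vector -/
def J0 (l : ℕ) : Subgroup ↥(Cfsg.SU (2 + (1 + l)) F q) :=
  fixG (bv (0 : Fin (1 + l))) ⊓ fixG (pairB P0 (1 + l)).e

theorem mem_J0 {X : ↥(Cfsg.SU (2 + (1 + l)) F q)} :
    X ∈ J0 P0 l ↔ X.1.1 *ᵥ bv (0 : Fin (1 + l)) = bv 0 ∧ X.1.1 *ᵥ (pairB P0 (1 + l)).e = (pairB P0 (1 + l)).e :=
  Iff.rfl

theorem eich_mem_J0 {w : Fin (2 + (1 + l)) → F} (hw : w ∈ (pairB P0 (1 + l)).perp)
    (hwu : C.form w (bv (0 : Fin (1 + l))) = 0) {t : F} (ht : t + C.bar t + C.form w w = 0) :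
    (pairB P0 (1 + l)).eich w hw t ht ∈ J0 P0 l := by
  refine (mem_J0 P0).2 ⟨?_, UPair.eich_e _ _ hw _ ht⟩
  rw [UPair.eich_perp _ _ hw _ ht (bv_mem P0 _), C.form_swap_zero hwu, zero_smul, sub_zero]

include P0 in
theorem J0_perfect (hF : Fintype.card F = q ^ 2) (hq : 2 ≤ q) (hl : 2 ≤ l)
    (hp : commutator ↥(Cfsg.SU l F q) = ⊤) : J0 P0 l ≤ ⁅J0 P0 l, J0 P0 l⁆ := by
  classical
  set P := pairB P0 (1 + l) with hP
  set S := ⁅J0 P0 l, J0 P0 l⁆ with hS
  -- the root group
  have hc : cgrp P ≤ S := by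
    rintro _ ⟨t, ht, rfl⟩
    let i : Fin (1 + l) := ⟨1, by omega⟩
    have hv : bv i ∈ P.perp := bv_mem P0 i
    have hvv : C.form (bv i) (bv i : Fin (2 + (1 + l)) → F) = 1 := by rw [form_bv, if_pos rfl]
    have hvu : C.form (bv i) (bv (0 : Fin (1 + l)) : Fin (2 + (1 + l)) → F) = 0 := by
      rw [form_bv, if_neg (by simp [i, Fin.ext_iff])]
    obtain ⟨w, hw⟩ := C.exists_trace (c := 1) (map_one _)
    have ht0 : C.bar t = -t := by
      rw [C.form_zero_left, add_zero] at ht
      exact eq_neg_of_add_eq_zero_right ht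
    obtain ⟨t1, ht1, -⟩ := exists_eich P (P.perp.smul_mem (t * w) hv)
    obtain ⟨t2, ht2, -⟩ := exists_eich P hv
    obtain ⟨ho, e⟩ := eich_comm_elt P (P.perp.smul_mem (t * w) hv) hv ht1 ht2
    have h := Subgroup.commutator_mem_commutator
      (eich_mem_J0 P0 (P.perp.smul_mem (t * w) hv) (by rw [C.form_smul_left, hvu, mul_zero]) ht1)
      (eich_mem_J0 P0 hv hvu ht2)
    rw [e] at h
    refine (P.eich_congr rfl ?_ : P.eich 0 P.perp.zero_mem t ht = P.eich 0 P.perp.zero_mem _ ho) ▸ h
    rw [C.form_smul_left, C.form_smul_right, hvv, mul_one, mul_one, map_mul, ht0]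
    linear_combination (-t) * hw
  -- translations
  let W : (Fin (2 + (1 + l)) → F) → Prop := fun w => ∃ hw t ht, P.eich w hw t ht ∈ S
  have h0 : W 0 := ⟨P.perp.zero_mem, 0, by simp [C.form_zero_left], hc ⟨0, _, rfl⟩⟩
  have hadd : ∀ v w, W v → W w → W (v + w) := fun v w ⟨hv, s, hs, h1⟩ ⟨hw, t, ht, h2⟩ => by
    have := mul_mem h1 h2
    rw [P.eich_mul] at this
    exact ⟨_, _, _, this⟩
  have hbv : ∀ i : Fin (1 + l), i ≠ 0 → ∀ c : F, W (c • bv i) := by
    intro i hi c
    obtain ⟨j, hj0, hji⟩ : ∃ j : Fin (1 + l), j ≠ 0 ∧ j ≠ i := by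
      by_cases h : i = ⟨1, by omega⟩
      · exact ⟨⟨2, by omega⟩, by simp [Fin.ext_iff], by rw [h]; simp [Fin.ext_iff]⟩
      · exact ⟨⟨1, by omega⟩, by simp [Fin.ext_iff], Ne.symm h⟩
    obtain ⟨u, hu, hord⟩ := exists_unit_gen (C := C) hF
    have hu1 : u ≠ 1 := fun e => by
      have := Nat.le_of_dvd one_pos (hord 1 (by rw [pow_one, e]))
      omega
    let d : Fin (1 + l) → F := Function.update (Function.update (fun _ => 1) j (C.bar u)) i u
    have hd : ∀ x, d x * C.bar (d x) = 1 := fun x => by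
      simp only [d, Function.update_apply]
      split
      · exact hu
      · split
        · rw [C.bar_bar, mul_comm, hu]
        · rw [map_one, one_mul]
    have hpr : ∏ x, d x = C.bar 1 / 1 := by
      rw [map_one, div_one, Finset.prod_update_of_mem (Finset.mem_univ _),
        Finset.prod_update_of_mem (by simp [hji])]
      simp [hu]
    obtain ⟨L, hL, hLx⟩ := exists_dg P0 one_ne_zero d hd hpr
    have hLbv : ∀ x, L.1.1 *ᵥ bv x = d x • bv x := fun x => by
      rw [bv, hLx, app_smul, smul_zero]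
      congr 1
      funext y
      rw [Pi.smul_apply, Pi.single_apply, smul_eq_mul]
      split
      · next h => rw [h]
      · rw [mul_zero, mul_zero]
    have hd0 : d 0 = 1 := by simp [d, Function.update_apply, Ne.symm hi, Ne.symm hj0]
    have hLJ : L ∈ J0 P0 l := (mem_J0 P0).2 ⟨by rw [hLbv, hd0, one_smul], by rw [hL.1, one_smul]⟩
    set c' := c / (u - 1)
    have hv : c' • bv i ∈ P.perp := P.perp.smul_mem _ (bv_mem P0 i)
    have hvu : C.form (c' • bv i) (bv (0 : Fin (1 + l)) : Fin (2 + (1 + l)) → F) = 0 := by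
      rw [C.form_smul_left, form_bv, if_neg hi, mul_zero]
    obtain ⟨t, ht, hm⟩ := exists_eich P hv
    obtain ⟨ht', e⟩ := UPair.Diag.conj_eich hL hv ht
    have h := Subgroup.commutator_mem_commutator hLJ (eich_mem_J0 P0 hv hvu ht)
    rw [commutatorElement_def, e] at h
    obtain ⟨v, hvm, s, hs, e'⟩ := inv_mem (P.eich_mem _ hv t ht)
    rw [e', P.eich_mul] at h
    have hneg : v = -(c' • bv i) := by
      have h1 : P.eich (c' • bv i) hv t ht * P.eich v hvm s hs = 1 := by rw [← e', mul_inv_cancel]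
      rw [P.eich_mul] at h1
      have h4 : (1 : ↥(Cfsg.SU (2 + (1 + l)) F q)) = P.eich 0 P.perp.zero_mem 0 (by simp [C.form_zero_left]) :=
        su_ext fun x => by rw [su_one_mulVec, P.eich_mulVec, C.form_zero_right]; simp
      exact eq_neg_of_add_eq_zero_right (P.eich_inj (hw := P.perp.add_mem hv hvm) (hw' := P.perp.zero_mem)
        (ht := P.eich_cond_mul ht hs) (ht' := by simp [C.form_zero_left]) (h1.trans h4)).1
    have e2 : C.bar 1 • (L.1.1 *ᵥ (c' • bv i)) + v = c • bv i := by
      rw [hneg, map_one, one_smul, Matrix.mulVec_smul, hLbv, smul_smul, ← sub_eq_add_neg, ← sub_smul,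
        show c' * d i - c' = c from ?_]
      rw [show d i = u by simp [d], ← mul_sub_one, div_mul_cancel₀ _ (sub_ne_zero.2 hu1)]
    have h3 : W (C.bar 1 • (L.1.1 *ᵥ (c' • bv i)) + v) := ⟨_, _, _, h⟩
    rwa [e2] at h3
  have hW : ∀ y : Fin (1 + l) → F, y 0 = 0 → W (∑ i, y i • bv i) := fun y hy => by
    refine Finset.sum_induction _ W hadd h0 fun i _ => ?_
    by_cases hi : i = 0
    · rw [hi, hy, zero_smul]; exact h0
    · exact hbv i hi _
  -- the Levi factor
  let K := ((kB (C := C) 1 l).range).map (kB (C := C) 2 (1 + l))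
  have hKJ : K ≤ J0 P0 l := by
    rintro _ ⟨A, hA, rfl⟩
    refine (mem_J0 P0).2 ⟨?_, ?_⟩
    · rw [bv, kB_app]
      congr 1
      have : (Pi.single (0 : Fin (1 + l)) (1 : F)) = e0 l := by
        funext x
        induction x using Fin.addCases with
        | left x =>
          rw [Subsingleton.elim x 0, e0, Fin.append_left, show Fin.castAdd l (0 : Fin 1) = 0 from Fin.ext (by simp),
            Pi.single_eq_same]; rfl
        | right x => rw [e0, Fin.append_right]; simp [Fin.ext_iff]
      rw [this]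
      exact range_kB_one.1 hA
    · show _ *ᵥ ext P0.e 0 = ext P0.e 0
      rw [kB_app, Matrix.mulVec_zero]
  have hKS : K ≤ S := by
    refine le_trans ?_ (Subgroup.commutator_mono hKJ hKJ)
    rw [show ⁅K, K⁆ = (⁅(kB (C := C) 1 l).range, (kB (C := C) 1 l).range⁆).map (kB (C := C) 2 (1 + l)) from
      (Subgroup.map_commutator _ _ _).symm]
    exact Subgroup.map_mono (range_perfect _ hp)
  intro X hX
  obtain ⟨hXu, hXe⟩ := (mem_J0 P0).1 hX
  set z := X.1.1 *ᵥ P.f with hz
  have hze : C.form z P.e = 1 := by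
    rw [hz]
    conv_lhs => arg 3; rw [← hXe]
    rw [C.form_su, P.fe]
  have hzz : C.form z z = 0 := by rw [hz, C.form_su, P.ff]
  have ht : C.form z P.f + C.bar (C.form z P.f) + C.form (P.proj z) (P.proj z) = 0 := by
    have h2 := P.form_decomp z z
    rw [hzz, hze, map_one] at h2
    linear_combination -h2
  have hwu : C.form (P.proj z) (bv (0 : Fin (1 + l))) = 0 := by
    have h1 : C.form z (bv (0 : Fin (1 + l))) = 0 := by
      rw [hz]
      conv_lhs => arg 3; rw [← hXu]
      rw [C.form_su, C.form_swap_zero (bv_mem P0 _).2]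
    simp only [UPair.proj, C.form_sub_left, C.form_smul_left, h1,
      show C.form P.e (bv (0 : Fin (1 + l))) = 0 from C.form_swap_zero (bv_mem P0 _).1,
      show C.form P.f (bv (0 : Fin (1 + l))) = 0 from C.form_swap_zero (bv_mem P0 _).2]
    simp
  have hh := eich_mem_J0 P0 (P.proj_mem z) hwu ht
  set h := P.eich (P.proj z) (P.proj_mem z) (C.form z P.f) ht with hdef
  have hhS : h ∈ S := by
    obtain ⟨hw, t, ht', hmem⟩ : W (P.proj z) := by
      rw [perp_span P0 (P.proj_mem z)]
      refine hW _ ?_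
      have := hwu
      conv at this => rw [perp_span P0 (P.proj_mem z)]
      rw [C.form_sum_left] at this
      simpa [C.form_smul_left, form_bv] using this
    have h2 : (C.form z P.f - t) + C.bar (C.form z P.f - t) + C.form (0 : Fin (2 + (1 + l)) → F) 0 = 0 := by
      rw [C.form_zero_left, map_sub]; linear_combination ht - ht'
    have e : h = P.eich (P.proj z) hw t ht' * P.eich 0 P.perp.zero_mem (C.form z P.f - t) h2 := by
      rw [hdef, P.eich_mul]
      exact P.eich_congr (add_zero _).symm (by rw [C.form_zero_left]; ring)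
    rw [e]
    exact mul_mem hmem (hc ⟨_, _, rfl⟩)
  have hY : h⁻¹ * X ∈ K := by
    have hYJ : h⁻¹ * X ∈ J0 P0 l := mul_mem (inv_mem hh) hX
    obtain ⟨hYu, hYe⟩ := (mem_J0 P0).1 hYJ
    have hYf : (h⁻¹ * X).1.1 *ᵥ P.f = P.f := by
      rw [suMat_mulVec_mul, ← hz]
      conv_lhs => rw [show z = h.1.1 *ᵥ P.f by
        rw [hdef, P.eich_f]; conv_lhs => rw [P.decomp z, hze, one_smul]
        abel]
      exact su_inv_mulVec h P.f
    obtain ⟨A, hA⟩ : h⁻¹ * X ∈ (kB (C := C) 2 (1 + l)).range := by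
      refine mem_range_kB.2 fun x => ?_
      have e : ext x (0 : Fin (1 + l) → F) = C.form x P0.f • P.e + C.form x P0.e • P.f := by
        obtain ⟨u, -, -, hu⟩ := P0.exists_basis
        have hp0 : P0.proj x = 0 := by simpa using hu _ (P0.proj_mem x)
        conv_lhs => rw [P0.decomp x, hp0, add_zero]
        show _ = _ • ext P0.e 0 + _ • ext P0.f 0
        rw [app_smul, app_smul, app_add, smul_zero, smul_zero, add_zero]
      rw [e, Matrix.mulVec_add, Matrix.mulVec_smul, Matrix.mulVec_smul, hYe, hYf]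
    refine ⟨A, range_kB_one.2 ?_, hA⟩
    rw [← hA, bv, kB_app] at hYu
    have := congrArg rc hYu
    rw [rc_append, rc_append] at this
    have e : (Pi.single (0 : Fin (1 + l)) (1 : F)) = e0 l := by
      funext x
      induction x using Fin.addCases with
      | left x =>
          rw [Subsingleton.elim x 0, e0, Fin.append_left, show Fin.castAdd l (0 : Fin 1) = 0 from Fin.ext (by simp),
            Pi.single_eq_same]; rfl
      | right x => rw [e0, Fin.append_right]; simp [Fin.ext_iff]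
    rwa [e] at this
  rw [← mul_inv_cancel_left h X]
  exact mul_mem hhS (hKS hY)

end CfsgLib.Lie.Mult.Unit
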