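import Cfsg.Agent.Lib.Lie.Mult.Unit.Monomial
import Cfsg.Agent.Lib.Lie.Mult.Unit.PPart

/-!
# No multiplier for the three dimensional groups over fields with at least sixteen elements
-/

set_option autoImplicit false
set_option linter.all false

namespace CfsgLib.Lie.Mult.Unit

open Matrix CfsgLib.SU CfsgLib.Classical.HermStab CfsgLib.Classical.HermTori
open scoped commutatorElement

universe u

variable {F : Type u} [Field F] [Fintype F] {q m : ℕ} {C : UCtx F q}

theorem line_pow {u : F} {g : ↥(Cfsg.SU (1 + m) F q)} (hg : g.1.1 *ᵥ e0 m = u • e0 m) (i : ℕ) :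
    (g ^ i).1.1 *ᵥ e0 m = u ^ i • e0 m := by
  induction i with
  | zero => rw [pow_zero, pow_zero, su_one_mulVec, one_smul]
  | succ i ih => rw [pow_succ, suMat_mulVec_mul, hg, Matrix.mulVec_smul, ih, smul_smul, pow_succ, mul_comm (u ^ i)]

include C in
/-- the diagonal group lies in a line stabiliser -/
theorem diagT_le_levi {u : F} (hu : u * C.bar u = 1) (hord : ∀ j, u ^ j = 1 → q + 1 ∣ j)
    {g : ↥(Cfsg.SU (1 + m) F q)} (hgx : ∀ x : Fin (1 + m) → F, g.1.1 *ᵥ x = fun l : Fin (1 + m) =>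
        (if (l : ℕ) = 0 then u else if (l : ℕ) = 1 then C.bar u else 1) * x l) :
    diagT C (1 + m) ≤ (kB (C := C) 1 m).range ⊔ Subgroup.zpowers g := by
  rintro X ⟨d, hd, hX⟩
  have he : ∀ (c : Fin (1 + m) → F) (a : F), c (Fin.castAdd m 0) = a →
      (fun l => c l * e0 m l) = a • (e0 m : Fin (1 + m) → F) := fun c a h => by
    funext l
    induction l using Fin.addCases with
    | left l => rw [Subsingleton.elim l 0]; simp [e0, h]
    | right l => simp [e0]
  obtain ⟨i, hi⟩ := exists_pow_eq (C := C) hu hord (hd (Fin.castAdd m 0))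
  have hg : g.1.1 *ᵥ e0 m = u • e0 m := by
    rw [hgx]
    exact he _ u (if_pos rfl)
  have h1 : ((g ^ i)⁻¹ * X) ∈ (kB (C := C) 1 m).range := by
    rw [range_kB_one, suMat_mulVec_mul, hX, he d _ rfl, ← hi, ← line_pow hg, su_inv_mulVec]
  rw [← mul_inv_cancel_left (g ^ i) X]
  exact mul_mem (Subgroup.mem_sup_right (Subgroup.npow_mem_zpowers g i)) (Subgroup.mem_sup_left h1)

theorem card_diagT_three (hF : Fintype.card F = q ^ 2) : Nat.card ↥(diagT C 3) = (q + 1) * (q + 1) := by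
  classical
  rw [← C.card_unitOne hF, ← Nat.card_prod]
  have hm : ∀ z : ↥C.unitOne × ↥C.unitOne, ∀ i : Fin 3,
      (![((z.1 : Fˣ) : F), ((z.2 : Fˣ) : F), ((((z.1 * z.2)⁻¹ : ↥C.unitOne) : Fˣ) : F)] i) *
        C.bar (![((z.1 : Fˣ) : F), ((z.2 : Fˣ) : F), ((((z.1 * z.2)⁻¹ : ↥C.unitOne) : Fˣ) : F)] i) = 1 := fun z i => by
    fin_cases i
    · exact C.mem_unitOne.1 z.1.2
    · exact C.mem_unitOne.1 z.2.2
    · exact C.mem_unitOne.1 ((z.1 * z.2)⁻¹).2
  have hp : ∀ z : ↥C.unitOne × ↥C.unitOne,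
      ∏ i, (![((z.1 : Fˣ) : F), ((z.2 : Fˣ) : F), ((((z.1 * z.2)⁻¹ : ↥C.unitOne) : Fˣ) : F)] i) = 1 := fun z => by
    rw [Fin.prod_univ_three]
    show ((z.1 : Fˣ) : F) * ((z.2 : Fˣ) : F) * ((((z.1 * z.2)⁻¹ : ↥C.unitOne) : Fˣ) : F) = 1
    rw [← Units.val_mul, ← Units.val_mul, ← Units.val_one, ← Subgroup.coe_mul, ← Subgroup.coe_mul, mul_inv_cancel,
      Subgroup.coe_one]
  refine (Nat.card_eq_of_bijective (fun z => (⟨dgn _ (hm z) (hp z), _, hm z, dgn_mulVec _ (hm z) (hp z)⟩ :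
    ↥(diagT C 3))) ⟨fun z w e => ?_, fun X => ?_⟩).symm
  · have h := congrArg (fun Y : ↥(diagT C 3) => Y.1.1.1 *ᵥ (fun _ => (1 : F))) e
    simp only [dgn_mulVec, mul_one] at h
    exact Prod.ext (Subtype.ext (Units.ext (congrFun h 0))) (Subtype.ext (Units.ext (congrFun h 1)))
  · obtain ⟨X, d, hd, hX⟩ := X
    have hp' := diag_prod hX
    rw [Fin.prod_univ_three] at hp'
    let uu : Fin 3 → ↥C.unitOne := fun i => ⟨Units.mk0 (d i) (fun h => by
      have := hd i
      rw [h, zero_mul] at this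
      exact zero_ne_one this), C.mem_unitOne.2 (hd i)⟩
    refine ⟨(uu 0, uu 1), Subtype.ext (su_ext fun x => ?_)⟩
    show (dgn _ (hm _) (hp _)).1.1 *ᵥ x = X.1.1 *ᵥ x
    rw [dgn_mulVec, hX]
    funext i
    fin_cases i
    · rfl
    · rfl
    · show ((((uu 0 * uu 1)⁻¹ : ↥C.unitOne) : Fˣ) : F) * x 2 = d 2 * x 2
      congr 1
      rw [Subgroup.coe_inv, Units.val_inv_eq_inv_val, Subgroup.coe_mul, Units.val_mul]
      show (d 0 * d 1)⁻¹ = d 2
      exact inv_eq_of_mul_eq_one_right hp'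

include C in
/-- the torus element of order `k` in dimension three -/
theorem three_torus {p a : ℕ} [Fact p.Prime] (hq : q = p ^ a) (hF : Fintype.card F = q ^ 2) {ℓ : ℕ}
    [hℓ : Fact ℓ.Prime] (hℓ3 : ℓ ≠ 3) (hℓq : ¬ ℓ ∣ q) {w : ℕ} (hw : q = w + 1) (hd : ℓ ∣ w * w + w + 1) :
    NoP ℓ ↥(Cfsg.SU 3 F q) := by
  haveI : CharP F p := charP_of_card_eq_prime_pow (f := a * 2) (by rw [hF, hq, ← pow_mul])
  have hK : K q 3 = w * w + w + 1 := by
    rw [hw, show (3 : ℕ) = 2 * 1 + 1 from rfl, K_odd, Nat.add_sub_cancel, G]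
    simp
    ring
  obtain ⟨A, hA⟩ := exists_torus C hq hF (m := 3) (by norm_num) (dvd_refl (K q 3))
  have hcard := card_su_three (C := C) hF
  refine nop_of_element (A := A) (r := q ^ 3 * ((q ^ 2 - 1) * (q + 1))) ?_ ?_
  · rw [hcard, hA, show q ^ 3 + 1 = K q 3 * (q + 1) by rw [hw]; exact (K_odd_mul w 1).symm]
    ring
  · intro h
    have h0 : ((w : ZMod ℓ) * w + w + 1) = 0 := by
      have := (ZMod.natCast_eq_zero_iff _ ℓ).2 hd
      simpa using this
    have hq0 : ((w : ZMod ℓ) + 1) ≠ 0 := by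
      intro e
      refine hℓq ((ZMod.natCast_eq_zero_iff _ ℓ).1 ?_)
      rw [hw]; simpa using e
    have h3 : (3 : ZMod ℓ) ≠ 0 := by
      intro e
      have : ℓ ∣ 3 := (ZMod.natCast_eq_zero_iff _ ℓ).1 (by simpa using e)
      exact hℓ3 ((Nat.prime_dvd_prime_iff_eq hℓ.out Nat.prime_three).1 this)
    have h1 := (ZMod.natCast_eq_zero_iff _ ℓ).2 h
    rw [hw, show (w + 1) ^ 2 - 1 = w * (w + 2) from by rw [show (w + 1) ^ 2 = w * (w + 2) + 1 by ring, Nat.add_sub_cancel]] at h1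
    push_cast at h1
    rcases mul_eq_zero.1 h1 with e | e
    · exact hq0 (pow_eq_zero_iff (by norm_num) |>.1 e)
    rcases mul_eq_zero.1 e with e | e
    rcases mul_eq_zero.1 e with e | e
    · exact one_ne_zero (α := ZMod ℓ) (by linear_combination h0 - ((w : ZMod ℓ) + 1) * e)
    · exact h3 (by linear_combination h0 - ((w : ZMod ℓ) - 1) * e)
    · exact h3 (by linear_combination h0 - ((w : ZMod ℓ) - 1) * e)

include C in
/-- the monomial case -/
theorem three_monomial (hF : Fintype.card F = q ^ 2) (hq : 4 ≤ q) [Fact (Nat.Prime 3)] (hd : 3 ∣ q + 1) :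
    NoP 3 ↥(Cfsg.SU 3 F q) := by
  classical
  have hp2 := su_two_perfect (C := C) hF hq
  have h3q : ¬ 3 ∣ q := fun h => by omega
  have hperf : commutator ↥(Cfsg.SU 3 F q) = ⊤ :=
    CfsgLib.Classical.WeilSU.su_perfect hF le_rfl (by omega)
  obtain ⟨g, hn, -, u, hu, hord, hgx⟩ := exists_levi (C := C) (m := 2) hF le_rfl
  let π : Equiv.Perm (Fin 3) := finRotate 3
  have hs : Equiv.Perm.sign π = 1 := by decide
  let s : ↥(Cfsg.SU 3 F q) := pm C π hs
  have hs3 : ∀ i : ℕ, s ^ i ∈ diagT C 3 ↔ 3 ∣ i := by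
    have h3 : s ^ 3 = 1 := su_ext fun x => by
      rw [pm_pow, su_one_mulVec, show π ^ 3 = 1 by decide]; rfl
    intro i
    constructor
    · intro hi
      rw [← Nat.div_add_mod i 3, pow_add, pow_mul, h3, one_pow, one_mul] at hi
      obtain ⟨d, hd', hX⟩ := hi
      have h := congrFun ((pm_pow π hs (i % 3) (Pi.single 0 1)).symm.trans (hX _))
      refine Nat.dvd_of_mod_eq_zero ?_
      have hlt := Nat.mod_lt i (show 0 < 3 by norm_num)
      by_contra hne
      rcases (show i % 3 = 1 ∨ i % 3 = 2 by omega) with e | e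
      · have h2 := h 2
        rw [e, pow_one] at h2
        simp [π, Pi.single_apply, Fin.ext_iff] at h2
      · have h1 := h 1
        rw [e] at h1
        simp [π, Pi.single_apply, Fin.ext_iff, sq] at h1
    · rintro ⟨t, rfl⟩
      rw [pow_mul, h3, one_pow]
      exact one_mem _
  have hnT : ∀ x ∈ diagT C 3, s * x * s⁻¹ ∈ diagT C 3 := fun x hx => pm_norm_diag π hs hx
  have hidx : ¬ 3 ∣ ((diagT C 3) ⊔ Subgroup.zpowers s).index := by
    intro h
    have hi := Subgroup.card_mul_index ((diagT C 3) ⊔ Subgroup.zpowers s)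
    rw [card_sup_zpow (by norm_num) hnT hs3, card_diagT_three (C := C) hF, card_su_three (C := C) hF] at hi
    obtain ⟨c, hc⟩ := h
    obtain ⟨j, hj⟩ : ∃ j, q = 3 * j + 2 := ⟨q / 3, by omega⟩
    rw [hc, hj, show (3 * j + 2) ^ 2 - 1 = (3 * j + 1) * (3 * j + 3) by
        rw [show (3 * j + 2) ^ 2 = (3 * j + 1) * (3 * j + 3) + 1 by ring, Nat.add_sub_cancel],
      show (3 * j + 2) ^ 3 + 1 = (3 * j + 3) * (9 * j * j + 9 * j + 3) by ring] at hi
    have h2 : 3 * c = (3 * j + 2) ^ 3 * (3 * j + 1) * (3 * j * j + 3 * j + 1) := by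
      refine Nat.eq_of_mul_eq_mul_left (show 0 < (3 * j + 3) * (3 * j + 3) * 3 by positivity) ?_
      linear_combination hi
    rcases (Fact.out : Nat.Prime 3).dvd_mul.1 (Dvd.intro c h2) with h | h
    · rcases (Fact.out : Nat.Prime 3).dvd_mul.1 h with h | h
      · have := (Fact.out : Nat.Prime 3).dvd_of_dvd_pow h
        omega
      · omega
    · rw [show 3 * j * j + 3 * j + 1 = 3 * (j * j + j) + 1 by ring] at h
      omega
  refine nop_of_flat fun Γ _ _ σ hσ hcard => ⟨_, hidx, ?_⟩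
  obtain ⟨h₀, hh₀⟩ := hσ.1 s
  have hT : Flat σ (diagT C 3) := flat_cyclic hσ.2.1 hσ.1
    (flat_range (kB_injective 1 2) hp2 (nop_su_two (C := C) hF h3q) hσ.1 hσ.2.1 hcard)
    (range_perfect _ hp2) hn (diagT_le_levi (C := C) (m := 2) hu hord hgx)
  refine flat_wreath (h₀ := h₀) hσ.2.1 hσ.1 (by rw [hh₀]; exact hnT) hT (fun a ha hc => ?_) (by rw [hh₀])
  rw [diagT_abelian, Subgroup.mem_bot, hh₀, commutatorElement_eq_one_iff_commute] at hc
  obtain ⟨d, hd', hX⟩ := ha
  have hrot : ∀ i, d (π i) = d i := fun i => by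
    have h := pm_conj_diag (C := C) π hs hX (fun _ => (1 : F))
    rw [show pm C π hs * σ a = σ a * pm C π hs from hc.eq, mul_inv_cancel_right, hX] at h
    simpa using (congrFun h i).symm
  have hsc : (σ a).1.1 = d 0 • (1 : Matrix (Fin 3) (Fin 3) F) := Matrix.ext_iff_mulVec.2 fun x => by
    rw [hX, Matrix.smul_mulVec, Matrix.one_mulVec]
    have h0 : d 1 = d 0 := hrot 0
    have h1 : d 2 = d 1 := hrot 1
    funext i
    fin_cases i <;> simp [h0, h1]
  have hca := Orth.mem_center_of_over σ hσ.2.1 (perfect_of_stem hσ hperf)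
    (Subgroup.mem_center_iff.2 (scalar_central hsc))
  rw [commutatorElement_eq_one_iff_commute.2 (show Commute h₀ a from Subgroup.mem_center_iff.1 hca h₀)]
  exact one_mem _

include C in
/-- no multiplier in dimension three -/
theorem nop_three {p a : ℕ} [Fact p.Prime] (hq' : q = p ^ a) (hF : Fintype.card F = q ^ 2) (hq : 4 ≤ q)
    {ℓ : ℕ} [hℓ : Fact ℓ.Prime] : NoP ℓ ↥(Cfsg.SU 3 F q) := by
  by_cases hℓq : ℓ ∣ q
  · exact nop_char_three (C := C) hℓq hF (by omega)
  obtain ⟨w, hw⟩ : ∃ w, q = w + 1 := ⟨q - 1, by omega⟩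
  by_cases hd : ℓ ∣ w * w + w + 1
  · by_cases h3 : ℓ = 3
    · subst h3
      refine three_monomial (C := C) hF hq ?_
      have h : (w * w + w + 1) % 3 = 0 := Nat.mod_eq_zero_of_dvd hd
      rw [Nat.dvd_iff_mod_eq_zero] at hℓq ⊢
      have h3 := Nat.mod_lt w (show 0 < 3 by norm_num)
      rw [Nat.add_mod, Nat.add_mod (w * w), Nat.mul_mod] at h
      subst hw
      interval_cases hr : w % 3 <;> omega
    · exact three_torus (C := C) hq' hF h3 hℓq hw hd
  · refine nop_levi (C := C) (m := 2) hF le_rfl (su_two_perfect (C := C) hF hq) (nop_su_two (C := C) hF hℓq) ?_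
    intro i hi hdi
    rw [if_pos even_two, hw, ← K_odd_mul w 1, show K (w + 1) (2 * 1 + 1) = w * w + w + 1 by
      rw [K_odd, Nat.add_sub_cancel, G]; simp; ring, ← mul_assoc] at hi
    have := Nat.eq_of_mul_eq_mul_right (show 0 < w + 1 + 1 by omega) hi
    rw [this, ← hw] at hdi
    rcases hℓ.out.dvd_mul.1 hdi with h | h
    · exact hℓq (hℓ.out.dvd_of_dvd_pow h)
    · exact hd h

end CfsgLib.Lie.Mult.Unit
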